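/-
The conjugate of an involution which generates a two-group with a second one.
-/
import Mathlib.GroupTheory.OrderOfElement
import Mathlib.GroupTheory.PGroup

set_option autoImplicit false

namespace CfsgLib.Geo.TensorWreath

variable {G : Type*} [Group G] [Finite G]

theorem exists_two_power {r s : G} (hr : r * r = 1) (hs : s * s = 1) :
    ∃ z ∈ Subgroup.zpowers (r * s), IsPGroup 2 (Subgroup.closure {r, z * s * z⁻¹}) ∧
      (z * s * z⁻¹ = r ∨ ∃ u, u ≠ 1 ∧ u * u = 1 ∧ Commute u r ∧ Commute u s ∧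
        ∃ n, u = (r * (z * s * z⁻¹)) ^ 2 ^ n ∧ (n = 0 → Commute r (z * s * z⁻¹))) := by
  have hr' : r⁻¹ = r := inv_eq_of_mul_eq_one_right hr
  have hs' : s⁻¹ = s := inv_eq_of_mul_eq_one_right hs
  set c := r * s
  have hsc : ∀ k : ℤ, s * c ^ k * s⁻¹ = c ^ (-k) := fun k => by
    rw [← conj_zpow, zpow_neg, ← inv_zpow]
    congr 1
    simp [c, hs', hr', hs, mul_assoc]
  have hrc : ∀ k : ℤ, r * c ^ k * r⁻¹ = c ^ (-k) := fun k => by
    rw [← conj_zpow, zpow_neg, ← inv_zpow]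
    congr 1
    rw [show r * c * r⁻¹ = (r * r) * s * r⁻¹ by simp [c, mul_assoc], hr, one_mul, _root_.mul_inv_rev, hs']
  obtain ⟨a, d, ⟨e, rfl⟩, hn⟩ := Nat.exists_eq_two_pow_mul_odd (n := orderOf c) (orderOf_pos c).ne'
  set j : ℤ := (e : ℤ) + 1
  set z := c ^ j
  set q := r * (z * s * z⁻¹)
  have hq : q = c ^ (-(2 * (e : ℤ) + 1)) := by
    have h1 : z * s * z⁻¹ = c ^ (2 * j) * s := by
      have h2 := hsc (-j)
      rw [neg_neg] at h2
      calc z * s * z⁻¹ = c ^ j * (s * c ^ (-j) * s⁻¹) * s := by simp only [z, zpow_neg]; group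
        _ = _ := by rw [h2, ← zpow_add, two_mul]
    calc q = r * c ^ (2 * j) * r⁻¹ * c := by simp only [q, h1, c]; group
      _ = c ^ (-(2 * j)) * c := by rw [hrc]
      _ = _ := by
          rw [← zpow_add_one]
          congr 1
  have hqa : q ^ 2 ^ a = 1 := by
    rw [hq, ← zpow_natCast, ← zpow_mul, ← orderOf_dvd_iff_zpow_eq_one, hn]
    push_cast
    exact ⟨-1, by ring⟩
  have hzs : z * s * z⁻¹ * (z * s * z⁻¹) = 1 := by
    rw [show z * s * z⁻¹ * (z * s * z⁻¹) = z * (s * s) * z⁻¹ by group, hs, mul_one, mul_inv_cancel]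
  have hrq : r * q * r⁻¹ = q⁻¹ := by rw [hq, hrc, zpow_neg]
  refine ⟨z, Subgroup.zpow_mem _ (Subgroup.mem_zpowers c) j, ?_, ?_⟩
  · intro ⟨x, hx⟩
    have key : ∃ k : ℤ, x = q ^ k ∨ x = q ^ k * r := by
      induction hx using Subgroup.closure_induction with
      | mem x hx =>
        rcases hx with rfl | rfl
        · exact ⟨0, Or.inr (by simp)⟩
        · refine ⟨-1, Or.inr ?_⟩
          rw [zpow_neg_one, _root_.mul_inv_rev, inv_mul_cancel_right, inv_eq_of_mul_eq_one_right hzs]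
      | one => exact ⟨0, Or.inl (by simp)⟩
      | mul x y _ _ ih ih' =>
        obtain ⟨k, hk⟩ := ih
        obtain ⟨l, hl⟩ := ih'
        have hcomm : r * q ^ l = q ^ (-l) * r := by
          rw [zpow_neg, ← inv_zpow, ← hrq, conj_zpow, inv_mul_cancel_right]
        rcases hk with rfl | rfl <;> rcases hl with rfl | rfl
        · exact ⟨k + l, Or.inl (by rw [zpow_add])⟩
        · exact ⟨k + l, Or.inr (by rw [zpow_add, mul_assoc])⟩
        · exact ⟨k - l, Or.inr (by rw [mul_assoc, hcomm, ← mul_assoc, ← zpow_add, sub_eq_add_neg])⟩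
        · refine ⟨k - l, Or.inl ?_⟩
          rw [mul_assoc, ← mul_assoc r, hcomm, mul_assoc (q ^ (-l)), hr, mul_one, ← zpow_add, sub_eq_add_neg]
      | inv x _ ih =>
        obtain ⟨k, hk⟩ := ih
        rcases hk with rfl | rfl
        · exact ⟨-k, Or.inl (by rw [zpow_neg])⟩
        · refine ⟨k, Or.inr ?_⟩
          have hcomm : r * q ^ k = q ^ (-k) * r := by
            rw [zpow_neg, ← inv_zpow, ← hrq, conj_zpow, inv_mul_cancel_right]
          refine inv_eq_of_mul_eq_one_right ?_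
          rw [mul_assoc, ← mul_assoc r, hcomm, mul_assoc (q ^ (-k)), hr, mul_one, ← zpow_add, add_neg_cancel, zpow_zero]
    obtain ⟨k, hk⟩ := key
    refine ⟨a + 1, Subtype.ext ?_⟩
    show x ^ 2 ^ (a + 1) = 1
    rcases hk with rfl | rfl
    · rw [← zpow_natCast, ← zpow_mul, mul_comm, zpow_mul, zpow_natCast, pow_succ, pow_mul, hqa, one_pow, one_zpow]
    · have hcomm : r * q ^ k = q ^ (-k) * r := by
        rw [zpow_neg, ← inv_zpow, ← hrq, conj_zpow, inv_mul_cancel_right]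
      rw [pow_succ', pow_mul, pow_two, mul_assoc, ← mul_assoc r, hcomm, mul_assoc (q ^ (-k)), hr, mul_one,
        ← zpow_add, add_neg_cancel, zpow_zero, one_pow]
  · by_cases hq1 : q = 1
    · left
      rw [show z * s * z⁻¹ = r⁻¹ * q by simp [q], hq1, mul_one, hr']
    right
    haveI : Fact (Nat.Prime 2) := ⟨Nat.prime_two⟩
    obtain ⟨b, -, hb⟩ := (Nat.dvd_prime_pow Nat.prime_two).1 (orderOf_dvd_of_pow_eq_one hqa)
    obtain ⟨n, rfl⟩ : ∃ n, b = n + 1 :=
      Nat.exists_eq_succ_of_ne_zero fun h => hq1 (orderOf_eq_one_iff.1 (by rw [hb, h, pow_zero]))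
    set u := q ^ 2 ^ n
    have hu2 : u * u = 1 := by rw [← pow_two, ← pow_mul, ← pow_succ, ← hb, pow_orderOf_eq_one]
    have huc : u = c ^ (-(2 * (e : ℤ) + 1) * (2 ^ n : ℕ)) := by simp only [u]; rw [hq, ← zpow_natCast, ← zpow_mul]
    have huinv : u⁻¹ = u := inv_eq_of_mul_eq_one_right hu2
    refine ⟨u, fun h => ?_, hu2, ?_, ?_, n, rfl, fun h0 => ?_⟩
    · have h1 := orderOf_dvd_of_pow_eq_one h
      rw [hb] at h1
      exact absurd (Nat.le_of_dvd (pow_pos two_pos n) h1) (not_le.2 (Nat.pow_lt_pow_right one_lt_two (Nat.lt_succ_self n)))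
    · have h1 : r * u * r⁻¹ = u := by rw [huc, hrc, zpow_neg, ← huc, huinv]
      exact (mul_inv_eq_iff_eq_mul.1 h1).symm
    · have h1 : s * u * s⁻¹ = u := by rw [huc, hsc, zpow_neg, ← huc, huinv]
      exact (mul_inv_eq_iff_eq_mul.1 h1).symm
    · subst h0
      have h1 : q * q = 1 := by simpa [u] using hu2
      have h2 := inv_eq_of_mul_eq_one_right h1
      rw [show q = r * (z * s * z⁻¹) from rfl, _root_.mul_inv_rev, inv_eq_of_mul_eq_one_right hzs, hr'] at h2
      exact h2.symm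

end CfsgLib.Geo.TensorWreath
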