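/-
An algebra of matrices on a tensor power, invariant under the transvections of the factors and the permutations of
the factors, which has a non-scalar member, is the whole matrix algebra.
-/
import Cfsg.Agent.Lib.Geo.SpinTensor.Basic
import Mathlib.Tactic.NoncommRing
import Mathlib.Tactic.Abel
import Mathlib.Algebra.BigOperators.Group.Finset.Piecewise

set_option autoImplicit false

namespace CfsgLib.Geo.TensorWreath

open Matrix CfsgLib.Geo.SpinTensor

variable {F : Type*} [Field F] {t m : ℕ}

/-- Matrix units on the factors in `J`, the identity on the others. -/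
def unitOn (J : Finset (Fin t)) (a b : Fin t → Fin m) : Matrix (Fin t → Fin m) (Fin t → Fin m) F :=
  SpinTensor.pure fun l => if l ∈ J then Matrix.single (a l) (b l) 1 else 1

theorem unitOn_apply (J : Finset (Fin t)) (a b x y : Fin t → Fin m) :
    unitOn (F := F) J a b x y =
      if (∀ l ∈ J, x l = a l ∧ y l = b l) ∧ (∀ l ∉ J, x l = y l) then 1 else 0 := by
  rw [unitOn, pure_apply]
  split_ifs with h
  · refine Finset.prod_eq_one fun l _ => ?_
    by_cases hl : l ∈ J
    · rw [if_pos hl, (h.1 l hl).1, (h.1 l hl).2, Matrix.single_apply_same]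
    · rw [if_neg hl, h.2 l hl, Matrix.one_apply_eq]
  · rw [not_and_or] at h
    push Not at h
    rcases h with ⟨l, hl, hne⟩ | ⟨l, hl, hne⟩
    · refine Finset.prod_eq_zero (Finset.mem_univ l) ?_
      rw [if_pos hl, Matrix.single_apply, if_neg]
      rintro ⟨h1, h2⟩
      exact hne h1.symm h2.symm
    · refine Finset.prod_eq_zero (Finset.mem_univ l) ?_
      rw [if_neg hl, Matrix.one_apply_ne hne]

theorem unitOn_empty (a b : Fin t → Fin m) : unitOn (F := F) ∅ a b = 1 := by
  rw [unitOn, ← pure_one]
  simp

theorem unitOn_congr {J : Finset (Fin t)} {a b a' b' : Fin t → Fin m} (ha : ∀ l ∈ J, a l = a' l)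
    (hb : ∀ l ∈ J, b l = b' l) : unitOn (F := F) J a b = unitOn J a' b' := by
  unfold unitOn
  congr 1
  funext l
  by_cases hl : l ∈ J
  · rw [if_pos hl, if_pos hl, ha l hl, hb l hl]
  · rw [if_neg hl, if_neg hl]

theorem pure_eq_zero {gs : Fin t → Matrix (Fin m) (Fin m) F} (l : Fin t) (h : gs l = 0) : SpinTensor.pure gs = 0 := by
  ext x y
  rw [pure_apply, Matrix.zero_apply]
  exact Finset.prod_eq_zero (Finset.mem_univ l) (by rw [h]; rfl)

theorem emb_single_apply_mul (j : Fin t) (a b : Fin m) (M : Matrix (Fin t → Fin m) (Fin t → Fin m) F)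
    (x y : Fin t → Fin m) :
    (emb j (Matrix.single a b (1 : F)) * M : Matrix (Fin t → Fin m) (Fin t → Fin m) F) x y = if x j = a then M (Function.update x j b) y else 0 := by
  rw [Matrix.mul_apply]
  split_ifs with h
  · rw [Finset.sum_eq_single (Function.update x j b)]
    · rw [emb_apply, if_pos (fun l hl => (Function.update_of_ne hl _ _).symm)]
      simp [h]
    · intro z _ hz
      rw [emb_apply]
      split_ifs with hall
      · rw [Matrix.single_apply, if_neg, zero_mul]
        rintro ⟨-, h2⟩
        refine hz (funext fun l => ?_)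
        by_cases hl : l = j
        · subst hl; rw [Function.update_self]; exact h2.symm
        · rw [Function.update_of_ne hl]; exact (hall l hl).symm
      · rw [zero_mul]
    · intro hn; exact absurd (Finset.mem_univ _) hn
  · refine Finset.sum_eq_zero fun z _ => ?_
    rw [emb_apply]
    split_ifs with hall
    · rw [Matrix.single_apply, if_neg (fun e => h e.1.symm), zero_mul]
    · rw [zero_mul]

theorem mul_emb_single_apply (j : Fin t) (a b : Fin m) (M : Matrix (Fin t → Fin m) (Fin t → Fin m) F)
    (x y : Fin t → Fin m) :
    (M * emb j (Matrix.single a b (1 : F)) : Matrix (Fin t → Fin m) (Fin t → Fin m) F) x y = if y j = b then M x (Function.update y j a) else 0 := by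
  rw [Matrix.mul_apply]
  split_ifs with h
  · rw [Finset.sum_eq_single (Function.update y j a)]
    · rw [emb_apply, if_pos (fun l hl => Function.update_of_ne hl _ _)]
      simp [h]
    · intro z _ hz
      rw [emb_apply]
      split_ifs with hall
      · rw [Matrix.single_apply, if_neg, mul_zero]
        rintro ⟨h1, -⟩
        refine hz (funext fun l => ?_)
        by_cases hl : l = j
        · subst hl; rw [Function.update_self]; exact h1.symm
        · rw [Function.update_of_ne hl]; exact hall l hl
      · rw [mul_zero]
    · intro hn; exact absurd (Finset.mem_univ _) hn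
  · refine Finset.sum_eq_zero fun z _ => ?_
    rw [emb_apply]
    split_ifs with hall
    · rw [Matrix.single_apply, if_neg (fun e => h e.2.symm), mul_zero]
    · rw [mul_zero]

theorem emb_mul_emb (j : Fin t) (X Y : Matrix (Fin m) (Fin m) F) : emb j X * emb j Y = emb j (X * Y) := by
  show SpinTensor.pure _ * SpinTensor.pure _ = SpinTensor.pure _
  rw [pure_mul]
  congr 1
  funext l
  by_cases hl : l = j
  · subst hl; simp
  · simp [Function.update_of_ne hl]

/-- An element of a finite set of size at least three avoiding two given ones. -/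
theorem exists_third (hm : 3 ≤ m) (a b : Fin m) : ∃ c : Fin m, c ≠ a ∧ c ≠ b := by
  obtain ⟨c, -, hc⟩ := Finset.exists_mem_notMem_of_card_lt_card (s := ({a, b} : Finset (Fin m))) (t := Finset.univ)
    (lt_of_le_of_lt Finset.card_le_two (by rw [Finset.card_univ, Fintype.card_fin]; omega))
  simp only [Finset.mem_insert, Finset.mem_singleton, not_or] at hc
  exact ⟨c, hc⟩

theorem sum_diag : ∑ p : Fin m, Matrix.single p p (1 : F) = 1 := by
  ext u w
  rw [Matrix.sum_apply, Matrix.one_apply]
  by_cases huw : u = w
  · subst huw; simp [Matrix.single_apply]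
  · rw [if_neg huw]
    refine Finset.sum_eq_zero fun p _ => ?_
    rw [Matrix.single_apply, if_neg]
    rintro ⟨rfl, rfl⟩
    exact huw rfl

variable {S : Matrix (Fin t → Fin m) (Fin t → Fin m) F → Prop} (hm : 3 ≤ m)
  (hadd : ∀ a b, S a → S b → S (a + b)) (hmul : ∀ a b, S a → S b → S (a * b))
  (hsmul : ∀ (c : F) a, S a → S (c • a))
  (hconj : ∀ (j : Fin t) (a b : Fin m), a ≠ b → ∀ θ, S θ →
    S ((1 + emb j (Matrix.single a b 1)) * θ * (1 - emb j (Matrix.single a b 1))))
  (hperm : ∀ (j k : Fin t) θ, S θ → S (perm (Equiv.swap j k) * θ * perm (Equiv.swap j k)⁻¹))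

include hadd hsmul in
theorem sub_mem {a b : Matrix (Fin t → Fin m) (Fin t → Fin m) F} (ha : S a) (hb : S b) : S (a - b) := by
  rw [sub_eq_add_neg, ← neg_one_smul F b]
  exact hadd _ _ ha (hsmul _ _ hb)

include hadd hsmul hconj in
theorem diff_mem (j : Fin t) {a b : Fin m} (hab : a ≠ b) {θ : Matrix (Fin t → Fin m) (Fin t → Fin m) F}
    (hθ : S θ) : S (emb j (Matrix.single a b 1) * θ - θ * emb j (Matrix.single a b 1) -
      emb j (Matrix.single a b 1) * θ * emb j (Matrix.single a b 1)) := by
  have := sub_mem hadd hsmul (hconj j a b hab θ hθ) hθ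
  convert this using 1
  noncomm_ring

include hm hadd hsmul hconj in
/-- The sandwich by a matrix unit, from three transvections. -/
theorem sandwich_mem (j : Fin t) {a b : Fin m} (hab : a ≠ b) {θ : Matrix (Fin t → Fin m) (Fin t → Fin m) F}
    (hθ : S θ) : S (emb j (Matrix.single a b 1) * θ * emb j (Matrix.single a b 1)) := by
  obtain ⟨c, hca, hcb⟩ := exists_third hm a b
  set R : Matrix (Fin t → Fin m) (Fin t → Fin m) F := emb j (Matrix.single a b 1)
  set P : Matrix (Fin t → Fin m) (Fin t → Fin m) F := emb j (Matrix.single a c 1)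
  set Q : Matrix (Fin t → Fin m) (Fin t → Fin m) F := emb j (Matrix.single c b 1)
  have hz : ∀ {p q r s : Fin m}, q ≠ r → emb j (Matrix.single p q (1 : F)) * emb j (Matrix.single r s 1) = 0 := by
    intro p q r s h
    rw [emb_mul_emb, Matrix.single_mul_single_of_ne _ _ _ _ h, map_zero]
  have hPQ : P * Q = R := by simp only [P, Q, R, emb_mul_emb, Matrix.single_mul_single_same, one_mul]
  have hPR : P * R = 0 := hz hca
  have hRP : R * P = 0 := hz hab.symm
  have hQP : Q * P = 0 := hz hab.symm
  have hQR : Q * R = 0 := hz hab.symm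
  have h1 := diff_mem hadd hsmul hconj j hab hθ
  have h2 := diff_mem hadd hsmul hconj j hca.symm h1
  have h3 := diff_mem hadd hsmul hconj j hcb h2
  set Y := R * θ - θ * R - R * θ * R with hY
  have hPY : P * Y = -(P * θ * R) := by
    rw [hY, mul_sub, mul_sub, show P * (R * θ) = P * R * θ from (mul_assoc _ _ _).symm,
      show P * (R * θ * R) = P * R * θ * R by simp only [mul_assoc], hPR]
    simp [mul_assoc]
  have hYP : Y * P = R * θ * P := by
    rw [hY, sub_mul, sub_mul, show θ * R * P = θ * (R * P) from mul_assoc _ _ _,
      show R * θ * R * P = R * θ * (R * P) from mul_assoc _ _ _, hRP]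
    simp
  have hPYP : P * Y * P = 0 := by
    rw [hPY, neg_mul, mul_assoc (P * θ), hRP, mul_zero, neg_zero]
  set Z := P * Y - Y * P - P * Y * P with hZ
  have hZ' : Z = -(P * θ * R) - R * θ * P := by rw [hZ, hPYP, sub_zero, hPY, hYP]
  have hQZ : Q * Z = 0 := by
    rw [hZ', mul_sub, mul_neg, show Q * (P * θ * R) = Q * P * θ * R by simp only [mul_assoc],
      show Q * (R * θ * P) = Q * R * θ * P by simp only [mul_assoc], hQP, hQR]
    simp
  have hRQ : R * Q = 0 := hz hcb.symm
  have hZQ : Z * Q = -(R * θ * R) := by
    rw [hZ', sub_mul, neg_mul, mul_assoc (P * θ), hRQ, mul_assoc (R * θ), hPQ]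
    simp
  convert h3 using 1
  rw [hQZ, hZQ]
  simp

/-- The entries of `M` vanish unless they match `a`, `b` on `J`. -/
def Supp (J : Finset (Fin t)) (a b : Fin t → Fin m) (M : Matrix (Fin t → Fin m) (Fin t → Fin m) F) : Prop :=
  ∀ x y, M x y ≠ 0 → ∀ l ∈ J, x l = a l ∧ y l = b l

include hm hadd hsmul hconj in
theorem exists_unitOn {θ : Matrix (Fin t → Fin m) (Fin t → Fin m) F} (hθ : S θ) (hns : ∀ c : F, θ ≠ c • 1) :
    ∃ (J : Finset (Fin t)) (a b : Fin t → Fin m), J.Nonempty ∧ (∀ l ∈ J, a l ≠ b l) ∧ S (unitOn J a b) := by
  classical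
  haveI : NeZero m := ⟨by omega⟩
  let good : Finset (Fin t) → Prop := fun J =>
    ∃ a b, (∀ l ∈ J, a l ≠ b l) ∧ ∃ M, S M ∧ M ≠ 0 ∧ Supp J a b M
  have h0 : good ∅ := ⟨0, 0, by simp, θ, hθ, fun e => hns 0 (by rw [e, zero_smul]), by simp [Supp]⟩
  obtain ⟨J, hJ, hmax⟩ := Finset.exists_max_image (Finset.univ.filter good) Finset.card
    ⟨∅, Finset.mem_filter.2 ⟨Finset.mem_univ _, h0⟩⟩
  replace hmax : ∀ J', good J' → J'.card ≤ J.card := fun J' h => hmax J' (Finset.mem_filter.2 ⟨Finset.mem_univ _, h⟩)
  -- what maximality says about any member supported on `J`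
  have hoff : ∀ a b, (∀ l ∈ J, a l ≠ b l) → ∀ M, S M → Supp J a b M →
      ∀ k ∉ J, ∀ x y, x k ≠ y k → M x y = 0 := by
    intro a b hab M hM hS k hk x y hxy
    by_contra hne
    set A : Matrix (Fin t → Fin m) (Fin t → Fin m) F := emb k (Matrix.single (y k) (x k) 1)
    have hM' : S (A * M * A) := sandwich_mem hm hadd hsmul hconj k hxy.symm hM
    have happ : ∀ u w, (A * M * A) u w =
        if u k = y k ∧ w k = x k then M (Function.update u k (x k)) (Function.update w k (y k)) else 0 := by
      intro u w
      rw [mul_emb_single_apply, emb_single_apply_mul]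
      by_cases h1 : u k = y k <;> by_cases h2 : w k = x k <;> simp [h1, h2]
    have := hmax (insert k J) ⟨Function.update a k (y k), Function.update b k (x k), fun l hl => by
        rcases Finset.mem_insert.1 hl with rfl | hl
        · simpa using hxy.symm
        · have : l ≠ k := fun e => hk (e ▸ hl)
          rw [Function.update_of_ne this, Function.update_of_ne this]
          exact hab l hl, A * M * A, hM', fun e => hne (by
        have h2 := congrFun (congrFun e (Function.update x k (y k))) (Function.update y k (x k))
        rw [happ] at h2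
        simpa using h2), fun u w huw l hl => by
        rw [happ] at huw
        split_ifs at huw with hc
        · rcases Finset.mem_insert.1 hl with rfl | hl
          · simpa using hc
          · have hlk : l ≠ k := fun e => hk (e ▸ hl)
            have := hS _ _ huw l hl
            rw [Function.update_of_ne hlk, Function.update_of_ne hlk] at this
            rw [Function.update_of_ne hlk, Function.update_of_ne hlk]
            exact this
        · exact absurd rfl huw⟩
    rw [Finset.card_insert_of_notMem hk] at this
    omega
  have hdiag : ∀ a b, (∀ l ∈ J, a l ≠ b l) → ∀ M, S M → Supp J a b M →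
      ∀ k ∉ J, ∀ x y q, x k = y k → M (Function.update x k q) (Function.update y k q) = M x y := by
    intro a b hab M hM hS k hk x y q hxy
    by_cases hq : x k = q
    · subst hq
      rw [Function.update_eq_self, hxy, Function.update_eq_self]
    have hD := diff_mem hadd hsmul hconj k hq hM
    set A : Matrix (Fin t → Fin m) (Fin t → Fin m) F := emb k (Matrix.single (x k) q 1)
    have hSupp : Supp J a b (A * M - M * A - A * M * A) := by
      intro u w huw l hl
      have hlk : l ≠ k := fun e => hk (e ▸ hl)
      by_contra hc
      refine huw ?_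
      simp only [Matrix.sub_apply, A]
      rw [mul_emb_single_apply, mul_emb_single_apply, emb_single_apply_mul, emb_single_apply_mul]
      have z1 : ∀ p, M (Function.update u k p) w = 0 := fun p => by
        by_contra h
        exact hc (by simpa [Function.update_of_ne hlk] using hS _ _ h l hl)
      have z2 : ∀ p, M u (Function.update w k p) = 0 := fun p => by
        by_contra h
        exact hc (by simpa [Function.update_of_ne hlk] using hS _ _ h l hl)
      have z3 : ∀ p p', M (Function.update u k p) (Function.update w k p') = 0 := fun p p' => by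
        by_contra h
        exact hc (by simpa [Function.update_of_ne hlk] using hS _ _ h l hl)
      simp [z1, z2, z3]
    have h0' := hoff a b hab _ hD hSupp k hk x (Function.update y k q) (by simpa using hq)
    simp only [Matrix.sub_apply, A] at h0'
    rw [mul_emb_single_apply, mul_emb_single_apply, emb_single_apply_mul, emb_single_apply_mul] at h0'
    have hzero : M (Function.update x k q) (Function.update y k (x k)) = 0 :=
      hoff a b hab M hM hS k hk _ _ (by simpa using Ne.symm hq)
    have e : Function.update y k (x k) = y := by rw [hxy, Function.update_eq_self]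
    rw [e] at hzero
    simp [e, hzero, sub_eq_zero] at h0'
    exact h0'
  obtain ⟨a, b, hab, M, hM, hM0, hS⟩ := (Finset.mem_filter.1 hJ).2
  -- a member supported on `J` is a multiple of the unit
  have hkey : ∀ a b, (∀ l ∈ J, a l ≠ b l) → ∀ M, S M → Supp J a b M → ∃ c : F, M = c • unitOn J a b := by
    intro a b hab M hM hS
    let base : Fin m := 0
    refine ⟨M (J.piecewise a fun _ => base) (J.piecewise b fun _ => base), ?_⟩
    ext x y
    rw [Matrix.smul_apply, unitOn_apply, smul_eq_mul, mul_ite, mul_one, mul_zero]
    split_ifs with h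
    · -- change the coordinates outside `J` one at a time
      have : ∀ K : Finset (Fin t), Disjoint K J →
          M (K.piecewise (fun _ => base) x) (K.piecewise (fun _ => base) y) = M x y := by
        intro K hK
        induction K using Finset.induction with
        | empty => simp
        | @insert k K hkK ih =>
          have hkJ : k ∉ J := Finset.disjoint_left.1 hK (Finset.mem_insert_self k K)
          rw [← ih (Finset.disjoint_of_subset_left (Finset.subset_insert k K) hK),
            Finset.piecewise_insert, Finset.piecewise_insert]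
          exact hdiag a b hab M hM hS k hkJ _ _ base (by
            rw [Finset.piecewise_eq_of_notMem _ _ _ hkK, Finset.piecewise_eq_of_notMem _ _ _ hkK]
            exact h.2 k hkJ)
      rw [← this Jᶜ (disjoint_compl_left)]
      congr 1 <;> funext l <;> by_cases hl : l ∈ J <;> simp [hl, (fun h' => (h.1 l h')), Finset.piecewise]
    · by_contra hne
      refine h ⟨hS x y hne, fun l hl => ?_⟩
      by_contra hxy
      exact hne (hoff a b hab M hM hS l hl x y hxy)
  obtain ⟨c, hc⟩ := hkey a b hab M hM hS
  have hc0 : c ≠ 0 := fun e => hM0 (by rw [hc, e, zero_smul])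
  refine ⟨J, a, b, Finset.nonempty_iff_ne_empty.2 fun hJ0 => ?_, hab, ?_⟩
  · subst hJ0
    obtain ⟨c', hc'⟩ := hkey a b hab θ hθ (by simp [Supp])
    rw [unitOn_empty] at hc'
    exact hns c' hc'
  · have := hsmul c⁻¹ M hM
    rwa [hc, inv_smul_smul₀ hc0] at this

theorem unitOn_insert {J : Finset (Fin t)} {l : Fin t} (hl : l ∉ J) (a b : Fin t → Fin m) :
    unitOn (F := F) (insert l J) a b = emb l (Matrix.single (a l) (b l) 1) * unitOn J a b := by
  show _ = SpinTensor.pure _ * SpinTensor.pure _
  rw [pure_mul, unitOn]
  congr 1
  funext k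
  by_cases hk : k = l
  · subst hk; simp [hl]
  · simp [Function.update_of_ne hk, hk]

theorem unitOn_mul (J : Finset (Fin t)) (a b c : Fin t → Fin m) :
    unitOn (F := F) J a b * unitOn J b c = unitOn J a c := by
  unfold unitOn
  rw [pure_mul]
  congr 1
  funext k
  by_cases hk : k ∈ J <;> simp [hk]

include hadd hsmul hconj in
theorem move_right {J : Finset (Fin t)} {l : Fin t} (hl : l ∈ J) {a b : Fin t → Fin m} (d : Fin m)
    (hab : a l ≠ b l) (hd : a l ≠ d) (h : S (unitOn J a b)) : S (unitOn J a (Function.update b l d)) := by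
  by_cases hdb : d = b l
  · subst hdb; rwa [Function.update_eq_self]
  have hD := diff_mem hadd hsmul hconj l (a := b l) (b := d) (Ne.symm hdb) h
  have h1 : emb l (Matrix.single (b l) d (1 : F)) * unitOn J a b = 0 := by
    show SpinTensor.pure _ * SpinTensor.pure _ = _
    rw [pure_mul]
    refine pure_eq_zero l ?_
    simp [hl, Matrix.single_mul_single_of_ne _ _ _ _ (Ne.symm hd)]
  have h2 : unitOn J a b * emb l (Matrix.single (b l) d (1 : F)) = unitOn J a (Function.update b l d) := by
    show SpinTensor.pure _ * SpinTensor.pure _ = SpinTensor.pure _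
    rw [pure_mul]
    congr 1
    funext k
    by_cases hk : k = l
    · subst hk; simp [hl]
    · simp [Function.update_of_ne hk]
  rw [h1, h2, zero_mul, zero_sub, sub_zero] at hD
  simpa using hsmul (-1) _ hD

include hadd hsmul hconj in
theorem move_left {J : Finset (Fin t)} {l : Fin t} (hl : l ∈ J) {a b : Fin t → Fin m} (d : Fin m)
    (hab : a l ≠ b l) (hd : d ≠ b l) (h : S (unitOn J a b)) : S (unitOn J (Function.update a l d) b) := by
  by_cases hda : d = a l
  · subst hda; rwa [Function.update_eq_self]
  have hD := diff_mem hadd hsmul hconj l (a := d) (b := a l) hda h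
  have h1 : unitOn J a b * emb l (Matrix.single d (a l) (1 : F)) = 0 := by
    show SpinTensor.pure _ * SpinTensor.pure _ = _
    rw [pure_mul]
    refine pure_eq_zero l ?_
    simp [hl, Matrix.single_mul_single_of_ne _ _ _ _ (Ne.symm hd)]
  have h2 : emb l (Matrix.single d (a l) (1 : F)) * unitOn J a b = unitOn J (Function.update a l d) b := by
    show SpinTensor.pure _ * SpinTensor.pure _ = SpinTensor.pure _
    rw [pure_mul]
    congr 1
    funext k
    by_cases hk : k = l
    · subst hk; simp [hl]
    · simp [Function.update_of_ne hk]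
  rw [show emb l (Matrix.single d (a l) (1 : F)) * unitOn J a b * emb l (Matrix.single d (a l) 1) =
    emb l (Matrix.single d (a l) (1 : F)) * (unitOn J a b * emb l (Matrix.single d (a l) 1)) from mul_assoc _ _ _,
    h1, h2, mul_zero, sub_zero, sub_zero] at hD
  exact hD

include hm hadd hsmul hconj in
/-- All units with the same set of factors. -/
theorem unitOn_all {J : Finset (Fin t)} {a b : Fin t → Fin m} (hab : ∀ l ∈ J, a l ≠ b l)
    (h : S (unitOn J a b)) (a' b' : Fin t → Fin m) (hab' : ∀ l ∈ J, a' l ≠ b' l) : S (unitOn J a' b') := by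
  classical
  suffices H : ∀ K : Finset (Fin t), S (unitOn J (K.piecewise a' a) (K.piecewise b' b)) by
    have := H J
    rwa [unitOn_congr (a' := a') (b' := b') (fun l hl => Finset.piecewise_eq_of_mem _ _ _ hl)
      (fun l hl => Finset.piecewise_eq_of_mem _ _ _ hl)] at this
  intro K
  induction K using Finset.induction with
  | empty => simpa using h
  | @insert l K hlK ih =>
    rw [Finset.piecewise_insert, Finset.piecewise_insert]
    set A := K.piecewise a' a with hA
    set B := K.piecewise b' b with hB
    by_cases hl : l ∈ J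
    swap
    · rwa [unitOn_congr (a' := A) (b' := B)
        (fun k hk => Function.update_of_ne (fun e => hl (by rw [← e]; exact hk)) _ _)
        (fun k hk => Function.update_of_ne (fun e => hl (by rw [← e]; exact hk)) _ _)]
    have hAB : A l ≠ B l := by
      rw [hA, hB, Finset.piecewise_eq_of_notMem _ _ _ hlK, Finset.piecewise_eq_of_notMem _ _ _ hlK]
      exact hab l hl
    by_cases hcase : a' l ≠ B l
    · have h1 := move_left hadd hsmul hconj hl (a' l) hAB hcase ih
      exact move_right hadd hsmul hconj hl (b' l) (by simpa using hcase) (by simpa using hab' l hl) h1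
    · push Not at hcase
      obtain ⟨r, hrA, hrB⟩ := exists_third hm (A l) (B l)
      have h1 := move_right hadd hsmul hconj hl r hAB hrA.symm ih
      have h2 := move_left hadd hsmul hconj hl (a' l) (by simpa using hrA.symm) (by
        rw [Function.update_self, hcase]; exact hrB.symm) h1
      have h3 := move_right hadd hsmul hconj hl (b' l) (by
        rw [Function.update_self, Function.update_self, hcase]; exact hrB.symm)
        (by simpa using hab' l hl) h2
      rwa [Function.update_idem] at h3

include hm hadd hmul hsmul hconj hperm in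
/-- An invariant algebra with a non-scalar member contains every matrix. -/
theorem mem_of_nonscalar {θ : Matrix (Fin t → Fin m) (Fin t → Fin m) F} (hθ : S θ) (hns : ∀ c : F, θ ≠ c • 1)
    (M : Matrix (Fin t → Fin m) (Fin t → Fin m) F) : S M := by
  classical
  haveI : NeZero m := ⟨by omega⟩
  let good : Finset (Fin t) → Prop := fun J =>
    J.Nonempty ∧ ∃ a b, (∀ l ∈ J, a l ≠ b l) ∧ S (unitOn J a b)
  obtain ⟨J₀, a₀, b₀, hne₀, hab₀, h₀⟩ := exists_unitOn hm hadd hsmul hconj hθ hns
  obtain ⟨J, hJ, hmin⟩ := Finset.exists_min_image (Finset.univ.filter good) Finset.card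
    ⟨J₀, Finset.mem_filter.2 ⟨Finset.mem_univ _, hne₀, a₀, b₀, hab₀, h₀⟩⟩
  obtain ⟨⟨j, hj⟩, a, b, hab, hU⟩ := (Finset.mem_filter.1 hJ).2
  have hall := unitOn_all hm hadd hsmul hconj hab hU
  -- the set of factors is a single one
  have hJ1 : J = {j} := by
    by_contra hne
    obtain ⟨l, hl, hlj⟩ : ∃ l ∈ J, l ≠ j := by
      by_contra! hc
      exact hne (Finset.eq_singleton_iff_unique_mem.2 ⟨hj, hc⟩)
    choose c hc using fun k => exists_third hm (a k) (b k)
    have hsum : ∀ p : Fin m, S (emb l (Matrix.single p p (1 : F)) * unitOn (J.erase l) a c) := by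
      intro p
      obtain ⟨q, hqp, -⟩ := exists_third hm p p
      set A := Function.update a l p
      set B := Function.update b l q
      set C := Function.update c l p
      have h1 := hall A B fun k hk => by
        by_cases hkl : k = l
        · subst hkl; simpa [A, B] using hqp.symm
        · simpa [A, B, Function.update_of_ne hkl] using hab k hk
      have h2 := hall B C fun k hk => by
        by_cases hkl : k = l
        · subst hkl; simpa [B, C] using hqp
        · simpa [B, C, Function.update_of_ne hkl] using (hc k).2.symm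
      have h3 := hmul _ _ h1 h2
      rw [unitOn_mul, ← Finset.insert_erase hl, unitOn_insert (Finset.notMem_erase l J)] at h3
      rw [unitOn_congr (a' := A) (b' := C) (a := a) (b := c)
        (fun k hk => (Function.update_of_ne (Finset.ne_of_mem_erase hk) _ _).symm)
        (fun k hk => (Function.update_of_ne (Finset.ne_of_mem_erase hk) _ _).symm)]
      simpa [A, C] using h3
    have htot : ∀ s : Finset (Fin m), s.Nonempty →
        S (∑ p ∈ s, emb l (Matrix.single p p (1 : F)) * unitOn (J.erase l) a c) := fun s hs =>
      Finset.sum_induction_nonempty _ S hadd hs fun p _ => hsum p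
    have h4 := htot Finset.univ Finset.univ_nonempty
    rw [← Finset.sum_mul, ← map_sum, sum_diag, emb_one, one_mul] at h4
    have h5 := hmin (J.erase l) (Finset.mem_filter.2 ⟨Finset.mem_univ _,
      ⟨j, Finset.mem_erase.2 ⟨hlj.symm, hj⟩⟩, a, c, fun k _ => ((hc k).1).symm, h4⟩)
    rw [Finset.card_erase_of_mem hl] at h5
    have := Finset.card_pos.2 ⟨j, hj⟩
    omega
  subst hJ1
  -- every matrix of that factor
  have hoffd : ∀ p q : Fin m, p ≠ q → S (emb j (Matrix.single p q (1 : F))) := by
    intro p q hpq
    have := hall (fun _ => p) (fun _ => q) fun _ _ => hpq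
    rwa [← insert_empty_eq, unitOn_insert (Finset.notMem_empty j), unitOn_empty, mul_one] at this
  have hone : ∀ p q : Fin m, S (emb j (Matrix.single p q (1 : F))) := by
    intro p q
    by_cases hpq : p = q
    · subst hpq
      obtain ⟨r, hr, -⟩ := exists_third hm p p
      have := hmul _ _ (hoffd p r hr.symm) (hoffd r p hr)
      rwa [emb_mul_emb, Matrix.single_mul_single_same, one_mul] at this
    · exact hoffd p q hpq
  -- every factor
  have hanyk : ∀ k p q, S (emb k (Matrix.single p q (1 : F))) := by
    intro k p q
    have := hperm j k _ (hone p q)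
    rwa [perm_mul_emb, Equiv.swap_apply_left] at this
  have h1 : S 1 := by
    have h := Finset.sum_induction_nonempty (fun p : Fin m => emb j (Matrix.single p p (1 : F))) S hadd
      (Finset.univ_nonempty) (fun p _ => hone p p)
    rwa [← map_sum, sum_diag, emb_one] at h
  have hU' : ∀ (K : Finset (Fin t)) (x y : Fin t → Fin m), S (unitOn K x y) := by
    intro K x y
    induction K using Finset.induction with
    | empty => rwa [unitOn_empty]
    | @insert l K hl ih => rw [unitOn_insert hl]; exact hmul _ _ (hanyk _ _ _) ih
  rw [Matrix.matrix_eq_sum_single M]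
  refine Finset.sum_induction_nonempty _ S hadd Finset.univ_nonempty fun x _ => ?_
  refine Finset.sum_induction_nonempty _ S hadd Finset.univ_nonempty fun y _ => ?_
  have := hsmul (M x y) _ (hU' Finset.univ x y)
  convert this using 1
  ext u w
  rw [Matrix.smul_apply, unitOn_apply, Matrix.single_apply, smul_eq_mul, mul_ite, mul_one, mul_zero]
  refine if_congr ?_ rfl rfl
  constructor
  · rintro ⟨rfl, rfl⟩; simp
  · rintro ⟨h, -⟩
    exact ⟨funext fun l => (h l (Finset.mem_univ l)).1.symm, funext fun l => (h l (Finset.mem_univ l)).2.symm⟩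

end CfsgLib.Geo.TensorWreath
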