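/-
The tensor-wreath group in coordinates: normal form, roots, and the splitting at one factor.
-/
import Cfsg.Prelude.Def_GeometricClasses
import Cfsg.Agent.Lib.Geo.TensorLinearFinal
import Cfsg.Agent.Lib.Geo.TensorWreath.Coeff

set_option autoImplicit false

namespace CfsgLib.Geo.TensorWreath

open Matrix CfsgLib.Geo.SpinTensor
open scoped Kronecker

variable {F : Type*} [Field F] {t m : ℕ}

/-- The element is a pure tensor times a permutation of the factors. -/
def IsStd (g : GL (Fin t → Fin m) F) : Prop :=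
  ∃ (gs : Fin t → GL (Fin m) F) (π : Equiv.Perm (Fin t)),
    (g : Matrix (Fin t → Fin m) (Fin t → Fin m) F) =
      SpinTensor.pure (fun i => (gs i : Matrix (Fin m) (Fin m) F)) * perm π

theorem perm_inv_mul (π : Equiv.Perm (Fin t)) :
    perm (F := F) (J := Fin m) π * perm π⁻¹ = 1 := by rw [perm_mul, mul_inv_cancel, perm_one]

theorem pure_inv (gs : Fin t → GL (Fin m) F) :
    SpinTensor.pure (fun i => (gs i : Matrix (Fin m) (Fin m) F)) *
      SpinTensor.pure (fun i => (((gs i)⁻¹ : GL (Fin m) F) : Matrix (Fin m) (Fin m) F)) = 1 := by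
  rw [pure_mul]
  simp only [Units.mul_inv]
  exact pure_one

/-- A pure tensor, as a unit. -/
def pureGL (gs : Fin t → GL (Fin m) F) : GL (Fin t → Fin m) F :=
  ⟨SpinTensor.pure fun i => (gs i : Matrix (Fin m) (Fin m) F),
    SpinTensor.pure fun i => (((gs i)⁻¹ : GL (Fin m) F) : Matrix (Fin m) (Fin m) F), pure_inv gs, by
      simpa using pure_inv fun i => (gs i)⁻¹⟩

/-- A permutation of the factors, as a unit. -/
def permGL (m : ℕ) (F : Type*) [Field F] {t : ℕ} (π : Equiv.Perm (Fin t)) : GL (Fin t → Fin m) F :=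
  ⟨perm π, perm π⁻¹, perm_inv_mul π, by simpa using perm_inv_mul (F := F) (m := m) π⁻¹⟩

theorem mem_std_iff {g : GL (Fin t → Fin m) F} : g ∈ Cfsg.Geo.tensorWreathStandard m t F ↔ IsStd g := by
  constructor
  · intro hg
    induction hg using Subgroup.closure_induction with
    | mem g hg =>
      rcases hg with ⟨gs, hgs⟩ | ⟨σ, hσ⟩
      · exact ⟨gs, 1, by rw [perm_one, mul_one]; ext x y; exact hgs x y⟩
      · refine ⟨fun _ => 1, σ, ?_⟩
        simp only [Units.val_one]
        rw [pure_one, one_mul]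
        ext x y
        exact hσ x y
    | one => exact ⟨fun _ => 1, 1, by simp only [Units.val_one]; rw [pure_one, perm_one, one_mul]⟩
    | mul a b _ _ ha hb =>
      obtain ⟨gs, π, ha⟩ := ha
      obtain ⟨hs, ρ, hb⟩ := hb
      refine ⟨fun i => gs i * hs (π⁻¹ i), π * ρ, ?_⟩
      rw [Units.val_mul, ha, hb, mul_assoc, ← mul_assoc (perm π), perm_mul_pure, mul_assoc, perm_mul, ← mul_assoc,
        pure_mul]
      rfl
    | inv a _ ha =>
      obtain ⟨gs, π, ha⟩ := ha
      refine ⟨fun i => (gs (π i))⁻¹, π⁻¹, ?_⟩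
      refine left_inv_eq_right_inv a.inv_mul ?_
      rw [ha, show (fun i => (((gs (π i))⁻¹ : GL (Fin m) F) : Matrix (Fin m) (Fin m) F)) =
        fun i => (fun j => (((gs j)⁻¹ : GL (Fin m) F) : Matrix (Fin m) (Fin m) F)) (π i) from rfl]
      rw [show SpinTensor.pure (fun i => (fun j => (((gs j)⁻¹ : GL (Fin m) F) : Matrix (Fin m) (Fin m) F)) (π i)) *
          perm π⁻¹ = perm π⁻¹ * SpinTensor.pure (fun j => (((gs j)⁻¹ : GL (Fin m) F) : Matrix (Fin m) (Fin m) F)) by
        rw [perm_mul_pure, inv_inv]]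
      rw [mul_assoc, ← mul_assoc (perm π), perm_mul, mul_inv_cancel, perm_one, one_mul, pure_inv]
  · rintro ⟨gs, π, e⟩
    have h : g = pureGL gs * permGL m F π := Units.ext e
    rw [h]
    exact Subgroup.mul_mem _ (Subgroup.subset_closure (Or.inl ⟨gs, fun x y => rfl⟩))
      (Subgroup.subset_closure (Or.inr ⟨π, fun x y => rfl⟩))

theorem isStd_pureGL (gs : Fin t → GL (Fin m) F) : IsStd (pureGL gs) :=
  ⟨gs, 1, by rw [perm_one, mul_one]; rfl⟩

theorem isStd_permGL (π : Equiv.Perm (Fin t)) : IsStd (permGL m F π) :=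
  ⟨fun _ => 1, π, by simp only [Units.val_one]; rw [pure_one, one_mul]; rfl⟩

theorem IsStd.mul {g h : GL (Fin t → Fin m) F} (hg : IsStd g) (hh : IsStd h) : IsStd (g * h) :=
  mem_std_iff.1 (Subgroup.mul_mem _ (mem_std_iff.2 hg) (mem_std_iff.2 hh))

theorem IsStd.inv {g : GL (Fin t → Fin m) F} (hg : IsStd g) : IsStd g⁻¹ :=
  mem_std_iff.1 (Subgroup.inv_mem _ (mem_std_iff.2 hg))

theorem IsStd.of_mul_left {g h : GL (Fin t → Fin m) F} (hg : IsStd g) (hh : IsStd (g * h)) : IsStd h := by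
  simpa using hg.inv.mul hh

theorem IsStd.of_mul_right {g h : GL (Fin t → Fin m) F} (hh : IsStd h) (hg : IsStd (g * h)) : IsStd g := by
  simpa using hg.mul hh.inv

/-! ### The splitting at one factor -/

/-- The splitting of the index set at the factor `i`. -/
def sp (i : Fin (t + 1)) : (Fin t → Fin m) × Fin m ≃ (Fin (t + 1) → Fin m) :=
  (Equiv.prodComm _ _).trans (Fin.insertNthEquiv (fun _ => Fin m) i)

theorem sp_self (i : Fin (t + 1)) (p : (Fin t → Fin m) × Fin m) : sp i p i = p.2 := by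
  simp [sp]

theorem sp_succAbove (i : Fin (t + 1)) (p : (Fin t → Fin m) × Fin m) (j : Fin t) :
    sp i p (i.succAbove j) = p.1 j := by
  simp [sp]

/-- Reindexing along the splitting. -/
def spGL (i : Fin (t + 1)) : GL (Fin (t + 1) → Fin m) F ≃* GL ((Fin t → Fin m) × Fin m) F :=
  Cfsg.Geo.glReindex (sp i).symm

theorem spGL_val (i : Fin (t + 1)) (g : GL (Fin (t + 1) → Fin m) F) :
    (spGL i g : Matrix ((Fin t → Fin m) × Fin m) ((Fin t → Fin m) × Fin m) F) =
      (g : Matrix (Fin (t + 1) → Fin m) (Fin (t + 1) → Fin m) F).submatrix (sp i) (sp i) := rfl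

theorem det_spGL (i : Fin (t + 1)) (g : GL (Fin (t + 1) → Fin m) F) :
    (spGL i g : Matrix ((Fin t → Fin m) × Fin m) ((Fin t → Fin m) × Fin m) F).det =
      (g : Matrix (Fin (t + 1) → Fin m) (Fin (t + 1) → Fin m) F).det := by
  rw [spGL_val, Matrix.det_submatrix_equiv_self]

theorem sub_pure (i : Fin (t + 1)) (gs : Fin (t + 1) → Matrix (Fin m) (Fin m) F) :
    (SpinTensor.pure gs).submatrix (sp i) (sp i) =
      SpinTensor.pure (fun j => gs (i.succAbove j)) ⊗ₖ gs i := by
  ext p q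
  rw [Matrix.submatrix_apply, pure_apply, Fin.prod_univ_succAbove _ i, Matrix.kroneckerMap_apply, pure_apply,
    mul_comm]
  simp only [sp_self, sp_succAbove]

theorem sub_emb (i : Fin (t + 1)) (B : Matrix (Fin m) (Fin m) F) :
    (emb i B).submatrix (sp i) (sp i) = (1 : Matrix (Fin t → Fin m) (Fin t → Fin m) F) ⊗ₖ B := by
  show (SpinTensor.pure _).submatrix (sp i) (sp i) = _
  rw [sub_pure]
  simp only [Function.update_self, Function.update_of_ne (Fin.succAbove_ne i _)]
  rw [pure_one]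

theorem sub_emb_succAbove (i : Fin (t + 1)) (j : Fin t) (B : Matrix (Fin m) (Fin m) F) :
    (emb (i.succAbove j) B).submatrix (sp i) (sp i) = emb j B ⊗ₖ (1 : Matrix (Fin m) (Fin m) F) := by
  show (SpinTensor.pure _).submatrix (sp i) (sp i) = _
  rw [sub_pure, Function.update_of_ne (Fin.succAbove_ne i j).symm]
  congr 1
  show _ = SpinTensor.pure _
  congr 1
  funext k
  by_cases hk : k = j
  · subst hk; simp
  · rw [Function.update_of_ne hk, Function.update_of_ne (fun e => hk (Fin.succAbove_right_injective e))]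

/-! ### Roots -/

/-- A root matrix on the factor `i`. -/
def rootMat (i : Fin t) (v φ : Fin m → F) : Matrix (Fin t → Fin m) (Fin t → Fin m) F :=
  1 + emb i (Matrix.vecMulVec v φ)

theorem rootMat_eq_emb (i : Fin t) (v φ : Fin m → F) :
    rootMat i v φ = emb i (1 + Matrix.vecMulVec v φ) := by rw [map_add, emb_one]; rfl

theorem vecMulVec_sq {v φ : Fin m → F} (h : φ ⬝ᵥ v = 0) :
    Matrix.vecMulVec v φ * Matrix.vecMulVec v φ = 0 := by
  rw [Matrix.vecMulVec_mul_vecMulVec, h]; simp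

/-- The roots. -/
def IsRoot (x : GL (Fin t → Fin m) F) : Prop :=
  ∃ (i : Fin t) (v φ : Fin m → F), φ ⬝ᵥ v = 0 ∧ v ≠ 0 ∧ φ ≠ 0 ∧
    (x : Matrix (Fin t → Fin m) (Fin t → Fin m) F) = rootMat i v φ

/-- A root, as a unit. -/
def rootGL (i : Fin t) (v φ : Fin m → F) (h : φ ⬝ᵥ v = 0) : GL (Fin t → Fin m) F :=
  ⟨rootMat i v φ, rootMat i v (-φ), by
    rw [rootMat_eq_emb, rootMat_eq_emb, emb_mul_emb, Matrix.vecMulVec_neg, mul_add, mul_one, add_mul, one_mul,
      mul_neg, vecMulVec_sq h]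
    simp [emb_one], by
    rw [rootMat_eq_emb, rootMat_eq_emb, emb_mul_emb, Matrix.vecMulVec_neg, mul_add, mul_one, add_mul, one_mul,
      neg_mul, vecMulVec_sq h]
    simp [emb_one]⟩

theorem rootGL_val (i : Fin t) (v φ : Fin m → F) (h : φ ⬝ᵥ v = 0) :
    (rootGL i v φ h : Matrix (Fin t → Fin m) (Fin t → Fin m) F) = rootMat i v φ := rfl

theorem isRoot_rootGL {i : Fin t} {v φ : Fin m → F} (h : φ ⬝ᵥ v = 0) (hv : v ≠ 0) (hφ : φ ≠ 0) :
    IsRoot (rootGL i v φ h) := ⟨i, v, φ, h, hv, hφ, rfl⟩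

theorem sub_rootMat (i : Fin (t + 1)) (v φ : Fin m → F) :
    (rootMat i v φ).submatrix (sp i) (sp i) =
      1 + (TensorLinear.emb (Fin t → Fin m) v : Matrix ((Fin t → Fin m) × Fin m) (Fin t → Fin m) F) *
        (TensorLinear.con (Fin t → Fin m) φ : Matrix (Fin t → Fin m) ((Fin t → Fin m) × Fin m) F) := by
  have h := TensorLinear.emb_mul_mul_con v φ (1 : Matrix (Fin t → Fin m) (Fin t → Fin m) F)
  rw [Matrix.mul_one] at h
  rw [h, ← sub_emb i, rootMat]
  ext p q
  simp [Matrix.one_apply, (sp i).injective.eq_iff]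

theorem det_emb (i : Fin (t + 1)) (B : Matrix (Fin m) (Fin m) F) :
    (emb i B).det = B.det ^ (Fintype.card (Fin t → Fin m)) := by
  rw [← Matrix.det_submatrix_equiv_self (sp i), sub_emb, Matrix.det_kronecker, Matrix.det_one, one_pow, one_mul]

theorem rootGL_mem_sl (i : Fin t) {v φ : Fin m → F} (h : φ ⬝ᵥ v = 0) :
    rootGL i v φ h ∈ Cfsg.Geo.specialLinear (Fin t → Fin m) F := by
  cases t with
  | zero => exact i.elim0
  | succ t =>
    refine MonoidHom.mem_ker.2 (Units.ext ?_)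
    show (rootMat i v φ).det = 1
    rw [rootMat_eq_emb, det_emb, Matrix.vecMulVec_eq Unit, Matrix.det_one_add_replicateCol_mul_replicateRow, h,
      add_zero, one_pow]

theorem IsRoot.isStd {x : GL (Fin t → Fin m) F} (hx : IsRoot x) : IsStd x := by
  classical
  obtain ⟨i, v, φ, h, -, -, e⟩ := hx
  let u : GL (Fin m) F := ⟨1 + Matrix.vecMulVec v φ, 1 - Matrix.vecMulVec v φ, by
    rw [mul_sub, mul_one, add_mul, one_mul, vecMulVec_sq h]; abel, by
    rw [mul_add, mul_one, sub_mul, one_mul, vecMulVec_sq h]; abel⟩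
  refine ⟨Function.update (fun _ => 1) i u, 1, ?_⟩
  rw [e, rootMat_eq_emb, perm_one, mul_one]
  show SpinTensor.pure _ = _
  congr 1
  funext k
  by_cases hk : k = i
  · subst hk; simp [u]
  · simp [Function.update_of_ne hk]

theorem IsRoot.mem_sl {x : GL (Fin t → Fin m) F} (hx : IsRoot x) :
    x ∈ Cfsg.Geo.specialLinear (Fin t → Fin m) F := by
  obtain ⟨i, v, φ, h, -, -, e⟩ := hx
  rw [show x = rootGL i v φ h from Units.ext e]
  exact rootGL_mem_sl i h

theorem IsRoot.mul_self {x : GL (Fin t → Fin m) F} (hx : IsRoot x) :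
    ((x : Matrix (Fin t → Fin m) (Fin t → Fin m) F) - 1) * ((x : Matrix (Fin t → Fin m) (Fin t → Fin m) F) - 1) =
      0 := by
  obtain ⟨i, v, φ, h, -, -, e⟩ := hx
  rw [e, rootMat, add_sub_cancel_left, emb_mul_emb, vecMulVec_sq h, map_zero]

/-- Conjugating a one-factor matrix by a standard element. -/
theorem conj_emb {g : GL (Fin t → Fin m) F} {gs : Fin t → GL (Fin m) F} {π : Equiv.Perm (Fin t)}
    (e : (g : Matrix (Fin t → Fin m) (Fin t → Fin m) F) =
      SpinTensor.pure (fun i => (gs i : Matrix (Fin m) (Fin m) F)) * perm π)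
    (i : Fin t) (X : Matrix (Fin m) (Fin m) F) :
    (g : Matrix (Fin t → Fin m) (Fin t → Fin m) F) * emb i X =
      emb (π i) ((gs (π i) : Matrix (Fin m) (Fin m) F) * X *
        (((gs (π i))⁻¹ : GL (Fin m) F) : Matrix (Fin m) (Fin m) F)) *
        (g : Matrix (Fin t → Fin m) (Fin t → Fin m) F) := by
  have h1 := pure_mul_emb (fun i => (gs i : Matrix (Fin m) (Fin m) F))
    (fun i => (((gs i)⁻¹ : GL (Fin m) F) : Matrix (Fin m) (Fin m) F)) (fun i => (gs i).mul_inv) (π i) X
  have h2 : perm π * emb i X = emb (π i) X * perm π := by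
    rw [← perm_mul_emb π i X, mul_assoc (perm π * emb i X), perm_mul, inv_mul_cancel, perm_one, mul_one]
  rw [e, mul_assoc, h2, ← h1]
  simp only [mul_assoc]
  rw [← mul_assoc (SpinTensor.pure fun i => (((gs i)⁻¹ : GL (Fin m) F) : Matrix (Fin m) (Fin m) F)), pure_mul]
  simp only [Units.inv_mul]
  rw [pure_one, one_mul]

theorem dot_conj {B B' : Matrix (Fin m) (Fin m) F} (h : B' * B = 1) (v φ : Fin m → F) :
    (φ ᵥ* B') ⬝ᵥ (B *ᵥ v) = φ ⬝ᵥ v := by
  rw [Matrix.dotProduct_mulVec, Matrix.vecMul_vecMul, h, Matrix.vecMul_one]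

theorem conj_rootGL {g : GL (Fin t → Fin m) F} {gs : Fin t → GL (Fin m) F} {π : Equiv.Perm (Fin t)}
    (e : (g : Matrix (Fin t → Fin m) (Fin t → Fin m) F) =
      SpinTensor.pure (fun i => (gs i : Matrix (Fin m) (Fin m) F)) * perm π)
    {i : Fin t} {v φ : Fin m → F} (h : φ ⬝ᵥ v = 0) :
    g * rootGL i v φ h * g⁻¹ = rootGL (π i) ((gs (π i) : Matrix (Fin m) (Fin m) F) *ᵥ v)
      (φ ᵥ* (((gs (π i))⁻¹ : GL (Fin m) F) : Matrix (Fin m) (Fin m) F))
      ((dot_conj (gs (π i)).inv_mul v φ).trans h) := by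
  rw [mul_inv_eq_iff_eq_mul]
  refine Units.ext ?_
  rw [Units.val_mul, Units.val_mul, rootGL_val, rootGL_val, rootMat, rootMat, mul_add, mul_one, add_mul, one_mul,
    conj_emb e, Matrix.mul_vecMulVec, Matrix.vecMulVec_mul]

theorem IsRoot.conj {x g : GL (Fin t → Fin m) F} (hx : IsRoot x) (hg : IsStd g) : IsRoot (g * x * g⁻¹) := by
  obtain ⟨i, v, φ, h, hv, hφ, e⟩ := hx
  obtain ⟨gs, π, eg⟩ := hg
  rw [show x = rootGL i v φ h from Units.ext e, conj_rootGL eg h]
  refine isRoot_rootGL _ ?_ ?_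
  · intro h0
    refine hv ?_
    have := congrArg ((((gs (π i))⁻¹ : GL (Fin m) F) : Matrix (Fin m) (Fin m) F) *ᵥ ·) h0
    simpa [Matrix.mulVec_mulVec] using this
  · intro h0
    refine hφ ?_
    have := congrArg (· ᵥ* (gs (π i) : Matrix (Fin m) (Fin m) F)) h0
    simpa [Matrix.vecMul_vecMul] using this

theorem exists_ne_fin (hm : 3 ≤ m) (a : Fin m) : ∃ b, b ≠ a := by
  obtain ⟨b, hb, -⟩ := exists_third hm a a
  exact ⟨b, hb⟩

theorem emb_injective (hm : 3 ≤ m) (i : Fin t) : Function.Injective (emb (F := F) (J := Fin m) i) := by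
  intro X Y h
  haveI : NeZero m := ⟨by omega⟩
  ext a b
  have := congrFun (congrFun h (Function.update (fun _ => 0) i a)) (Function.update (fun _ => 0) i b)
  rw [emb_apply, emb_apply, if_pos (fun j hj => by simp [Function.update_of_ne hj]),
    if_pos (fun j hj => by simp [Function.update_of_ne hj])] at this
  simpa using this

/-- Two one-factor matrices on different factors agree only if they are scalar. -/
theorem scalar_of_emb_eq (hm : 3 ≤ m) {i j : Fin t} (hij : i ≠ j) {X Y : Matrix (Fin m) (Fin m) F}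
    (h : emb i X = emb j Y) : ∃ c : F, X = c • 1 := by
  haveI : NeZero m := ⟨by omega⟩
  refine ⟨Y 0 0, ?_⟩
  ext a b
  have := congrFun (congrFun h (Function.update (fun _ => 0) i a)) (Function.update (fun _ => 0) i b)
  rw [emb_apply, emb_apply, if_pos (fun k hk => by simp [Function.update_of_ne hk])] at this
  simp only [Function.update_self] at this
  rw [Matrix.smul_apply, smul_eq_mul, this, Matrix.one_apply]
  by_cases hab : a = b
  · subst hab
    rw [if_pos rfl, mul_one, if_pos (fun k _ => rfl), Function.update_of_ne hij.symm]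
  · rw [if_neg hab, mul_zero, if_neg]
    intro hk
    exact hab (by simpa using hk i hij)

/-- The factor and the rank-one matrix of a root are determined. -/
theorem rootMat_eq (hm : 3 ≤ m) {i j : Fin t} {v φ w ψ : Fin m → F} (h : φ ⬝ᵥ v = 0) (hv : v ≠ 0) (hφ : φ ≠ 0)
    (e : rootMat i v φ = rootMat j w ψ) : i = j ∧ Matrix.vecMulVec v φ = Matrix.vecMulVec w ψ := by
  have e' : emb i (Matrix.vecMulVec v φ) = emb j (Matrix.vecMulVec w ψ) := add_left_cancel e
  by_cases hij : i = j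
  · subst hij
    exact ⟨rfl, emb_injective hm i e'⟩
  exfalso
  obtain ⟨c, hc⟩ := scalar_of_emb_eq hm hij e'
  obtain ⟨a, ha⟩ := Function.ne_iff.1 hv
  obtain ⟨b, hb⟩ := Function.ne_iff.1 hφ
  have h2 := vecMulVec_sq h
  rw [hc, smul_mul_smul_comm, mul_one] at h2
  have h3 := congrFun (congrFun h2 a) a
  simp at h3
  have h4 := congrFun (congrFun hc a) b
  rw [h3, zero_smul, Matrix.vecMulVec_apply] at h4
  exact mul_ne_zero ha hb h4

/-! ### Pure vectors -/

/-- A pure tensor of vectors. -/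
def pvec (ξ : Fin t → Fin m → F) : (Fin t → Fin m) → F := fun c => ∏ l, ξ l (c l)

theorem pure_mulVec (gs : Fin t → Matrix (Fin m) (Fin m) F) (ξ : Fin t → Fin m → F) :
    SpinTensor.pure gs *ᵥ pvec ξ = pvec fun l => gs l *ᵥ ξ l := by
  funext c
  simp only [Matrix.mulVec, dotProduct, pure_apply, pvec, ← Finset.prod_mul_distrib]
  exact (Fintype.prod_sum fun l p => gs l (c l) p * ξ l p).symm

theorem perm_mulVec (π : Equiv.Perm (Fin t)) (ξ : Fin t → Fin m → F) :
    perm π *ᵥ pvec ξ = pvec fun l => ξ (π⁻¹ l) := by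
  funext c
  rw [Matrix.mulVec, dotProduct, Finset.sum_eq_single (c ∘ π)]
  · simp only [perm, if_true, one_mul, pvec, Function.comp_apply]
    exact Fintype.prod_equiv π _ _ fun l => by simp
  · intro z _ hz
    simp [perm, hz]
  · simp

theorem isStd_mulVec {g : GL (Fin t → Fin m) F} {gs : Fin t → GL (Fin m) F} {π : Equiv.Perm (Fin t)}
    (e : (g : Matrix (Fin t → Fin m) (Fin t → Fin m) F) =
      SpinTensor.pure (fun i => (gs i : Matrix (Fin m) (Fin m) F)) * perm π) (ξ : Fin t → Fin m → F) :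
    (g : Matrix (Fin t → Fin m) (Fin t → Fin m) F) *ᵥ pvec ξ =
      pvec fun l => (gs l : Matrix (Fin m) (Fin m) F) *ᵥ ξ (π⁻¹ l) := by
  rw [e, ← Matrix.mulVec_mulVec, perm_mulVec, pure_mulVec]

theorem pvec_apply_update (ξ : Fin t → Fin m → F) (c : Fin t → Fin m) (l : Fin t) (a : Fin m) :
    pvec ξ (Function.update c l a) = ξ l a * ∏ k ∈ Finset.univ.erase l, ξ k (c k) := by
  rw [pvec, ← Finset.mul_prod_erase _ _ (Finset.mem_univ l), Function.update_self]
  congr 1
  exact Finset.prod_congr rfl fun k hk => by rw [Function.update_of_ne (Finset.mem_erase.1 hk).1]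

end CfsgLib.Geo.TensorWreath
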