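/-
Pure tensors of vectors: proportionality, three-term dependences, and uniqueness of the normal form.
-/
import Cfsg.Agent.Lib.Geo.TensorWreath.Basic

set_option autoImplicit false

namespace CfsgLib.Geo.TensorWreath

open Matrix CfsgLib.Geo.SpinTensor

variable {F : Type*} [Field F] {t m : ℕ}

/-- The contraction against a pure tensor of functionals. -/
def ctr (χ : Fin t → Fin m → F) (v : (Fin t → Fin m) → F) : F := ∑ c, pvec χ c * v c

theorem ctr_pvec (χ ξ : Fin t → Fin m → F) : ctr χ (pvec ξ) = ∏ l, χ l ⬝ᵥ ξ l := by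
  simp only [ctr, pvec, dotProduct, ← Finset.prod_mul_distrib]
  exact (Fintype.prod_sum fun l a => χ l a * ξ l a).symm

theorem ctr_add (χ : Fin t → Fin m → F) (v w : (Fin t → Fin m) → F) : ctr χ (v + w) = ctr χ v + ctr χ w := by
  simp [ctr, mul_add, Finset.sum_add_distrib]

theorem ctr_smul (χ : Fin t → Fin m → F) (a : F) (v : (Fin t → Fin m) → F) : ctr χ (a • v) = a * ctr χ v := by
  simp [ctr, Finset.mul_sum, mul_left_comm]

theorem exists_dual_one {v : Fin m → F} (hv : v ≠ 0) : ∃ χ : Fin m → F, χ ⬝ᵥ v = 1 :=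
  TensorLinear.exists_dual hv

/-- A functional non-zero on two given non-zero vectors. -/
theorem exists_common_dual {v w : Fin m → F} (hv : v ≠ 0) (hw : w ≠ 0) :
    ∃ χ : Fin m → F, χ ⬝ᵥ v ≠ 0 ∧ χ ⬝ᵥ w ≠ 0 := by
  obtain ⟨a, ha⟩ := exists_dual_one hv
  obtain ⟨b, hb⟩ := exists_dual_one hw
  by_cases h1 : a ⬝ᵥ w = 0
  · by_cases h2 : b ⬝ᵥ v = 0
    · exact ⟨a + b, by simp [add_dotProduct, ha, h2], by simp [add_dotProduct, hb, h1]⟩
    · exact ⟨b, h2, by simp [hb]⟩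
  · exact ⟨a, by simp [ha], h1⟩

/-- A functional killing the first vector and not the second. -/
theorem exists_kill_first {v w : Fin m → F} (h : ∀ c : F, w ≠ c • v) : ∃ χ : Fin m → F, χ ⬝ᵥ v = 0 ∧ χ ⬝ᵥ w = 1 :=
  CfsgLib.Geo.exists_functional v w fun hm => by
    obtain ⟨c, hc⟩ := Submodule.mem_span_singleton.1 hm
    exact h c hc.symm

theorem ne_zero_of_not_prop {v w : Fin m → F} (h : ∀ c : F, w ≠ c • v) : w ≠ 0 :=
  fun e => h 0 (by rw [e, zero_smul])

/-- Two pure tensors differing in two factors have no further pure tensor in their span. -/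
theorem two_diff {j k : Fin t} (hjk : j ≠ k) {ξ₀ ξ₁ ξ₂ : Fin t → Fin m → F} {a b : F} (ha : a ≠ 0) (hb : b ≠ 0)
    (h0 : ∀ l, ξ₀ l ≠ 0) (h1 : ∀ l, ξ₁ l ≠ 0) (hj : ∀ c : F, ξ₀ j ≠ c • ξ₁ j) (hk : ∀ c : F, ξ₁ k ≠ c • ξ₀ k)
    (e : pvec ξ₂ = a • pvec ξ₁ + b • pvec ξ₀) : False := by
  classical
  choose χ hχ0 hχ1 using fun l => exists_common_dual (h0 l) (h1 l)
  obtain ⟨φ, hφ1, hφ0⟩ := exists_kill_first hj
  obtain ⟨ψ, hψ0, hψ1⟩ := exists_kill_first hk
  obtain ⟨φ', hφ'⟩ := exists_dual_one (h1 j)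
  obtain ⟨ψ', hψ'⟩ := exists_dual_one (h0 k)
  have key : ∀ x y : Fin m → F, (x ⬝ᵥ ξ₂ j) * (y ⬝ᵥ ξ₂ k) * ∏ l ∈ (Finset.univ.erase j).erase k, χ l ⬝ᵥ ξ₂ l =
      a * ((x ⬝ᵥ ξ₁ j) * (y ⬝ᵥ ξ₁ k) * ∏ l ∈ (Finset.univ.erase j).erase k, χ l ⬝ᵥ ξ₁ l) +
      b * ((x ⬝ᵥ ξ₀ j) * (y ⬝ᵥ ξ₀ k) * ∏ l ∈ (Finset.univ.erase j).erase k, χ l ⬝ᵥ ξ₀ l) := by
    intro x y
    have h := congrArg (ctr (Function.update (Function.update χ j x) k y)) e
    rw [ctr_add, ctr_smul, ctr_smul, ctr_pvec, ctr_pvec, ctr_pvec] at h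
    have hsplit : ∀ ξ : Fin t → Fin m → F, ∏ l, Function.update (Function.update χ j x) k y l ⬝ᵥ ξ l =
        (x ⬝ᵥ ξ j) * (y ⬝ᵥ ξ k) * ∏ l ∈ (Finset.univ.erase j).erase k, χ l ⬝ᵥ ξ l := by
      intro ξ
      rw [← Finset.mul_prod_erase _ _ (Finset.mem_univ j),
        ← Finset.mul_prod_erase _ _ (Finset.mem_erase.2 ⟨hjk.symm, Finset.mem_univ k⟩), Function.update_of_ne hjk,
        Function.update_self, Function.update_self, mul_assoc]
      congr 2
      refine Finset.prod_congr rfl fun l hl => ?_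
      obtain ⟨hlk, hlj, -⟩ := by simpa only [Finset.mem_erase] using hl
      rw [Function.update_of_ne hlk, Function.update_of_ne hlj]
    simpa only [hsplit] using h
  have hP0 : ∏ l ∈ (Finset.univ.erase j).erase k, χ l ⬝ᵥ ξ₀ l ≠ 0 :=
    Finset.prod_ne_zero_iff.2 fun l _ => hχ0 l
  have hP1 : ∏ l ∈ (Finset.univ.erase j).erase k, χ l ⬝ᵥ ξ₁ l ≠ 0 :=
    Finset.prod_ne_zero_iff.2 fun l _ => hχ1 l
  have e1 := key φ ψ
  have e2 := key φ ψ'
  have e3 := key φ' ψ
  rw [hφ1, hφ0, hψ0, hψ1] at e1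
  rw [hφ1, hφ0, hψ'] at e2
  rw [hφ', hψ0, hψ1] at e3
  simp only [zero_mul, mul_zero, add_zero, zero_add, one_mul, mul_one] at e1 e2 e3
  have n2 := mul_ne_zero hb hP0
  have n3 := mul_ne_zero ha hP1
  rw [← e2] at n2
  rw [← e3] at n3
  have x1 : φ ⬝ᵥ ξ₂ j ≠ 0 := left_ne_zero_of_mul (left_ne_zero_of_mul n2)
  have x2 : ψ ⬝ᵥ ξ₂ k ≠ 0 := right_ne_zero_of_mul (left_ne_zero_of_mul n3)
  exact mul_ne_zero (mul_ne_zero x1 x2) (right_ne_zero_of_mul n2) e1

/-- Equal pure tensors have proportional factors. -/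
theorem pvec_prop {ξ η : Fin t → Fin m → F} (hη : ∀ l, η l ≠ 0) (e : pvec ξ = pvec η) (l : Fin t) :
    ∃ c : F, ξ l = c • η l := by
  classical
  choose c₀ hc₀ using fun k => Function.ne_iff.1 (hη k)
  have h0 := congrFun e c₀
  have hne : pvec η c₀ ≠ 0 := Finset.prod_ne_zero_iff.2 fun k _ => hc₀ k
  rw [← h0, pvec, ← Finset.mul_prod_erase _ _ (Finset.mem_univ l)] at hne
  refine ⟨(∏ k ∈ Finset.univ.erase l, η k (c₀ k)) / ∏ k ∈ Finset.univ.erase l, ξ k (c₀ k), funext fun a => ?_⟩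
  have h := congrFun e (Function.update c₀ l a)
  rw [pvec_apply_update, pvec_apply_update] at h
  have := right_ne_zero_of_mul hne
  rw [Pi.smul_apply, smul_eq_mul, div_mul_eq_mul_div, eq_div_iff this]
  linear_combination h

/-- A non-scalar matrix moves some line. -/
theorem exists_not_eigen {B : Matrix (Fin m) (Fin m) F} (h : ∀ c : F, B ≠ c • 1) :
    ∃ u : Fin m → F, u ≠ 0 ∧ ∀ c : F, B *ᵥ u ≠ c • u := by
  classical
  by_contra! hc
  set e : Fin m → Fin m → F := fun j => Pi.single j 1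
  have he : ∀ j, e j ≠ 0 := fun j => Function.ne_iff.2 ⟨j, by simp [e]⟩
  choose d hd using fun j => hc (e j) (he j)
  rcases Nat.eq_zero_or_pos m with rfl | hm
  · exact h 0 (Matrix.ext fun a => a.elim0)
  set o : Fin m := ⟨0, hm⟩
  refine h (d o) ?_
  ext a b
  have hent : ∀ p q, B p q = d q * e q p := fun p q => by
    have := congrFun (hd q) p
    rwa [Matrix.mulVec_single_one] at this
  rw [hent, Matrix.smul_apply, Matrix.one_apply, smul_eq_mul]
  by_cases hab : a = b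
  swap
  · simp [e, hab]
  subst hab
  rw [if_pos rfl]
  by_cases hao : a = o
  · subst hao; simp [e]
  obtain ⟨s, hs⟩ := hc (e a + e o) (Function.ne_iff.2 ⟨a, by simp [e, hao]⟩)
  rw [Matrix.mulVec_add, hd, hd] at hs
  have h1 := congrFun hs a
  have h2 := congrFun hs o
  simp [e, hao, Ne.symm hao] at h1 h2
  simp [e, h1, h2]

/-- A vector outside two lines. -/
theorem exists_avoid (hm : 3 ≤ m) (a b : Fin m → F) :
    ∃ f : Fin m → F, (∀ c : F, f ≠ c • a) ∧ ∀ c : F, f ≠ c • b := by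
  obtain ⟨ψ, hψ0, hψ⟩ := TensorLinear.exists_perp ![a, b] (show 2 < Fintype.card (Fin m) by rw [Fintype.card_fin]; omega)
  obtain ⟨f, hf⟩ := TensorLinear.exists_dual hψ0
  refine ⟨f, fun c e => ?_, fun c e => ?_⟩
  · rw [e, smul_dotProduct, dotProduct_comm, show ψ ⬝ᵥ a = 0 from hψ 0, smul_zero] at hf
    exact zero_ne_one hf
  · rw [e, smul_dotProduct, dotProduct_comm, show ψ ⬝ᵥ b = 0 from hψ 1, smul_zero] at hf
    exact zero_ne_one hf

theorem gl_mulVec_ne_zero (g : GL (Fin m) F) {u : Fin m → F} (hu : u ≠ 0) :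
    (g : Matrix (Fin m) (Fin m) F) *ᵥ u ≠ 0 := by
  intro h
  refine hu ?_
  have := congrArg (((g⁻¹ : GL (Fin m) F) : Matrix (Fin m) (Fin m) F) *ᵥ ·) h
  simpa [Matrix.mulVec_mulVec] using this

/-- The normal form of the identity. -/
theorem std_eq_one (hm : 3 ≤ m) {gs : Fin t → GL (Fin m) F} {π : Equiv.Perm (Fin t)}
    (e : SpinTensor.pure (fun i => (gs i : Matrix (Fin m) (Fin m) F)) * perm π = 1) :
    π = 1 ∧ ∀ l, ∃ c : F, (gs l : Matrix (Fin m) (Fin m) F) = c • 1 := by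
  classical
  haveI : NeZero m := ⟨by omega⟩
  have himg : ∀ ξ : Fin t → Fin m → F, pvec (fun l => (gs l : Matrix (Fin m) (Fin m) F) *ᵥ ξ (π⁻¹ l)) = pvec ξ := by
    intro ξ
    rw [← pure_mulVec, ← perm_mulVec, Matrix.mulVec_mulVec, e, Matrix.one_mulVec]
  set e0 : Fin m → F := Pi.single 0 1
  have he0 : e0 ≠ 0 := Function.ne_iff.2 ⟨0, by simp [e0]⟩
  have hπ : π = 1 := by
    by_contra hπ
    obtain ⟨l, hl⟩ : ∃ l, π⁻¹ l ≠ l := by
      by_contra! h
      exact hπ (inv_eq_one.1 (Equiv.ext h))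
    obtain ⟨f, hf, -⟩ := exists_avoid hm ((gs l : Matrix (Fin m) (Fin m) F) *ᵥ e0) 0
    set ξ : Fin t → Fin m → F := Function.update (fun _ => e0) l f
    have hξ : ∀ k, ξ k ≠ 0 := fun k => by
      by_cases hk : k = l
      · subst hk; simp only [ξ, Function.update_self]; exact fun h => hf 0 (by rw [h, zero_smul])
      · simp only [ξ, Function.update_of_ne hk]; exact he0
    obtain ⟨c, hc⟩ := pvec_prop hξ (himg ξ) l
    simp only [ξ, Function.update_self, Function.update_of_ne hl] at hc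
    by_cases hc0 : c = 0
    · exact gl_mulVec_ne_zero (gs l) he0 (by rw [hc, hc0, zero_smul])
    · exact hf c⁻¹ (by rw [hc, inv_smul_smul₀ hc0])
  refine ⟨hπ, fun l => ?_⟩
  by_contra! h
  obtain ⟨u, hu, hu'⟩ := exists_not_eigen h
  obtain ⟨c, hc⟩ := pvec_prop (η := Function.update (fun _ => e0) l u) (fun k => by
    by_cases hk : k = l
    · subst hk; simpa using hu
    · simpa [Function.update_of_ne hk] using he0) (himg _) l
  rw [hπ, inv_one, Equiv.Perm.coe_one, id_eq, Function.update_self] at hc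
  exact hu' c hc

/-- A pure tensor with one non-scalar factor. -/
theorem pure_collapse (i : Fin t) (gs : Fin t → Matrix (Fin m) (Fin m) F) (c : Fin t → F)
    (h : ∀ l, l ≠ i → gs l = c l • 1) :
    SpinTensor.pure gs = emb i ((∏ l ∈ Finset.univ.erase i, c l) • gs i) := by
  ext x y
  rw [pure_apply, emb_apply, ← Finset.mul_prod_erase _ _ (Finset.mem_univ i), Matrix.smul_apply, smul_eq_mul]
  have hl : ∀ l ∈ Finset.univ.erase i, gs l (x l) (y l) = c l * (if x l = y l then 1 else 0) := fun l hl => by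
    rw [h l (Finset.mem_erase.1 hl).1, Matrix.smul_apply, Matrix.one_apply, smul_eq_mul]
  rw [Finset.prod_congr rfl hl, Finset.prod_mul_distrib]
  split_ifs with hxy
  · rw [Finset.prod_eq_one (f := fun l => if x l = y l then (1 : F) else 0) fun l hl =>
      if_pos (hxy l (Finset.mem_erase.1 hl).1)]
    ring
  · push Not at hxy
    obtain ⟨l, hli, hne⟩ := hxy
    rw [Finset.prod_eq_zero (f := fun l => if x l = y l then (1 : F) else 0)
      (Finset.mem_erase.2 ⟨hli, Finset.mem_univ l⟩) (if_neg hne), mul_zero, mul_zero]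

/-- A pure tensor of scalars is a scalar. -/
theorem pure_scalar (gs : Fin t → Matrix (Fin m) (Fin m) F) (c : Fin t → F) (h : ∀ l, gs l = c l • 1) :
    SpinTensor.pure gs = (∏ l, c l) • (1 : Matrix (Fin t → Fin m) (Fin t → Fin m) F) := by
  ext x y
  rw [pure_apply, Matrix.smul_apply, Matrix.one_apply, smul_eq_mul]
  simp only [h, Matrix.smul_apply, Matrix.one_apply, smul_eq_mul]
  rw [Finset.prod_mul_distrib]
  congr 1
  split_ifs with hxy
  · exact Finset.prod_eq_one fun l _ => if_pos (by rw [hxy])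
  · obtain ⟨l, hl⟩ := Function.ne_iff.1 hxy
    exact Finset.prod_eq_zero (Finset.mem_univ l) (if_neg hl)

end CfsgLib.Geo.TensorWreath
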