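/-
The permutation of a standard element.
-/
import Cfsg.Agent.Lib.Geo.TensorWreath.Pure

set_option autoImplicit false

namespace CfsgLib.Geo.TensorWreath

open Matrix CfsgLib.Geo.SpinTensor

variable {F : Type*} [Field F] {t m : ℕ}

/-- Standard with the given permutation. -/
def HasPerm (g : GL (Fin t → Fin m) F) (π : Equiv.Perm (Fin t)) : Prop :=
  ∃ gs : Fin t → GL (Fin m) F, g = pureGL gs * permGL m F π

theorem pureGL_mul (gs hs : Fin t → GL (Fin m) F) : pureGL gs * pureGL hs = pureGL (gs * hs) :=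
  Units.ext (pure_mul _ _)

theorem pureGL_one : pureGL (1 : Fin t → GL (Fin m) F) = 1 := Units.ext pure_one

theorem pureGL_inv (gs : Fin t → GL (Fin m) F) : (pureGL gs)⁻¹ = pureGL gs⁻¹ :=
  inv_eq_of_mul_eq_one_right (by rw [pureGL_mul, mul_inv_cancel, pureGL_one])

theorem permGL_one : permGL m F (1 : Equiv.Perm (Fin t)) = 1 := Units.ext perm_one

theorem permGL_mul (π ρ : Equiv.Perm (Fin t)) : permGL m F π * permGL m F ρ = permGL m F (π * ρ) :=
  Units.ext (perm_mul π ρ)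

theorem permGL_mul_pureGL (π : Equiv.Perm (Fin t)) (gs : Fin t → GL (Fin m) F) :
    permGL m F π * pureGL gs = pureGL (fun i => gs (π⁻¹ i)) * permGL m F π :=
  Units.ext (perm_mul_pure π _)

theorem HasPerm.isStd {g : GL (Fin t → Fin m) F} {π : Equiv.Perm (Fin t)} (h : HasPerm g π) : IsStd g := by
  obtain ⟨gs, rfl⟩ := h
  exact (isStd_pureGL gs).mul (isStd_permGL π)

theorem IsStd.hasPerm {g : GL (Fin t → Fin m) F} (h : IsStd g) : ∃ π, HasPerm g π := by
  obtain ⟨gs, π, e⟩ := h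
  exact ⟨π, gs, Units.ext e⟩

theorem hasPerm_pureGL (gs : Fin t → GL (Fin m) F) : HasPerm (pureGL gs) 1 :=
  ⟨gs, by rw [permGL_one, mul_one]⟩

theorem hasPerm_permGL (π : Equiv.Perm (Fin t)) : HasPerm (permGL m F π) π :=
  ⟨1, by rw [pureGL_one, one_mul]⟩

theorem hasPerm_one : HasPerm (1 : GL (Fin t → Fin m) F) 1 := by
  rw [← pureGL_one]; exact hasPerm_pureGL _

theorem HasPerm.mul {g h : GL (Fin t → Fin m) F} {π ρ : Equiv.Perm (Fin t)} (hg : HasPerm g π) (hh : HasPerm h ρ) :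
    HasPerm (g * h) (π * ρ) := by
  obtain ⟨gs, rfl⟩ := hg
  obtain ⟨hs, rfl⟩ := hh
  exact ⟨gs * fun i => hs (π⁻¹ i), by
    rw [← pureGL_mul, ← permGL_mul, mul_assoc, ← mul_assoc (permGL m F π), permGL_mul_pureGL]
    simp only [mul_assoc]⟩

theorem HasPerm.inv {g : GL (Fin t → Fin m) F} {π : Equiv.Perm (Fin t)} (hg : HasPerm g π) : HasPerm g⁻¹ π⁻¹ := by
  obtain ⟨gs, rfl⟩ := hg
  refine ⟨fun i => (gs⁻¹) (π i), ?_⟩
  rw [_root_.mul_inv_rev, pureGL_inv,
    inv_eq_of_mul_eq_one_right (show permGL m F π * permGL m F π⁻¹ = 1 by rw [permGL_mul, mul_inv_cancel, permGL_one]),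
    permGL_mul_pureGL, inv_inv]

theorem HasPerm.unique (hm : 3 ≤ m) {g : GL (Fin t → Fin m) F} {π ρ : Equiv.Perm (Fin t)} (hg : HasPerm g π)
    (hh : HasPerm g ρ) : π = ρ := by
  obtain ⟨gs, e⟩ := hg.mul hh.inv
  rw [mul_inv_cancel] at e
  have h := (std_eq_one hm (congrArg Units.val e).symm).1
  rwa [mul_inv_eq_one] at h

theorem HasPerm.pow {g : GL (Fin t → Fin m) F} {π : Equiv.Perm (Fin t)} (hg : HasPerm g π) (n : ℕ) :
    HasPerm (g ^ n) (π ^ n) := by
  induction n with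
  | zero => simpa using hasPerm_one
  | succ n ih => rw [pow_succ, pow_succ]; exact ih.mul hg

/-- A root does not permute. -/
theorem IsRoot.hasPerm_one {x : GL (Fin t → Fin m) F} (hx : IsRoot x) : HasPerm x 1 := by
  classical
  obtain ⟨i, v, φ, h, -, -, e⟩ := hx
  let u : GL (Fin m) F := ⟨1 + Matrix.vecMulVec v φ, 1 - Matrix.vecMulVec v φ, by
    rw [mul_sub, mul_one, add_mul, one_mul, vecMulVec_sq h]; abel, by
    rw [mul_add, mul_one, sub_mul, one_mul, vecMulVec_sq h]; abel⟩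
  refine ⟨Function.update (fun _ => 1) i u, ?_⟩
  rw [permGL_one, mul_one]
  refine Units.ext ?_
  rw [e, rootMat_eq_emb]
  show SpinTensor.pure _ = SpinTensor.pure _
  congr 1
  funext k
  by_cases hk : k = i
  · subst hk; simp [u]
  · simp [Function.update_of_ne hk]

end CfsgLib.Geo.TensorWreath
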