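/-
One-factor elements as units.
-/
import Cfsg.Agent.Lib.Geo.TensorWreath.Perm

set_option autoImplicit false

namespace CfsgLib.Geo.TensorWreath

open Matrix CfsgLib.Geo.SpinTensor

variable {F : Type*} [Field F] {t m : ℕ}

/-- The elements on one factor. -/
def fac (i : Fin t) : GL (Fin m) F →* GL (Fin t → Fin m) F where
  toFun u := pureGL (Function.update 1 i u)
  map_one' := by rw [Function.update_eq_self_iff.2 (show (1 : GL (Fin m) F) = (1 : Fin t → GL (Fin m) F) i from rfl), pureGL_one]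
  map_mul' u v := by
    rw [pureGL_mul]
    congr 1
    funext l
    by_cases hl : l = i
    · subst hl; simp
    · simp [Function.update_of_ne hl]

theorem fac_apply (i : Fin t) (u : GL (Fin m) F) : fac i u = pureGL (Function.update 1 i u) := rfl

theorem val_fac (i : Fin t) (u : GL (Fin m) F) :
    (fac i u : Matrix (Fin t → Fin m) (Fin t → Fin m) F) = emb i (u : Matrix (Fin m) (Fin m) F) := by
  have h : (fun l => ((Function.update 1 i u : Fin t → GL (Fin m) F) l : Matrix (Fin m) (Fin m) F)) =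
      Function.update (fun _ => 1) i (u : Matrix (Fin m) (Fin m) F) := by
    funext l
    by_cases hl : l = i
    · subst hl; simp
    · simp [Function.update_of_ne hl]
  show SpinTensor.pure _ = _
  rw [h]
  rfl

theorem fac_injective (hm : 3 ≤ m) (i : Fin t) : Function.Injective (fac (F := F) (m := m) i) := fun u v h =>
  Units.ext (emb_injective hm i (by rw [← val_fac, ← val_fac, h]))

theorem fac_commute {i j : Fin t} (h : i ≠ j) (u v : GL (Fin m) F) : Commute (fac i u) (fac j v) := by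
  show fac i u * fac j v = fac j v * fac i u
  rw [fac_apply, fac_apply, pureGL_mul, pureGL_mul]
  congr 1
  funext l
  by_cases hl : l = i
  · subst hl; simp [Function.update_of_ne h]
  · simp [Function.update_of_ne hl]

theorem hasPerm_fac (i : Fin t) (u : GL (Fin m) F) : HasPerm (fac i u) 1 := hasPerm_pureGL _

theorem conj_pureGL {g : GL (Fin t → Fin m) F} {gs : Fin t → GL (Fin m) F} {π : Equiv.Perm (Fin t)}
    (e : g = pureGL gs * permGL m F π) (bs : Fin t → GL (Fin m) F) :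
    g * pureGL bs * g⁻¹ = pureGL fun l => gs l * bs (π⁻¹ l) * (gs l)⁻¹ := by
  rw [mul_inv_eq_iff_eq_mul, e, ← mul_assoc, pureGL_mul, mul_assoc (pureGL gs), permGL_mul_pureGL, ← mul_assoc,
    pureGL_mul]
  congr 2
  funext l
  simp

theorem conj_fac {g : GL (Fin t → Fin m) F} {gs : Fin t → GL (Fin m) F} {π : Equiv.Perm (Fin t)}
    (e : g = pureGL gs * permGL m F π) (i : Fin t) (u : GL (Fin m) F) :
    g * fac i u * g⁻¹ = fac (π i) (gs (π i) * u * (gs (π i))⁻¹) := by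
  rw [fac_apply, fac_apply, conj_pureGL e]
  congr 1
  funext l
  by_cases hl : l = π i
  · subst hl; simp
  · rw [Function.update_of_ne hl, Function.update_of_ne fun h => hl (by rw [← h]; simp)]
    simp

theorem pureGL_eq (hm : 3 ≤ m) {gs hs : Fin t → GL (Fin m) F} (e : pureGL gs = pureGL hs) (l : Fin t) :
    ∃ c : F, (gs l : Matrix (Fin m) (Fin m) F) = c • (hs l : Matrix (Fin m) (Fin m) F) := by
  have h1 : pureGL (hs⁻¹ * gs) * permGL m F 1 = (1 : GL (Fin t → Fin m) F) := by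
    rw [permGL_one, mul_one, ← pureGL_mul, ← pureGL_inv, e, inv_mul_cancel]
  obtain ⟨c, hc⟩ := (std_eq_one hm (congrArg Units.val h1)).2 l
  refine ⟨c, ?_⟩
  calc (gs l : Matrix (Fin m) (Fin m) F)
      = (hs l : Matrix (Fin m) (Fin m) F) * ((hs⁻¹ * gs) l : GL (Fin m) F) := by
        rw [← Units.val_mul]; simp
    _ = _ := by rw [hc, mul_smul_comm, mul_one]

/-- A transvection. -/
def trv (v φ : Fin m → F) (h : φ ⬝ᵥ v = 0) : GL (Fin m) F :=
  ⟨1 + Matrix.vecMulVec v φ, 1 - Matrix.vecMulVec v φ, by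
    rw [mul_sub, mul_one, add_mul, one_mul, vecMulVec_sq h]; abel, by
    rw [mul_add, mul_one, sub_mul, one_mul, vecMulVec_sq h]; abel⟩

theorem rootGL_eq_fac (i : Fin t) (v φ : Fin m → F) (h : φ ⬝ᵥ v = 0) :
    rootGL i v φ h = fac i (trv v φ h) :=
  Units.ext (by rw [rootGL_val, rootMat_eq_emb, val_fac]; rfl)

theorem conj_trv (g : GL (Fin m) F) {v φ : Fin m → F} (h : φ ⬝ᵥ v = 0) :
    g * trv v φ h * g⁻¹ = trv ((g : Matrix (Fin m) (Fin m) F) *ᵥ v)
      (φ ᵥ* ((g⁻¹ : GL (Fin m) F) : Matrix (Fin m) (Fin m) F)) ((dot_conj g.inv_mul v φ).trans h) := by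
  refine Units.ext ?_
  show (g : Matrix (Fin m) (Fin m) F) * (1 + Matrix.vecMulVec v φ) *
    ((g⁻¹ : GL (Fin m) F) : Matrix (Fin m) (Fin m) F) = _
  rw [mul_add, mul_one, add_mul, Units.mul_inv, Matrix.mul_vecMulVec, Matrix.vecMulVec_mul]
  rfl

theorem trv_smul (hm : 3 ≤ m) {v φ w ψ : Fin m → F} {c : F}
    (e : 1 + Matrix.vecMulVec v φ = c • (1 + Matrix.vecMulVec w ψ)) :
    c = 1 ∧ Matrix.vecMulVec v φ = Matrix.vecMulVec w ψ := by
  obtain ⟨x, hx0, hx⟩ := TensorLinear.exists_perp ![φ, ψ]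
    (show 2 < Fintype.card (Fin m) by rw [Fintype.card_fin]; omega)
  have h1 : φ ⬝ᵥ x = 0 := by rw [dotProduct_comm]; exact hx 0
  have h2 : ψ ⬝ᵥ x = 0 := by rw [dotProduct_comm]; exact hx 1
  have h3 := congrArg (· *ᵥ x) e
  simp only [Matrix.add_mulVec, Matrix.one_mulVec, Matrix.smul_mulVec, Matrix.vecMulVec_mulVec, h1, h2,
    MulOpposite.op_zero, zero_smul, add_zero] at h3
  have hc : c = 1 := by
    obtain ⟨a, ha⟩ := Function.ne_iff.1 hx0
    have h4 := congrFun h3 a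
    rw [Pi.smul_apply, smul_eq_mul] at h4
    exact mul_right_cancel₀ ha (by rw [← h4, one_mul])
  refine ⟨hc, ?_⟩
  rw [hc, one_smul] at e
  exact add_left_cancel e

theorem trv_not_scalar (hm : 3 ≤ m) {v φ : Fin m → F} (h : φ ⬝ᵥ v = 0) (hv : v ≠ 0) (hφ : φ ≠ 0) (c : F) :
    (trv v φ h : Matrix (Fin m) (Fin m) F) ≠ c • 1 := by
  intro e
  have e' : 1 + Matrix.vecMulVec v φ = c • (1 + Matrix.vecMulVec (0 : Fin m → F) (0 : Fin m → F)) := by
    rw [Matrix.vecMulVec_zero, add_zero]; exact e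
  have h0 := (trv_smul hm e').2
  rw [Matrix.vecMulVec_zero] at h0
  obtain ⟨a, ha⟩ := Function.ne_iff.1 hv
  obtain ⟨b, hb⟩ := Function.ne_iff.1 hφ
  exact mul_ne_zero ha hb (congrFun (congrFun h0 a) b)

theorem IsRoot.exists_fac {x : GL (Fin t → Fin m) F} (hx : IsRoot x) :
    ∃ (i : Fin t) (v φ : Fin m → F) (h : φ ⬝ᵥ v = 0), v ≠ 0 ∧ φ ≠ 0 ∧ x = fac i (trv v φ h) := by
  obtain ⟨i, v, φ, h, hv, hφ, e⟩ := hx
  exact ⟨i, v, φ, h, hv, hφ, (Units.ext e : x = rootGL i v φ h).trans (rootGL_eq_fac i v φ h)⟩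

theorem isRoot_fac_trv (i : Fin t) {v φ : Fin m → F} (h : φ ⬝ᵥ v = 0) (hv : v ≠ 0) (hφ : φ ≠ 0) :
    IsRoot (fac i (trv v φ h)) := by
  rw [← rootGL_eq_fac]; exact isRoot_rootGL h hv hφ

end CfsgLib.Geo.TensorWreath
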