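/-
Two linearly linked transvections of degree two generate a group of even order.
-/
import Mathlib.GroupTheory.Sylow
import Mathlib.LinearAlgebra.Matrix.GeneralLinearGroup.Defs
import Mathlib.LinearAlgebra.Matrix.Charpoly.Coeff
import Mathlib.Algebra.CharP.Lemmas
import Mathlib.Algebra.CharP.Algebra
import Mathlib.Data.ZMod.Basic
import Mathlib.Algebra.BigOperators.Group.Finset.Basic

set_option autoImplicit false

namespace CfsgLib.Geo.TensorWreath

open Matrix
open scoped Pointwise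

variable {k : Type*} [Field k]

/-- A unipotent element of degree two. -/
theorem trace_eq_zero_of_pow (p : ℕ) [Fact p.Prime] [CharP k p] {g : GL (Fin 2) k} {n : ℕ} (h : g ^ p ^ n = 1) :
    ((g : Matrix (Fin 2) (Fin 2) k) - 1).trace = 0 := by
  haveI : CharP (Matrix (Fin 2) (Fin 2) k) p :=
    charP_of_injective_algebraMap (algebraMap k (Matrix (Fin 2) (Fin 2) k)).injective p
  have h2 := sub_pow_char_pow_of_commute (p := p) (n := n) (Commute.one_right (g : Matrix (Fin 2) (Fin 2) k))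
  rw [← Units.val_pow_eq_pow_val, h, Units.val_one, one_pow, sub_self] at h2
  exact (Matrix.isNilpotent_trace_of_isNilpotent ⟨_, h2⟩).eq_zero

theorem even_of_transvections (p : ℕ) [Fact p.Prime] [CharP k p] (Γ : Subgroup (GL (Fin 2) k)) [Finite Γ]
    {R S : GL (Fin 2) k} {c : k} (hc : c ≠ 0) (hR : (R : Matrix (Fin 2) (Fin 2) k) = !![1, c; 0, 1])
    (hS : (S : Matrix (Fin 2) (Fin 2) k) = !![1, 0; 1, 1]) (hΓ : Γ = Subgroup.closure {R, S})
    (hodd : Odd (Nat.card Γ)) : False := by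
  classical
  haveI : Fintype Γ := Fintype.ofFinite Γ
  have hRmem : R ∈ Γ := hΓ ▸ Subgroup.subset_closure (Set.mem_insert _ _)
  have hSmem : S ∈ Γ := hΓ ▸ Subgroup.subset_closure (Set.mem_insert_of_mem _ rfl)
  have hsq : ∀ N : Matrix (Fin 2) (Fin 2) k, N * N = 0 → (1 + N) ^ p = 1 := by
    intro N hN
    haveI : CharP (Matrix (Fin 2) (Fin 2) k) p :=
      charP_of_injective_algebraMap (algebraMap k (Matrix (Fin 2) (Fin 2) k)).injective p
    rw [add_pow_char_of_commute p (Commute.one_left N), one_pow,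
      pow_eq_zero_of_le (Fact.out : p.Prime).two_le (by rw [pow_two]; exact hN), add_zero]
  have hRN : (R : Matrix (Fin 2) (Fin 2) k) = 1 + !![0, c; 0, 0] := by
    rw [hR]; ext i j; fin_cases i <;> fin_cases j <;> simp
  have hSN : (S : Matrix (Fin 2) (Fin 2) k) = 1 + !![0, 0; 1, 0] := by
    rw [hS]; ext i j; fin_cases i <;> fin_cases j <;> simp
  have hpR : (⟨R, hRmem⟩ : Γ) ^ p = 1 := Subtype.ext (Units.ext (by
    show ((R ^ p : GL (Fin 2) k) : Matrix (Fin 2) (Fin 2) k) = 1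
    rw [Units.val_pow_eq_pow_val, hRN]
    exact hsq _ (by ext i j; fin_cases i <;> fin_cases j <;> simp [Matrix.mul_apply, Fin.sum_univ_two])))
  have hpS : (⟨S, hSmem⟩ : Γ) ^ p = 1 := Subtype.ext (Units.ext (by
    show ((S ^ p : GL (Fin 2) k) : Matrix (Fin 2) (Fin 2) k) = 1
    rw [Units.val_pow_eq_pow_val, hSN]
    exact hsq _ (by ext i j; fin_cases i <;> fin_cases j <;> simp [Matrix.mul_apply, Fin.sum_univ_two])))
  have hz : ∀ x : Γ, x ^ p = 1 → IsPGroup p (Subgroup.zpowers x) := by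
    intro x hx ⟨y, hy⟩
    obtain ⟨z, rfl⟩ := Subgroup.mem_zpowers_iff.1 hy
    refine ⟨1, Subtype.ext ?_⟩
    show (x ^ z) ^ p ^ 1 = 1
    rw [pow_one, ← zpow_natCast, ← _root_.zpow_mul, mul_comm, _root_.zpow_mul, zpow_natCast, hx, one_zpow]
  obtain ⟨P, hP⟩ := (hz _ hpR).exists_le_sylow
  obtain ⟨Q, hQ⟩ := (hz _ hpS).exists_le_sylow
  obtain ⟨h, hh⟩ := MulAction.exists_smul_eq Γ Q P
  set Y : Γ := h * ⟨S, hSmem⟩ * h⁻¹
  have hY : Y ∈ (P : Subgroup Γ) := by
    have h1 : (MulAut.conj h) • (⟨S, hSmem⟩ : Γ) ∈ (MulAut.conj h) • (Q : Subgroup Γ) :=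
      Subgroup.smul_mem_pointwise_smul _ _ _ (hQ (Subgroup.mem_zpowers _))
    rw [← Sylow.coe_subgroup_smul] at h1
    rw [← hh]
    exact h1
  have hRP : (⟨R, hRmem⟩ : Γ) ∈ (P : Subgroup Γ) := hP (Subgroup.mem_zpowers _)
  have htr : ∀ x : Γ, x ∈ (P : Subgroup Γ) →
      (((x : GL (Fin 2) k) : Matrix (Fin 2) (Fin 2) k) - 1).trace = 0 := by
    intro x hx
    obtain ⟨n, hn⟩ := P.2 ⟨x, hx⟩
    exact trace_eq_zero_of_pow p (congrArg Subtype.val (congrArg Subtype.val hn))
  set H := ((h : GL (Fin 2) k) : Matrix (Fin 2) (Fin 2) k)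
  set N := ((Y : GL (Fin 2) k) : Matrix (Fin 2) (Fin 2) k) - 1
  have hNH : N * H = H * !![0, 0; 1, 0] := by
    rw [sub_mul, one_mul]
    have : ((Y : GL (Fin 2) k) : Matrix (Fin 2) (Fin 2) k) * H = H * (S : Matrix (Fin 2) (Fin 2) k) := by
      rw [← Units.val_mul, ← Units.val_mul]
      congr 1
      simp [Y]
    rw [this, hSN, mul_add, mul_one, add_sub_cancel_left]
  have hN2 : N * N = 0 := by
    have h1 : N * N * H = 0 := by
      rw [mul_assoc, hNH, ← mul_assoc, hNH, mul_assoc]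
      convert mul_zero H
      ext i j; fin_cases i <;> fin_cases j <;> simp [Matrix.mul_apply, Fin.sum_univ_two]
    have h2 := congrArg (· * (((h : GL (Fin 2) k)⁻¹ : GL (Fin 2) k) : Matrix (Fin 2) (Fin 2) k)) h1
    simpa [H, mul_assoc] using h2
  have t1 : N.trace = 0 := htr Y hY
  have t2 := htr _ (mul_mem hRP hY)
  have e : ((((⟨R, hRmem⟩ : Γ) * Y : Γ) : GL (Fin 2) k) : Matrix (Fin 2) (Fin 2) k) - 1 =
      !![0, c; 0, 0] + N + !![0, c; 0, 0] * N := by
    show ((R : GL (Fin 2) k) : Matrix (Fin 2) (Fin 2) k) * ((Y : GL (Fin 2) k) : Matrix (Fin 2) (Fin 2) k) - 1 = _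
    rw [show ((Y : GL (Fin 2) k) : Matrix (Fin 2) (Fin 2) k) = 1 + N by simp [N], hRN]
    simp only [add_mul, mul_add, one_mul, mul_one]
    abel
  rw [e] at t2
  simp [Matrix.trace_fin_two, Matrix.mul_apply, Fin.sum_univ_two, Matrix.vecMul, dotProduct] at t1 t2
  have hN10 : N 1 0 = 0 := by
    have : c * N 1 0 = 0 := by linear_combination t2 - t1
    exact (mul_eq_zero.1 this).resolve_left hc
  have hN11 : N 1 1 = 0 := by
    have := congrFun (congrFun hN2 1) 1
    simp [Matrix.mul_apply, Fin.sum_univ_two, hN10] at this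
    exact this
  have hH11 : H 1 1 = 0 := by
    have := congrFun (congrFun hNH 1) 0
    simp [Matrix.mul_apply, Fin.sum_univ_two, hN10, hN11] at this
    first | exact this | exact this.symm
  have hdet : ∀ g : GL (Fin 2) k, (g : Matrix (Fin 2) (Fin 2) k) 0 0 * (g : Matrix (Fin 2) (Fin 2) k) 1 1 -
      (g : Matrix (Fin 2) (Fin 2) k) 0 1 * (g : Matrix (Fin 2) (Fin 2) k) 1 0 ≠ 0 := fun g => by
    rw [← Matrix.det_fin_two]
    exact ((Matrix.isUnit_iff_isUnit_det _).1 g.isUnit).ne_zero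
  have hH10 : H 1 0 ≠ 0 := fun h10 => hdet h (by simp [H] at hH11 h10; simp [hH11, h10])
  let B : Subgroup Γ :=
    { carrier := {q | ((q : GL (Fin 2) k) : Matrix (Fin 2) (Fin 2) k) 0 1 = 0}
      one_mem' := by simp
      mul_mem' := fun {a b} (ha : _ = _) (hb : _ = _) => by
        simp [Matrix.mul_apply, Fin.sum_univ_two, ha, hb]
      inv_mem' := fun {a} (ha : _ = _) => by
        have h1 := congrFun (congrFun (Units.mul_inv (a : GL (Fin 2) k)) 0) 1
        simp [Matrix.mul_apply, Fin.sum_univ_two, ha] at h1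
        rcases h1 with h1 | h1
        · exact absurd (by rw [h1, ha]; ring) (hdet (a : GL (Fin 2) k))
        · simpa using h1 }
  set T : Finset Γ := Finset.univ.filter fun g => ((g : GL (Fin 2) k) : Matrix (Fin 2) (Fin 2) k) 1 1 = 0
  have hTB : T.card = Nat.card B := by
    rw [← Nat.card_eq_finsetCard T]
    refine Nat.card_congr ((Equiv.mulLeft h⁻¹).subtypeEquiv fun g => ?_)
    simp only [T, Finset.mem_filter, Finset.mem_univ, true_and, Equiv.coe_mulLeft]
    show _ ↔ (((h⁻¹ * g : Γ) : GL (Fin 2) k) : Matrix (Fin 2) (Fin 2) k) 0 1 = 0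
    set q := (((h⁻¹ * g : Γ) : GL (Fin 2) k) : Matrix (Fin 2) (Fin 2) k)
    have hg : ((g : GL (Fin 2) k) : Matrix (Fin 2) (Fin 2) k) = H * q := by
      simp only [q, H, ← Units.val_mul]
      congr 1
      simp
    rw [hg, Matrix.mul_apply, Fin.sum_univ_two, hH11, zero_mul, add_zero, mul_eq_zero]
    exact ⟨fun h1 => h1.resolve_left hH10, Or.inr⟩
  let d : GL (Fin 2) k := ⟨!![1, 0; 0, -1], !![1, 0; 0, -1],
    by ext i j; fin_cases i <;> fin_cases j <;> simp [Matrix.mul_apply, Fin.sum_univ_two],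
    by ext i j; fin_cases i <;> fin_cases j <;> simp [Matrix.mul_apply, Fin.sum_univ_two]⟩
  have hdd : d * d = 1 := Units.ext d.val_inv
  have hd : d⁻¹ = d := inv_eq_of_mul_eq_one_right hdd
  have hstab : Γ.map (MulAut.conj d).toMonoidHom ≤ Γ := by
    conv_lhs => rw [hΓ, MonoidHom.map_closure]
    rw [Subgroup.closure_le]
    rintro _ ⟨x, hx | hx, rfl⟩
    · rw [hx]
      have : d * R * d⁻¹ = R⁻¹ := by
        rw [hd, eq_inv_iff_mul_eq_one]
        refine Units.ext ?_
        show !![(1 : k), 0; 0, -1] * (R : Matrix (Fin 2) (Fin 2) k) * !![1, 0; 0, -1] *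
          (R : Matrix (Fin 2) (Fin 2) k) = 1
        rw [hR]
        ext i j; fin_cases i <;> fin_cases j <;> simp [Matrix.mul_apply, Fin.sum_univ_two]
      show d * R * d⁻¹ ∈ Γ
      exact this ▸ Γ.inv_mem hRmem
    · rw [Set.mem_singleton_iff.1 hx]
      have : d * S * d⁻¹ = S⁻¹ := by
        rw [hd, eq_inv_iff_mul_eq_one]
        refine Units.ext ?_
        show !![(1 : k), 0; 0, -1] * (S : Matrix (Fin 2) (Fin 2) k) * !![1, 0; 0, -1] *
          (S : Matrix (Fin 2) (Fin 2) k) = 1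
        rw [hS]
        ext i j; fin_cases i <;> fin_cases j <;> simp [Matrix.mul_apply, Fin.sum_univ_two]
      show d * S * d⁻¹ ∈ Γ
      exact this ▸ Γ.inv_mem hSmem
  let σ : Γ → Γ := fun g => ⟨d * g * d⁻¹, hstab ⟨g, g.2, rfl⟩⟩
  have hσ : ∀ g : Γ, ∀ i j, (((σ g : Γ) : GL (Fin 2) k) : Matrix (Fin 2) (Fin 2) k) i j =
      (if i = j then 1 else -1) * ((g : GL (Fin 2) k) : Matrix (Fin 2) (Fin 2) k) i j := by
    intro g i j
    show ((d * g * d⁻¹ : GL (Fin 2) k) : Matrix (Fin 2) (Fin 2) k) i j = _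
    rw [hd]
    show ((!![(1 : k), 0; 0, -1] * ((g : GL (Fin 2) k) : Matrix (Fin 2) (Fin 2) k) * !![1, 0; 0, -1]) :
      Matrix (Fin 2) (Fin 2) k) i j = _
    fin_cases i <;> fin_cases j <;> simp [Matrix.mul_apply, Fin.sum_univ_two, Matrix.vecMul, dotProduct]
  have hsum : ∑ g ∈ T, (1 : ZMod 2) = 0 := by
    refine Finset.sum_involution (fun g _ => σ g) (fun g _ => by decide) (fun g hg _ hfix => ?_) (fun g hg => ?_)
      (fun g _ => Subtype.ext ?_)
    · rw [Finset.mem_filter] at hg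
      have h01 := hσ g 0 1
      have h10 := hσ g 1 0
      rw [hfix] at h01 h10
      simp at h01 h10
      have h2 : (2 : k) ≠ 0 := by
        intro h2
        have hp : p = 2 := by
          have : ((2 : ℕ) : k) = 0 := by exact_mod_cast h2
          exact ((Nat.prime_dvd_prime_iff_eq Fact.out Nat.prime_two).1 ((CharP.cast_eq_zero_iff k p 2).1 this))
        have : orderOf (⟨R, hRmem⟩ : Γ) = p := orderOf_eq_prime hpR (fun h1 => hc (by
          have h4 : R = 1 := congrArg Subtype.val h1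
          have h5 := hR
          rw [h4, Units.val_one] at h5
          simpa using (congrFun (congrFun h5 0) 1).symm))
        have h3 := orderOf_dvd_natCard (⟨R, hRmem⟩ : Γ)
        rw [this, hp] at h3
        exact hodd.not_two_dvd_nat h3
      have e01 : (2 : k) * ((g : GL (Fin 2) k) : Matrix (Fin 2) (Fin 2) k) 0 1 = 0 := by linear_combination h01
      exact hdet g (by rw [hg.2, (mul_eq_zero.1 e01).resolve_left h2]; ring)
    · rw [Finset.mem_filter] at hg ⊢
      exact ⟨Finset.mem_univ _, by rw [hσ, hg.2, mul_zero]⟩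
    · show d * (d * g * d⁻¹) * d⁻¹ = g
      rw [hd, ← mul_assoc, ← mul_assoc, hdd, one_mul, mul_assoc, hdd, mul_one]
  rw [Finset.sum_const, nsmul_one, ZMod.natCast_eq_zero_iff_even] at hsum
  rw [hTB] at hsum
  exact absurd (Dvd.dvd.trans (even_iff_two_dvd.1 hsum) B.card_subgroup_dvd_card) hodd.not_two_dvd_nat

end CfsgLib.Geo.TensorWreath
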