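/-
The group generated by two elements `1 + a`, `1 + b` with `a ^ 2 = b ^ 2 = 0`, through `K = a * b + b * a`.
-/
import Mathlib.LinearAlgebra.Matrix.Charpoly.Coeff
import Mathlib.Algebra.Polynomial.AlgebraMap
import Mathlib.GroupTheory.PGroup
import Mathlib.Algebra.CharP.Lemmas
import Mathlib.FieldTheory.IsAlgClosed.AlgebraicClosure

set_option autoImplicit false

namespace CfsgLib.Geo.TensorWreath

open Polynomial

section Calc

variable {R M : Type*} [CommRing R] [Ring M] (ι : R →+* M) (a b : M)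

/-- A combination of the four words. -/
def comb (c₀ c₁ c₂ c₃ : R) : M := ι c₀ + ι c₁ * a + ι c₂ * b + ι c₃ * (a * b)

theorem comb_mul {k : R} (ha : a * a = 0) (hb : b * b = 0) (hk : ι k = a * b + b * a)
    (hca : ∀ x, a * ι x = ι x * a) (hcb : ∀ x, b * ι x = ι x * b) (c₀ c₁ c₂ c₃ d₀ d₁ d₂ d₃ : R) :
    comb ι a b c₀ c₁ c₂ c₃ * comb ι a b d₀ d₁ d₂ d₃ =
      comb ι a b (c₀ * d₀ + c₂ * d₁ * k) (c₀ * d₁ + c₁ * d₀ + c₃ * d₁ * k) (c₀ * d₂ + c₂ * d₀ + c₂ * d₃ * k)
        (c₀ * d₃ + c₃ * d₀ + c₁ * d₂ - c₂ * d₁ + c₃ * d₃ * k) := by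
  have ha' : ∀ z, a * (a * z) = 0 := fun z => by rw [← mul_assoc, ha, zero_mul]
  have hb' : ∀ z, b * (b * z) = 0 := fun z => by rw [← mul_assoc, hb, zero_mul]
  have hba : b * a = ι k - a * b := by rw [hk]; abel
  have hba' : ∀ z, b * (a * z) = ι k * z - a * (b * z) := fun z => by
    rw [← mul_assoc, hba, sub_mul, mul_assoc]
  have hca' : ∀ x z, a * (ι x * z) = ι x * (a * z) := fun x z => by rw [← mul_assoc, hca, mul_assoc]
  have hcb' : ∀ x z, b * (ι x * z) = ι x * (b * z) := fun x z => by rw [← mul_assoc, hcb, mul_assoc]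
  have hι : ∀ x y z, ι x * (ι y * z) = ι (x * y) * z := fun x y z => by rw [← mul_assoc, map_mul]
  simp only [comb, add_mul, mul_add, mul_sub, mul_assoc, ha, ha', hb, hb', hba, hba', hca, hca', hcb, hcb',
    mul_zero, add_zero, zero_add, sub_zero, zero_sub, mul_neg]
  simp only [hι, ← map_mul, map_add, map_sub, add_mul, sub_mul, mul_comm k, mul_assoc c₀, mul_assoc c₁,
    mul_assoc c₂, mul_assoc c₃]
  abel

/-- The reversal of a combination. -/
def rev (k c₀ c₁ c₂ c₃ : R) : M := comb ι a b (c₀ + c₃ * k) (-c₁) (-c₂) (-c₃)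

variable {ι a b} {k : R}

/-- What holds of the group elements. -/
def IsComb (ι : R →+* M) (a b : M) (k : R) (ev : R →+* R) (g : Mˣ) : Prop :=
  ∃ c₀ c₁ c₂ c₃ : R, ev c₀ = 1 ∧ (g : M) = comb ι a b c₀ c₁ c₂ c₃ ∧
    ((g⁻¹ : Mˣ) : M) = rev ι a b k c₀ c₁ c₂ c₃

theorem isComb_of_mem (ha : a * a = 0) (hb : b * b = 0) (hk : ι k = a * b + b * a)
    (hca : ∀ x, a * ι x = ι x * a) (hcb : ∀ x, b * ι x = ι x * b) (ev : R →+* R) (hev : ev k = 0) {r s g : Mˣ}
    (hr : (r : M) = 1 + a) (hs : (s : M) = 1 + b) (hg : g ∈ Subgroup.closure {r, s}) : IsComb ι a b k ev g := by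
  have hr' : ((r⁻¹ : Mˣ) : M) = 1 - a := Units.inv_eq_of_mul_eq_one_right (by
    rw [hr, mul_sub, mul_one, add_mul, one_mul, ha]; abel)
  have hs' : ((s⁻¹ : Mˣ) : M) = 1 - b := Units.inv_eq_of_mul_eq_one_right (by
    rw [hs, mul_sub, mul_one, add_mul, one_mul, hb]; abel)
  induction hg using Subgroup.closure_induction with
  | mem g hg =>
    rcases hg with rfl | rfl
    · exact ⟨1, 1, 0, 0, map_one _, by simp [comb, hr], by simp [rev, comb, hr']; abel⟩
    · exact ⟨1, 0, 1, 0, map_one _, by simp [comb, hs], by simp [rev, comb, hs']; abel⟩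
  | one => exact ⟨1, 0, 0, 0, map_one _, by simp [comb], by simp [rev, comb]⟩
  | inv g _ ih =>
    obtain ⟨c₀, c₁, c₂, c₃, h1, hg, hg'⟩ := ih
    refine ⟨c₀ + c₃ * k, -c₁, -c₂, -c₃, by rw [map_add, map_mul, hev, mul_zero, add_zero, h1], hg', ?_⟩
    rw [inv_inv, hg, rev]
    congr 1 <;> ring
  | mul g h _ _ ih ih' =>
    obtain ⟨c₀, c₁, c₂, c₃, h1, hg, hg'⟩ := ih
    obtain ⟨d₀, d₁, d₂, d₃, h2, hh, hh'⟩ := ih'
    refine ⟨_, _, _, _, ?_, by rw [Units.val_mul, hg, hh, comb_mul ι a b ha hb hk hca hcb], ?_⟩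
    · simp [hev, h1, h2]
    · rw [_root_.mul_inv_rev, Units.val_mul, hg', hh', rev, rev, comb_mul ι a b ha hb hk hca hcb, rev]
      congr 1 <;> ring

end Calc

section Poly

variable {F : Type*} [Field F] {n : Type} [Fintype n] [DecidableEq n] {a b : Matrix n n F}

/-- Polynomials in `a * b + b * a`. -/
noncomputable def inK (a b : Matrix n n F) : F[X] →+* Matrix n n F := (aeval (a * b + b * a)).toRingHom

theorem inK_X : inK a b X = a * b + b * a := aeval_X _

theorem inK_C (c : F) : inK a b (C c) = c • 1 := by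
  show aeval _ (C c) = _
  rw [aeval_C, Algebra.algebraMap_eq_smul_one]

theorem commute_inK_left (ha : a * a = 0) (x : F[X]) : a * inK a b x = inK a b x * a := by
  have h : Commute a (a * b + b * a) := by
    show a * (a * b + b * a) = (a * b + b * a) * a
    rw [mul_add, add_mul, ← mul_assoc, ha, mul_assoc b, ha, zero_mul, mul_zero, zero_add, add_zero, mul_assoc]
  induction x using Polynomial.induction_on' with
  | add p q hp hq => rw [map_add, mul_add, add_mul, hp, hq]
  | monomial d c =>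
    rw [← C_mul_X_pow_eq_monomial, map_mul, map_pow, inK_X, inK_C, smul_mul_assoc, one_mul, mul_smul_comm,
      smul_mul_assoc, (h.pow_right d).eq]

theorem commute_inK_right (hb : b * b = 0) (x : F[X]) : b * inK a b x = inK a b x * b := by
  have := commute_inK_left (b := a) hb x
  rw [show inK b a = inK a b by rw [inK, inK, add_comm (b * a)]] at this
  exact this

variable (ha : a * a = 0) (hb : b * b = 0) {r s : GL n F} (hr : (r : Matrix n n F) = 1 + a)
  (hs : (s : Matrix n n F) = 1 + b)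

include ha hb hr hs in
theorem isComb {g : GL n F} (hg : g ∈ Subgroup.closure {r, s}) :
    IsComb (inK a b) a b X (C.comp (evalRingHom 0)) g :=
  isComb_of_mem ha hb inK_X (commute_inK_left ha) (commute_inK_right hb) _ (by simp) hr hs hg

include ha hb hr hs in
/-- An involution of the group is a polynomial in `K` with constant term one. -/
theorem involution_eq (h2 : (2 : F) ≠ 0) {u : GL n F} (hu : u ∈ Subgroup.closure {r, s}) (huu : u * u = 1) :
    ∃ P : F[X], P.eval 0 = 1 ∧ (u : Matrix n n F) = inK a b P := by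
  obtain ⟨c₀, c₁, c₂, c₃, h0, e, e'⟩ := isComb ha hb hr hs hu
  rw [inv_eq_of_mul_eq_one_right huu] at e'
  refine ⟨c₀ + C (2⁻¹ : F) * (c₃ * X), ?_, ?_⟩
  · have : c₀.eval 0 = 1 := C_injective (by simpa using h0)
    simp [this]
  · have h : (u : Matrix n n F) + u = inK a b (c₀ + c₀ + c₃ * X) := by
      nth_rewrite 2 [e']
      rw [e, rev, comb, comb]
      simp only [map_add, map_neg, neg_mul]
      abel
    calc (u : Matrix n n F) = (2⁻¹ : F) • ((u : Matrix n n F) + u) := by
          rw [← two_smul F, smul_smul, inv_mul_cancel₀ h2, one_smul]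
      _ = inK a b (C (2⁻¹ : F)) * inK a b (c₀ + c₀ + c₃ * X) := by rw [h, inK_C, smul_mul_assoc, one_mul]
      _ = _ := by
          rw [← map_mul]
          congr 1
          rw [mul_add, mul_add, ← add_mul, ← C_add, show (2⁻¹ : F) + 2⁻¹ = 1 by rw [← two_mul, mul_inv_cancel₀ h2],
            C_1, one_mul]

include ha hb hr hs in
/-- If `K` is nilpotent the group is a `p`-group. -/
theorem isPGroup_of_nilpotent (p : ℕ) [Fact p.Prime] [CharP F p] (hK : IsNilpotent (a * b + b * a)) :
    IsPGroup p (Subgroup.closure {r, s} : Subgroup (GL n F)) := by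
  intro g
  obtain ⟨c₀, c₁, c₂, c₃, h0, e, -⟩ := isComb ha hb hr hs g.2
  obtain ⟨d, hd⟩ : X ∣ c₀ - 1 := by
    have h : c₀.eval 0 = 1 := C_injective (by simpa using h0)
    rw [X_dvd_iff, coeff_zero_eq_eval_zero, eval_sub, eval_one, h, sub_self]
  set x := ((g : GL n F) : Matrix n n F) - 1
  have hx : x = comb (inK a b) a b (X * d) c₁ c₂ c₃ := by
    rw [← hd]
    simp only [x, e, comb, map_sub, map_one]
    abel
  obtain ⟨y, hy, hyc⟩ : ∃ y, x * x = (a * b + b * a) * y ∧ Commute (a * b + b * a) y := by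
    refine ⟨comb (inK a b) a b (d * (X * d) + c₂ * c₁) (d * c₁ + c₁ * d + c₃ * c₁) (d * c₂ + c₂ * d + c₂ * c₃)
      (d * c₃ + c₃ * d + c₃ * c₃), ?_, ?_⟩
    · rw [hx, comb_mul (inK a b) a b ha hb inK_X (commute_inK_left ha) (commute_inK_right hb), ← inK_X, comb, comb]
      simp only [mul_add, ← mul_assoc, ← map_mul]
      congr 4 <;> ring
    · rw [← inK_X]
      have hc : ∀ q : F[X], Commute (inK a b X) (inK a b q) := fun q => (Commute.all X q).map (inK a b)
      have hA : Commute (inK a b X) a := (commute_inK_left ha X).symm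
      have hB : Commute (inK a b X) b := (commute_inK_right hb X).symm
      exact (((hc _).add_right ((hc _).mul_right hA)).add_right ((hc _).mul_right hB)).add_right
        ((hc _).mul_right (hA.mul_right hB))
  obtain ⟨N, hN⟩ := hK
  have hnil : x ^ (2 * N) = 0 := by rw [pow_mul, pow_two, hy, hyc.mul_pow, hN, zero_mul]
  obtain ⟨k, hk⟩ : ∃ k, 2 * N ≤ p ^ k := ⟨2 * N, (Nat.lt_pow_self (Fact.out : p.Prime).one_lt).le⟩
  refine ⟨k, Subtype.ext (Units.ext ?_)⟩
  rcases isEmpty_or_nonempty n with hn | hn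
  · exact Subsingleton.elim _ _
  haveI : CharP (Matrix n n F) p := charP_of_injective_algebraMap (algebraMap F (Matrix n n F)).injective p
  have h2 := sub_pow_char_pow_of_commute (p := p) (n := k) (Commute.one_right ((g : GL n F) : Matrix n n F))
  rw [pow_eq_zero_of_le hk hnil, one_pow, eq_comm, sub_eq_zero] at h2
  simpa using h2

end Poly

/-- A non-nilpotent matrix has a non-zero eigenvalue in the algebraic closure. -/
theorem exists_eigen {F : Type*} [Field F] {n : Type} [Fintype n] [DecidableEq n] {M : Matrix n n F}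
    (hM : ¬ IsNilpotent M) :
    ∃ (c : AlgebraicClosure F) (v : n → AlgebraicClosure F), c ≠ 0 ∧ v ≠ 0 ∧
      (M.map (algebraMap F (AlgebraicClosure F))).mulVec v = c • v := by
  set f := algebraMap F (AlgebraicClosure F)
  set M' := M.map f
  by_contra! h
  refine hM ⟨Fintype.card n, ?_⟩
  have hroot : ∀ c ∈ M'.charpoly.roots, c = 0 := by
    intro c hc
    by_contra hc0
    have h1 := (Polynomial.mem_roots'.1 hc).2
    rw [Polynomial.IsRoot, Matrix.eval_charpoly] at h1
    obtain ⟨v, hv0, hv⟩ := Matrix.exists_mulVec_eq_zero_iff.2 h1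
    refine h c v hc0 hv0 ?_
    rw [Matrix.sub_mulVec, Matrix.scalar_apply, ← Matrix.smul_one_eq_diagonal, Matrix.smul_mulVec, Matrix.one_mulVec,
      sub_eq_zero] at hv
    exact hv.symm
  have hsp := (IsAlgClosed.splits M'.charpoly).eq_prod_roots_of_monic M'.charpoly_monic
  rw [Multiset.map_congr rfl (g := fun _ => (Polynomial.X : Polynomial (AlgebraicClosure F)))
    (fun c hc => by rw [hroot c hc, map_zero, sub_zero]), Multiset.map_const',
    Multiset.prod_replicate] at hsp
  have hdeg := M'.charpoly_natDegree_eq_dim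
  rw [hsp, Polynomial.natDegree_X_pow] at hdeg
  have h2 := M'.aeval_self_charpoly
  rw [hsp, hdeg, map_pow, Polynomial.aeval_X] at h2
  have h3 : (M ^ Fintype.card n).map f = M' ^ Fintype.card n := map_pow f.mapMatrix M _
  rw [h2] at h3
  exact Matrix.map_injective f.injective (h3.trans (Matrix.map_zero f (map_zero f)).symm)

end CfsgLib.Geo.TensorWreath
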