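/-
Roots on one factor of an overgroup: images of lines and kernels when no root has a non-scalar coefficient.
-/
import Cfsg.Agent.Lib.Geo.TensorLinearFinal

set_option autoImplicit false

namespace CfsgLib.Geo.TensorWreath.Lines

open Matrix Module CfsgLib.Geo.TensorLinear
open scoped Kronecker

variable {α β : Type} [Fintype α] [DecidableEq α] [Fintype β] [DecidableEq β] {F : Type*} [Field F]
  {X : Subgroup (GL (α × β) F)}
  (hbase : ∀ b : Matrix β β F, b.det = 1 →
    ∃ x ∈ X, ((x : GL (α × β) F) : Matrix (α × β) (α × β) F) = (1 : Matrix α α F) ⊗ₖ b)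

include hbase in
theorem rt_scalar {v φ : β → F} (h : φ ⬝ᵥ v = 0) (c : F) : Rt X v φ (c • (1 : Matrix α α F)) := by
  obtain ⟨x, hx, e⟩ := hbase (1 + Matrix.vecMulVec v (c • φ)) (by
    rw [Matrix.vecMulVec_eq Unit, Matrix.det_one_add_replicateCol_mul_replicateRow, smul_dotProduct, h, smul_zero,
      add_zero])
  refine ⟨x, hx, ?_⟩
  rw [e, Matrix.kronecker_add, Matrix.one_kronecker_one, Matrix.vecMulVec_smul, emb_mul_mul_con,
    Matrix.kronecker_smul, Matrix.smul_kronecker]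

include hbase in
theorem rt_move_right (h3β : 3 ≤ Fintype.card β) {v φ φ' : β → F} {θ : Matrix α α F} (h : Rt X v φ θ)
    (h1 : φ ⬝ᵥ v = 0) (hφ : φ ≠ 0) (h1' : φ' ⬝ᵥ v = 0) : Rt X v φ' θ := by
  classical
  have step : ∀ ψ ψ' : β → F, Rt X v ψ θ → ψ ⬝ᵥ v = 0 → ψ' ⬝ᵥ v = 0 → ψ ∉ Submodule.span F {ψ'} → Rt X v ψ' θ := by
    intro ψ ψ' hR e e' hns
    obtain ⟨w, hw0, hw1⟩ := CfsgLib.Geo.exists_functional ψ' ψ hns
    have := rt_comm hR (rt_scalar hbase (v := w) (φ := ψ') (by rw [dotProduct_comm]; exact hw0) 1) e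
      (by rw [dotProduct_comm]; exact hw0) e' (by rw [dotProduct_comm]; exact hw1)
    rwa [one_smul, mul_one] at this
  by_cases h0 : φ' = 0
  · rw [h0]; exact rt_zero_right v θ
  obtain ⟨j, hj⟩ := Function.ne_iff.1 hφ
  set χ : β → F := Pi.single j (φ j)⁻¹
  have hχ : χ ⬝ᵥ φ = 1 := by rw [single_dotProduct, inv_mul_cancel₀ hj]
  obtain ⟨x, hx0, hx⟩ := exists_perp ![v, χ] (by omega)
  have hxv : x ⬝ᵥ v = 0 := hx 0
  have hxχ : χ ⬝ᵥ x = 0 := by rw [dotProduct_comm]; exact hx 1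
  by_cases hdep : φ ∈ Submodule.span F {φ'}
  · have hxn : x ∉ Submodule.span F {φ} := notMem_span_of_dot hχ hxχ hx0
    refine step x φ' (step φ x h h1 hxv ?_) hxv h1' ?_
    · intro hm
      obtain ⟨c, hc⟩ := Submodule.mem_span_singleton.1 hm
      have hc0 : c ≠ 0 := fun e => hφ (by rw [← hc, e, zero_smul])
      exact hxn (Submodule.mem_span_singleton.2 ⟨c⁻¹, by rw [← hc, inv_smul_smul₀ hc0]⟩)
    · intro hm
      obtain ⟨c, hc⟩ := Submodule.mem_span_singleton.1 hdep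
      have hc0 : c ≠ 0 := fun e => hφ (by rw [← hc, e, zero_smul])
      obtain ⟨d, hd⟩ := Submodule.mem_span_singleton.1 hm
      exact hxn (Submodule.mem_span_singleton.2 ⟨d * c⁻¹, by rw [← hc, smul_smul, mul_assoc, inv_mul_cancel₀ hc0, mul_one, hd]⟩)
  · exact step φ φ' h h1 h1' hdep

include hbase in
theorem rt_move_left (h3β : 3 ≤ Fintype.card β) {v v' φ : β → F} {θ : Matrix α α F} (h : Rt X v φ θ)
    (h1 : φ ⬝ᵥ v = 0) (hv : v ≠ 0) (h1' : φ ⬝ᵥ v' = 0) : Rt X v' φ θ := by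
  classical
  have step : ∀ w w' : β → F, Rt X w φ θ → φ ⬝ᵥ w = 0 → φ ⬝ᵥ w' = 0 → w ∉ Submodule.span F {w'} → Rt X w' φ θ := by
    intro w w' hR e e' hns
    obtain ⟨ψ, hψ0, hψ1⟩ := CfsgLib.Geo.exists_functional w' w hns
    obtain ⟨x, hx, ex⟩ := rt_scalar hbase (v := w') (φ := ψ) hψ0 1
    obtain ⟨y, hy, ey⟩ := hR
    obtain ⟨z, hz, ez⟩ := comm_mem hx hy ex ey (by rw [rt_prod, hψ0, zero_smul]) (by rw [rt_prod, e, zero_smul])
      (by rw [rt_prod, e', zero_smul])
    exact ⟨z, hz, by rw [ez, rt_prod, hψ1, one_smul, one_smul, one_mul]⟩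
  by_cases h0 : v' = 0
  · rw [h0]; exact rt_zero_left φ θ
  obtain ⟨j, hj⟩ := Function.ne_iff.1 hv
  set χ : β → F := Pi.single j (v j)⁻¹
  have hχ : χ ⬝ᵥ v = 1 := by rw [single_dotProduct, inv_mul_cancel₀ hj]
  obtain ⟨x, hx0, hx⟩ := exists_perp ![φ, χ] (by omega)
  have hxv : φ ⬝ᵥ x = 0 := by rw [dotProduct_comm]; exact hx 0
  have hxχ : χ ⬝ᵥ x = 0 := by rw [dotProduct_comm]; exact hx 1
  by_cases hdep : v ∈ Submodule.span F {v'}
  · have hxn : x ∉ Submodule.span F {v} := notMem_span_of_dot hχ hxχ hx0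
    obtain ⟨c, hc⟩ := Submodule.mem_span_singleton.1 hdep
    have hc0 : c ≠ 0 := fun e => hv (by rw [← hc, e, zero_smul])
    refine step x v' (step v x h h1 hxv ?_) hxv h1' ?_
    · intro hm
      obtain ⟨d, hd⟩ := Submodule.mem_span_singleton.1 hm
      have hd0 : d ≠ 0 := fun e => hv (by rw [← hd, e, zero_smul])
      exact hxn (Submodule.mem_span_singleton.2 ⟨d⁻¹, by rw [← hd, inv_smul_smul₀ hd0]⟩)
    · intro hm
      obtain ⟨d, hd⟩ := Submodule.mem_span_singleton.1 hm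
      exact hxn (Submodule.mem_span_singleton.2 ⟨d * c⁻¹, by rw [← hc, smul_smul, mul_assoc, inv_mul_cancel₀ hc0, mul_one, hd]⟩)
  · exact step v v' h h1 h1' hdep

include hbase in
theorem inTheta_of_one (h3β : 3 ≤ Fintype.card β) {v φ : β → F} {θ : Matrix α α F} (h : Rt X v φ θ)
    (h1 : φ ⬝ᵥ v = 0) (hv : v ≠ 0) (hφ : φ ≠ 0) : InTheta X θ := by
  intro v' φ' h1'
  obtain ⟨ψ, hψ0, hψ⟩ := exists_perp ![v, v'] (by omega)
  have e : ψ ⬝ᵥ v = 0 := hψ 0
  have e' : ψ ⬝ᵥ v' = 0 := hψ 1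
  exact rt_move_right hbase h3β (rt_move_left hbase h3β (rt_move_right hbase h3β h h1 hφ e) e hv e') e' hψ0 h1'

include hbase in
theorem inTheta_smul (h3β : 3 ≤ Fintype.card β) {θ : Matrix α α F} (h : InTheta X θ) (c : F) : InTheta X (c • θ) := by
  have := InTheta.mul h3β (θ := c • (1 : Matrix α α F)) (fun v φ h1 => rt_scalar hbase h1 c) h
    (fun hR h1 hv hφ => inTheta_of_one hbase h3β hR h1 hv hφ)
  rwa [smul_mul_assoc, one_mul] at this

include hbase in
/-- A generalised root element with a narrow centre gives a non-scalar coefficient. -/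
theorem rt_of_lam (h3β : 3 ≤ Fintype.card β) {z : GL (α × β) F} (hz : z ∈ X) {φ : β → F} {Λ : Matrix (α × β) α F}
    (ez : (z : Matrix (α × β) (α × β) F) = 1 + Λ * con α φ) (hφ : φ ≠ 0) (h0 : con α φ * Λ = 0)
    (hns : ∀ w : β → F, Λ ≠ emb α w) :
    ∃ (v χ : β → F) (θ : Matrix α α F), Rt X v χ θ ∧ χ ⬝ᵥ v = 0 ∧ v ≠ 0 ∧ χ ≠ 0 ∧ ∀ c : F, θ ≠ c • 1 := by
  classical
  obtain ⟨φ₂, hφ₂⟩ : ∃ φ₂ : β → F, ∀ c : F, con α φ₂ * Λ ≠ c • 1 := by
    by_contra! hc
    choose c hc using hc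
    refine hns (fun j => c (Pi.single j 1)) ?_
    ext ⟨i, j⟩ k
    have := congrFun (congrFun (hc (Pi.single j 1)) i) k
    simp [Matrix.mul_apply, con, Fintype.sum_prod_type, Pi.single_apply, Matrix.one_apply] at this
    simp [emb, this]
  obtain ⟨v₂, hv0, hv⟩ := exists_perp ![φ, φ₂] (by omega)
  have e₁ : φ ⬝ᵥ v₂ = 0 := by rw [dotProduct_comm]; exact hv 0
  have e₂ : φ₂ ⬝ᵥ v₂ = 0 := by rw [dotProduct_comm]; exact hv 1
  obtain ⟨y, hy, ey⟩ := rt_scalar hbase e₂ 1
  rw [one_smul, Matrix.mul_one] at ey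
  obtain ⟨w, hw, ew⟩ := comm_mem hy hz ey ez
    (by rw [Matrix.mul_assoc, ← Matrix.mul_assoc (con α φ₂), con_mul_emb, e₂, zero_smul, Matrix.zero_mul, Matrix.mul_zero])
    (by rw [Matrix.mul_assoc, ← Matrix.mul_assoc (con α φ), h0, Matrix.zero_mul, Matrix.mul_zero])
    (by rw [Matrix.mul_assoc, ← Matrix.mul_assoc (con α φ), con_mul_emb, e₁, zero_smul, Matrix.zero_mul, Matrix.mul_zero])
  exact ⟨v₂, φ, con α φ₂ * Λ, ⟨w, hw, by rw [ew]; simp only [Matrix.mul_assoc]⟩, e₁, hv0, hφ, hφ₂⟩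

/-- Conjugation sends the elements on the second factor into `X`. -/
def Conj (X : Subgroup (GL (α × β) F)) (h : GL (α × β) F) : Prop :=
  ∀ (x : GL (α × β) F) (b : Matrix β β F), b.det = 1 →
    (x : Matrix (α × β) (α × β) F) = (1 : Matrix α α F) ⊗ₖ b → h * x * h⁻¹ ∈ X

include hbase in
theorem conj_rt {h : GL (α × β) F} (hh : Conj X h) {v φ : β → F} (hφ : φ ⬝ᵥ v = 0) :
    ∃ x ∈ X, ((x : GL (α × β) F) : Matrix (α × β) (α × β) F) = 1 + emb α v * con α φ ∧ h * x * h⁻¹ ∈ X := by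
  have hd : (1 + Matrix.vecMulVec v φ).det = 1 := by
    rw [Matrix.vecMulVec_eq Unit, Matrix.det_one_add_replicateCol_mul_replicateRow, hφ, add_zero]
  obtain ⟨x, hx, e⟩ := hbase (1 + Matrix.vecMulVec v φ) hd
  refine ⟨x, hx, ?_, hh x _ hd e⟩
  have := emb_mul_mul_con v φ (1 : Matrix α α F)
  rw [Matrix.mul_one] at this
  rw [e, this, Matrix.kronecker_add, Matrix.one_kronecker_one]

include hbase in
/-- A narrow non-tensor image gives a non-scalar coefficient. -/
theorem rt_of_narrow (h3β : 3 ≤ Fintype.card β) {h : GL (α × β) F} (hh : Conj X h) {v ψ : β → F} (hv : v ≠ 0)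
    (hψ : ψ ≠ 0) (hns : ∀ w, (line α v).map (h : Matrix (α × β) (α × β) F).mulVecLin ≠ line α w)
    (hW : ∀ x ∈ (line α v).map (h : Matrix (α × β) (α × β) F).mulVecLin, con α ψ *ᵥ x = 0) :
    ∃ (v χ : β → F) (θ : Matrix α α F), Rt X v χ θ ∧ χ ⬝ᵥ v = 0 ∧ v ≠ 0 ∧ χ ≠ 0 ∧ ∀ c : F, θ ≠ c • 1 := by
  classical
  set H := (h : Matrix (α × β) (α × β) F)
  set H' := ((h⁻¹ : GL (α × β) F) : Matrix (α × β) (α × β) F)
  have hHH : H' * H = 1 := Units.inv_mul h
  have hHH' : H * H' = 1 := Units.mul_inv h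
  set G := H * emb α v
  have hψG : con α ψ * G = 0 := by
    ext i k
    have := congrFun (hW (G *ᵥ Pi.single k 1) ⟨emb α v *ᵥ Pi.single k 1, mem_line.2 ⟨_, (emb_mulVec _ _).symm⟩,
      by simp only [G, Matrix.mulVecLin_apply, Matrix.mulVec_mulVec]⟩) i
    rw [Matrix.mulVec_mulVec, Matrix.mulVec_single_one] at this
    exact this
  obtain ⟨v₂, hv₂, hv₂'⟩ := exists_perp ![ψ] (by omega)
  have e₂ : ψ ⬝ᵥ v₂ = 0 := by rw [dotProduct_comm]; exact hv₂' 0
  obtain ⟨y, hy, ey⟩ := rt_scalar hbase e₂ 1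
  rw [one_smul, Matrix.mul_one] at ey
  by_contra hcon
  push Not at hcon
  have hM : ∀ φ : β → F, φ ⬝ᵥ v = 0 → con α φ * H' * emb α v₂ = 0 := by
    intro φ hφv
    obtain ⟨x, hx, ex, hcx⟩ := conj_rt hbase hh hφv
    have ea : ((h * x * h⁻¹ : GL (α × β) F) : Matrix (α × β) (α × β) F) = 1 + G * (con α φ * H') := by
      rw [Units.val_mul, Units.val_mul, ex, mul_add, mul_one, add_mul]
      show H * H' + H * (emb α v * con α φ) * H' = _
      rw [hHH']
      simp only [G, Matrix.mul_assoc]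
    have hAA : G * (con α φ * H') * (G * (con α φ * H')) = 0 := by
      rw [show G * (con α φ * H') * (G * (con α φ * H')) = G * (con α φ * (H' * H) * emb α v) * (con α φ * H') by
        simp only [G, Matrix.mul_assoc], hHH, Matrix.mul_one, con_mul_emb, hφv, zero_smul, Matrix.mul_zero,
        Matrix.zero_mul]
    obtain ⟨z, hz, ez⟩ := comm_mem hcx hy ea ey hAA
      (by rw [Matrix.mul_assoc, ← Matrix.mul_assoc (con α ψ), con_mul_emb, e₂, zero_smul, Matrix.zero_mul, Matrix.mul_zero])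
      (by rw [Matrix.mul_assoc, ← Matrix.mul_assoc (con α ψ), hψG, Matrix.zero_mul, Matrix.mul_zero])
    set M := con α φ * H' * emb α v₂
    by_contra hMne
    have ez' : (z : Matrix (α × β) (α × β) F) = 1 + (G * M) * con α ψ := by
      rw [ez]; simp only [M, Matrix.mul_assoc]
    obtain ⟨χ, hχ⟩ := exists_dual hv
    suffices key : ∀ w : β → F, G * M ≠ emb α w by
      obtain ⟨v', χ', θ, hR, h1, h2, h3, h4⟩ := rt_of_lam hbase h3β hz ez' hψ
        (by rw [← Matrix.mul_assoc, hψG, Matrix.zero_mul]) key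
      obtain ⟨c, hc⟩ := hcon v' χ' θ hR h1 h2 h3
      exact h4 c hc
    intro w hw
    have hleft : (con α χ * H') * G = 1 := by
      rw [show con α χ * H' * G = con α χ * (H' * H) * emb α v by simp only [G, Matrix.mul_assoc], hHH,
        Matrix.mul_one, con_mul_emb, hχ, one_smul]
    by_cases hw0 : w = 0
    · refine hMne ?_
      calc M = (con α χ * H') * G * M := by rw [hleft, Matrix.one_mul]
        _ = 0 := by
          rw [Matrix.mul_assoc, hw, hw0, show (emb α (0 : β → F) : Matrix (α × β) α F) = 0 from by ext p i; simp [emb],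
            Matrix.mul_zero]
    · refine hns w (Submodule.eq_of_le_of_finrank_eq ?_ ?_).symm
      · intro x hx
        obtain ⟨t, rfl⟩ := mem_line.1 hx
        refine ⟨emb α v *ᵥ (M *ᵥ t), mem_line.2 ⟨_, (emb_mulVec _ _).symm⟩, ?_⟩
        rw [Matrix.mulVecLin_apply, ← emb_mulVec w, ← hw]
        simp [G, H, Matrix.mulVec_mulVec, Matrix.mul_assoc]
      · rw [finrank_line hw0, ← (Submodule.equivMapOfInjective _
          (Matrix.mulVec_injective_iff_isUnit.2 h.isUnit) (line α v)).finrank_eq, finrank_line hv]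
  refine hns v₂ ?_
  have hle : line α v₂ ≤ (line α v).map H.mulVecLin := by
    intro x hx
    obtain ⟨t, rfl⟩ := mem_line.1 hx
    refine ⟨H' *ᵥ pt t v₂, mem_line_of_con hv fun φ hφ => ?_, ?_⟩
    · rw [← emb_mulVec, Matrix.mulVec_mulVec, Matrix.mulVec_mulVec, hM φ hφ, Matrix.zero_mulVec]
    · rw [Matrix.mulVecLin_apply, Matrix.mulVec_mulVec, hHH', Matrix.one_mulVec]
  exact (Submodule.eq_of_le_of_finrank_eq hle (by
    rw [finrank_line hv₂, ← (Submodule.equivMapOfInjective _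
      (Matrix.mulVec_injective_iff_isUnit.2 h.isUnit) (line α v)).finrank_eq, finrank_line hv])).symm

/-- Every coefficient is a scalar. -/
def NotGood (X : Subgroup (GL (α × β) F)) : Prop :=
  ∀ (v φ : β → F) (θ : Matrix α α F), Rt X v φ θ → φ ⬝ᵥ v = 0 → v ≠ 0 → φ ≠ 0 → ∃ c : F, θ = c • 1

include hbase in
/-- A narrow image of a line is a line. -/
theorem line_of_narrow (h3β : 3 ≤ Fintype.card β) (hng : NotGood X) {h : GL (α × β) F} (hh : Conj X h)
    {v ψ : β → F} (hv : v ≠ 0) (hψ : ψ ≠ 0) (hW : ∀ x ∈ img h v, con α ψ *ᵥ x = 0) :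
    ∃ w, img h v = line α w := by
  by_contra! hns
  obtain ⟨v', χ, θ, hR, h1, h2, h3, h4⟩ := rt_of_narrow hbase h3β hh hv hψ hns hW
  obtain ⟨c, hc⟩ := hng v' χ θ hR h1 h2 h3
  exact h4 c hc

include hbase in
/-- A root with a line as centre has a hyperplane as kernel. -/
theorem dual_root (h3β : 3 ≤ Fintype.card β) (hng : NotGood X) {z : GL (α × β) F} (hz : z ∈ X) {v : β → F}
    {Γ : Matrix α (α × β) F} (ez : (z : Matrix (α × β) (α × β) F) = 1 + emb α v * Γ) (hv : v ≠ 0)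
    (h0 : Γ * emb α v = 0) : ∃ φ : β → F, Γ = con α φ := by
  classical
  by_contra! hns
  obtain ⟨v₂, hv₂⟩ : ∃ v₂ : β → F, ∀ c : F, Γ * emb α v₂ ≠ c • 1 := by
    by_contra! hc
    choose c hc using hc
    refine hns (fun j => c (Pi.single j 1)) ?_
    ext k ⟨i, j⟩
    have := congrFun (congrFun (hc (Pi.single j 1)) k) i
    simp [Matrix.mul_apply, TensorLinear.emb, Fintype.sum_prod_type, Pi.single_apply, Matrix.one_apply] at this
    simp [con, this, eq_comm]
  obtain ⟨φ₂, hφ0, hφ⟩ := exists_perp ![v, v₂] (show 2 < Fintype.card β by omega)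
  have e₁ : φ₂ ⬝ᵥ v = 0 := hφ 0
  have e₂ : φ₂ ⬝ᵥ v₂ = 0 := hφ 1
  obtain ⟨y, hy, ey⟩ := rt_scalar hbase e₂ 1
  rw [one_smul, Matrix.mul_one] at ey
  obtain ⟨w, hw, ew⟩ := comm_mem hz hy ez ey
    (by rw [Matrix.mul_assoc, ← Matrix.mul_assoc Γ, h0, Matrix.zero_mul, Matrix.mul_zero])
    (by rw [Matrix.mul_assoc, ← Matrix.mul_assoc (con α φ₂), con_mul_emb, e₂, zero_smul, Matrix.zero_mul,
      Matrix.mul_zero])
    (by rw [Matrix.mul_assoc, ← Matrix.mul_assoc (con α φ₂), con_mul_emb, e₁, zero_smul, Matrix.zero_mul,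
      Matrix.mul_zero])
  obtain ⟨c, hc⟩ := hng v φ₂ (Γ * emb α v₂) ⟨w, hw, by rw [ew]; simp only [Matrix.mul_assoc]⟩ e₁ hv hφ0
  exact hv₂ c hc

theorem line_ne_of_img {h : GL (α × β) F} {v w : β → F} (hα : 0 < Fintype.card α) (hv : v ≠ 0)
    (e : img h v = line α w) : w ≠ 0 := by
  intro h0
  have h1 := finrank_img h hv
  rw [e, h0, show line α (0 : β → F) = ⊥ from eq_bot_iff.2 fun x hx => by
    obtain ⟨y, rfl⟩ := mem_line.1 hx
    rw [Submodule.mem_bot]; funext p; simp [pt], finrank_bot] at h1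
  omega

include hbase in
/-- An element mapping one line to a line is a Kronecker product. -/
theorem kronecker_of_line (hα : 0 < Fintype.card α) (h3β : 3 ≤ Fintype.card β) (hng : NotGood X)
    {y : GL (α × β) F} (hy : Conj X y) {v w : β → F} (hv : v ≠ 0) (e : img y v = line α w) :
    ∃ (A : GL α F) (B : GL β F),
      (y : Matrix (α × β) (α × β) F) = (A : Matrix α α F) ⊗ₖ (B : Matrix β β F) := by
  classical
  refine kronecker_of_lines hα (by omega) y fun u hu => ?_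
  set Y := (y : Matrix (α × β) (α × β) F)
  set Y' := ((y⁻¹ : GL (α × β) F) : Matrix (α × β) (α × β) F)
  have hYY : Y' * Y = 1 := Units.inv_mul y
  have hYY' : Y * Y' = 1 := Units.mul_inv y
  have hw : w ≠ 0 := line_ne_of_img hα hv e
  obtain ⟨χ, hχ⟩ := exists_dual hw
  set A := con α χ * Y * emb α v
  have hA : Y * emb α v = emb α w * A := by
    refine Matrix.toLin'.injective (LinearMap.ext fun x => ?_)
    rw [Matrix.toLin'_apply, Matrix.toLin'_apply]
    have h1 : Y *ᵥ (emb α v *ᵥ x) ∈ line α w := by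
      rw [← e]; exact ⟨_, mem_line.2 ⟨x, (emb_mulVec _ _).symm⟩, rfl⟩
    obtain ⟨z, hz⟩ := mem_line.1 h1
    have h2 : A *ᵥ x = z := by
      simp only [A, ← Matrix.mulVec_mulVec, ← hz, con_pt, hχ, one_smul]
    rw [← Matrix.mulVec_mulVec, ← Matrix.mulVec_mulVec, h2, emb_mulVec w, hz]
  obtain ⟨φ, hφ0, hφ⟩ := exists_perp ![v, u] (show 2 < Fintype.card β by omega)
  have e₁ : φ ⬝ᵥ v = 0 := hφ 0
  have e₂ : φ ⬝ᵥ u = 0 := hφ 1
  obtain ⟨x, hx, ex, hcx⟩ := conj_rt hbase hy e₁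
  have ez : ((y * x * y⁻¹ : GL (α × β) F) : Matrix (α × β) (α × β) F) = 1 + emb α w * (A * con α φ * Y') := by
    rw [Units.val_mul, Units.val_mul, ex, mul_add, mul_one, add_mul]
    show Y * Y' + Y * (emb α v * con α φ) * Y' = _
    rw [hYY', ← Matrix.mul_assoc Y, hA]
    simp only [Matrix.mul_assoc]
  have h0 : A * con α φ * Y' * emb α w = 0 := by
    refine Matrix.toLin'.injective (LinearMap.ext fun z => ?_)
    rw [Matrix.toLin'_apply, map_zero, LinearMap.zero_apply]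
    have h1 : emb α w *ᵥ z ∈ img y v := by rw [e]; exact mem_line.2 ⟨z, (emb_mulVec _ _).symm⟩
    obtain ⟨p, hp, ep⟩ := h1
    rw [Matrix.mulVecLin_apply] at ep
    rw [← Matrix.mulVec_mulVec, ← ep, Matrix.mulVec_mulVec, Matrix.mul_assoc (A * con α φ), hYY, Matrix.mul_one,
      ← Matrix.mulVec_mulVec, con_of_mem_line e₁ hp, Matrix.mulVec_zero]
  obtain ⟨φ', hφ'⟩ := dual_root hbase h3β hng hcx ez hw h0
  have hkey : A * con α φ = con α φ' * Y := by
    rw [← hφ', Matrix.mul_assoc (A * con α φ), hYY, Matrix.mul_one]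
  have hφ'0 : φ' ≠ 0 := by
    intro h
    obtain ⟨j, hj⟩ := Function.ne_iff.1 hφ0
    rw [h, show (con α (0 : β → F) : Matrix α (α × β) F) = 0 from by ext p i; simp [con], Matrix.zero_mul] at hkey
    have h2 := congrArg (· * emb α (Pi.single j (φ j)⁻¹)) hkey
    simp only [Matrix.mul_assoc, con_mul_emb, Matrix.zero_mul] at h2
    rw [show φ ⬝ᵥ Pi.single j (φ j)⁻¹ = 1 by rw [dotProduct_single, mul_inv_cancel₀ hj], one_smul, Matrix.mul_one] at h2
    rw [h2, Matrix.mul_zero] at hA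
    obtain ⟨i₀⟩ : Nonempty α := Fintype.card_pos_iff.1 hα
    have h3 : emb α v *ᵥ Pi.single i₀ 1 = 0 := by
      rw [← Matrix.one_mulVec (emb α v *ᵥ Pi.single i₀ (1 : F)), ← hYY, ← Matrix.mulVec_mulVec,
        Matrix.mulVec_mulVec _ Y, hA, Matrix.zero_mulVec, Matrix.mulVec_zero]
    rw [emb_mulVec] at h3
    have h4 := pt_injective hv (h3.trans (by funext p; simp [pt]) : pt (Pi.single i₀ (1 : F)) v = pt 0 v)
    simpa using congrFun h4 i₀
  refine line_of_narrow hbase h3β hng hy hu hφ'0 ?_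
  rintro _ ⟨p, hp, rfl⟩
  rw [Matrix.mulVecLin_apply, Matrix.mulVec_mulVec, ← hkey, ← Matrix.mulVec_mulVec, con_of_mem_line e₂ hp,
    Matrix.mulVec_zero]

include hbase in
theorem inTheta_conj (h3β : 3 ≤ Fintype.card β) {θ a a' : Matrix α α F} {b b' : Matrix β β F} (h : InTheta X θ)
    (ha : a * a' = 1) (hb : b * b' = 1) {g : GL (α × β) F} (hg : g ∈ X)
    (eg : (g : Matrix (α × β) (α × β) F) = a ⊗ₖ b) : InTheta X (a * θ * a') := by
  classical
  have hb' : b' * b = 1 := mul_eq_one_comm.1 hb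
  obtain ⟨e⟩ : Nonempty (Fin 2 ↪ β) := Function.Embedding.nonempty_of_card_le (by rw [Fintype.card_fin]; omega)
  have h01 : e 0 ≠ e 1 := by simp
  set v : β → F := Pi.single (e 0) 1
  set φ : β → F := Pi.single (e 1) 1
  have hφv : φ ⬝ᵥ v = 0 := by simp [v, φ, h01]
  obtain ⟨x, hx, ex⟩ := h v φ hφv
  have ig : ((g⁻¹ : GL (α × β) F) : Matrix (α × β) (α × β) F) = a' ⊗ₖ b' := by
    refine Units.inv_eq_of_mul_eq_one_right ?_
    rw [eg, ← Matrix.mul_kronecker_mul, ha, hb, Matrix.one_kronecker_one]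
  have hd : (φ ᵥ* b') ⬝ᵥ (b *ᵥ v) = 0 := by
    rw [Matrix.dotProduct_mulVec, Matrix.vecMul_vecMul, hb', Matrix.vecMul_one, hφv]
  refine inTheta_of_one hbase h3β (v := b *ᵥ v) (φ := φ ᵥ* b')
    ⟨g * x * g⁻¹, X.mul_mem (X.mul_mem hg hx) (X.inv_mem hg), ?_⟩ hd ?_ ?_
  · have h0 : (g : Matrix (α × β) (α × β) F) * ((g⁻¹ : GL (α × β) F) : Matrix (α × β) (α × β) F) = 1 := Units.mul_inv g
    rw [Units.val_mul, Units.val_mul, ex, mul_add, mul_one, add_mul, h0, eg, ig]
    congr 1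
    rw [show a ⊗ₖ b * (emb α v * θ * con α φ) * (a' ⊗ₖ b') =
      ((a ⊗ₖ b) * emb α v) * θ * (con α φ * (a' ⊗ₖ b')) by simp only [Matrix.mul_assoc],
      kronecker_mul_emb, con_mul_kronecker]
    simp only [Matrix.mul_assoc]
  · intro h0
    have := congrArg (b' *ᵥ ·) h0
    simp only [Matrix.mulVec_mulVec, hb', Matrix.one_mulVec, Matrix.mulVec_zero] at this
    simpa [v] using congrFun this (e 0)
  · intro h0
    have := congrArg (· ᵥ* b) h0
    simp only [Matrix.vecMul_vecMul, hb', Matrix.vecMul_one, Matrix.zero_vecMul] at this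
    simpa [φ] using congrFun this (e 1)

/-- With every coefficient the group contains the special linear group. -/
theorem specialLinear_le_of_all (hα : 2 ≤ Fintype.card α) (h3β : 3 ≤ Fintype.card β)
    (hall : ∀ M : Matrix α α F, InTheta X M) : Cfsg.Geo.specialLinear (α × β) F ≤ X := by
  classical
  intro g hg
  obtain ⟨i₀, i₁, hi01⟩ := Fintype.one_lt_card_iff.1 (show 1 < Fintype.card α by omega)
  obtain ⟨j₀⟩ : Nonempty β := Fintype.card_pos_iff.1 (by omega)
  haveI : Nontrivial (α × β) := ⟨⟨(i₀, j₀), (i₁, j₀), fun e => hi01 (congrArg Prod.fst e)⟩⟩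
  have htop := CfsgLib.Classical.closure_transvection_eq_top
    (X.comap (Matrix.SpecialLinearGroup.toGL (n := α × β) (R := F))) fun p q hpq d => by
      obtain ⟨i, j⟩ := p
      obtain ⟨k, l⟩ := q
      obtain ⟨x, hx, e⟩ : ∃ x ∈ X, ((x : GL (α × β) F) : Matrix (α × β) (α × β) F) =
          1 + Matrix.single (i, j) (k, l) d := by
        by_cases hjl : j = l
        · subst hjl
          have hik : i ≠ k := fun e => hpq (by rw [e])
          -- two root elements through a third column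
          obtain ⟨j', hj'⟩ := Fintype.exists_ne_of_one_lt_card (show 1 < Fintype.card β by omega) j
          obtain ⟨x, hx, ex⟩ := hall (Matrix.single i i (1 : F)) (Pi.single j 1) (Pi.single j' 1) (by simp [hj'])
          obtain ⟨y, hy, ey⟩ := hall (Matrix.single i k d) (Pi.single j' 1) (Pi.single j 1) (by simp [hj'.symm])
          obtain ⟨z, hz, ez⟩ := comm_mem hx hy ex ey (by rw [rt_prod]; simp [hj'])
            (by rw [rt_prod]; simp [hj'.symm]) (by rw [rt_prod]; simp [Matrix.single_mul_single_of_ne, hik.symm,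
              show (emb α (Pi.single j' (1 : F)) : Matrix (α × β) α F) * (0 : Matrix α α F) = 0 from Matrix.mul_zero _])
          refine ⟨z, hz, ?_⟩
          rw [ez, rt_prod]
          simp only [single_dotProduct, Pi.single_eq_same, mul_one, one_smul, Matrix.single_mul_single_same, one_mul]
          congr 1
          rw [emb_mul_mul_con]
          ext ⟨a, b⟩ ⟨a', b'⟩
          simp only [Matrix.kroneckerMap_apply, Matrix.single_apply, Matrix.vecMulVec_apply, Pi.single_apply,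
            Prod.mk.injEq]
          by_cases h1 : i = a <;> by_cases h2 : k = a' <;> by_cases h3 : j = b <;> by_cases h4 : j = b' <;>
            simp [h1, h2, h3, h4, Ne.symm, eq_comm (a := b) (b := b')]
        · obtain ⟨x, hx, ex⟩ := hall (Matrix.single i k d) (Pi.single j 1) (Pi.single l 1) (by simp [hjl])
          refine ⟨x, hx, ?_⟩
          rw [ex, emb_mul_mul_con]
          congr 1
          ext ⟨a, b⟩ ⟨a', b'⟩
          simp only [Matrix.kroneckerMap_apply, Matrix.single_apply, Matrix.vecMulVec_apply, Pi.single_apply,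
            Prod.mk.injEq]
          by_cases h1 : i = a <;> by_cases h2 : k = a' <;> by_cases h3 : j = b <;> by_cases h4 : l = b' <;>
            simp [h1, h2, h3, h4, Ne.symm, eq_comm (a := b) (b := b')]
      rw [Subgroup.mem_comap]
      convert hx using 1
      exact Units.ext e.symm
  have hdet : (g : Matrix (α × β) (α × β) F).det = 1 := by
    have := congrArg Units.val (MonoidHom.mem_ker.1 hg)
    simpa using this
  let g' : Matrix.SpecialLinearGroup (α × β) F := ⟨(g : Matrix _ _ F), hdet⟩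
  have hm : g' ∈ X.comap (Matrix.SpecialLinearGroup.toGL (n := α × β) (R := F)) := htop ▸ Subgroup.mem_top _
  convert Subgroup.mem_comap.1 hm using 1
  exact Units.ext rfl

end CfsgLib.Geo.TensorWreath.Lines
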