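/-
Kronecker products in the splitting at one factor, and determinants of swaps.
-/
import Cfsg.Agent.Lib.Geo.TensorWreath.Basic
import Cfsg.Agent.Lib.Geo.TensorWreath.Lines

set_option autoImplicit false

namespace CfsgLib.Geo.TensorWreath

open Matrix CfsgLib.Geo.SpinTensor
open scoped Kronecker

variable {F : Type*} [Field F] {t m : ℕ}

/-- The extension of a permutation of the other factors. -/
def extPerm (i : Fin (t + 1)) (π : Equiv.Perm (Fin t)) : Equiv.Perm (Fin (t + 1)) :=
  π.extendDomain (finSuccAboveEquiv i)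

theorem extPerm_self (i : Fin (t + 1)) (π : Equiv.Perm (Fin t)) : extPerm i π i = i :=
  Equiv.Perm.extendDomain_apply_not_subtype _ _ (by simp)

theorem extPerm_succAbove (i : Fin (t + 1)) (π : Equiv.Perm (Fin t)) (j : Fin t) :
    extPerm i π (i.succAbove j) = i.succAbove (π j) := by
  have := Equiv.Perm.extendDomain_apply_image π (finSuccAboveEquiv i) j
  unfold extPerm
  simp [finSuccAboveEquiv_apply] at this
  exact this

theorem extPerm_swap (i : Fin (t + 1)) (j k : Fin t) :
    extPerm i (Equiv.swap j k) = Equiv.swap (i.succAbove j) (i.succAbove k) := by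
  refine Equiv.ext fun x => ?_
  rcases Fin.eq_self_or_eq_succAbove i x with rfl | ⟨l, rfl⟩
  · rw [extPerm_self, Equiv.swap_apply_of_ne_of_ne (Fin.succAbove_ne _ j).symm (Fin.succAbove_ne _ k).symm]
  · rw [extPerm_succAbove]
    exact (Fin.succAbove_right_injective).map_swap j k l

theorem sub_perm (i : Fin (t + 1)) (π : Equiv.Perm (Fin t)) :
    (perm (F := F) (J := Fin m) (extPerm i π)).submatrix (sp i) (sp i) =
      perm π ⊗ₖ (1 : Matrix (Fin m) (Fin m) F) := by
  ext p q
  rw [Matrix.submatrix_apply, Matrix.kroneckerMap_apply]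
  simp only [perm, Matrix.one_apply, ← ite_and, ite_mul, one_mul, zero_mul]
  refine if_congr ?_ rfl rfl
  constructor
  · intro h
    refine ⟨funext fun j => ?_, ?_⟩
    · have := congrFun h (i.succAbove j)
      rwa [Function.comp_apply, sp_succAbove, extPerm_succAbove, sp_succAbove] at this
    · have := congrFun h i
      rw [Function.comp_apply, sp_self, extPerm_self, sp_self] at this
      exact this.symm
  · rintro ⟨h1, h2⟩
    funext x
    rcases Fin.eq_self_or_eq_succAbove i x with rfl | ⟨l, rfl⟩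
    · rw [Function.comp_apply, extPerm_self, sp_self, sp_self, h2]
    · rw [Function.comp_apply, extPerm_succAbove, sp_succAbove, sp_succAbove, h1]
      rfl

theorem spGL_kronecker_mul {i : Fin (t + 1)} {g h : GL (Fin (t + 1) → Fin m) F}
    {a c : Matrix (Fin t → Fin m) (Fin t → Fin m) F} {b d : Matrix (Fin m) (Fin m) F}
    (eg : (spGL i g : Matrix ((Fin t → Fin m) × Fin m) ((Fin t → Fin m) × Fin m) F) = a ⊗ₖ b)
    (eh : (spGL i h : Matrix ((Fin t → Fin m) × Fin m) ((Fin t → Fin m) × Fin m) F) = c ⊗ₖ d) :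
    (spGL i (g * h) : Matrix ((Fin t → Fin m) × Fin m) ((Fin t → Fin m) × Fin m) F) = (a * c) ⊗ₖ (b * d) := by
  rw [map_mul, Units.val_mul, eg, eh, ← Matrix.mul_kronecker_mul]

theorem spGL_pureGL (i : Fin (t + 1)) (gs : Fin (t + 1) → GL (Fin m) F) :
    (spGL i (pureGL gs) : Matrix ((Fin t → Fin m) × Fin m) ((Fin t → Fin m) × Fin m) F) =
      SpinTensor.pure (fun j => (gs (i.succAbove j) : Matrix (Fin m) (Fin m) F)) ⊗ₖ (gs i : Matrix (Fin m) (Fin m) F) :=
  sub_pure i _

theorem spGL_permGL (i : Fin (t + 1)) (π : Equiv.Perm (Fin t)) :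
    (spGL i (permGL m F (extPerm i π)) : Matrix ((Fin t → Fin m) × Fin m) ((Fin t → Fin m) × Fin m) F) =
      perm π ⊗ₖ (1 : Matrix (Fin m) (Fin m) F) :=
  sub_perm i π

/-- An element which is standard on the other factors is standard. -/
theorem isStd_of_kronecker {i : Fin (t + 1)} {y : GL (Fin (t + 1) → Fin m) F} {A : GL (Fin t → Fin m) F}
    {B : GL (Fin m) F}
    (e : (spGL i y : Matrix ((Fin t → Fin m) × Fin m) ((Fin t → Fin m) × Fin m) F) =
      (A : Matrix (Fin t → Fin m) (Fin t → Fin m) F) ⊗ₖ (B : Matrix (Fin m) (Fin m) F))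
    (hA : IsStd A) : IsStd y := by
  obtain ⟨gs, π, eA⟩ := hA
  have h : y = pureGL (i.insertNth B gs) * permGL m F (extPerm i π) := by
    refine (spGL i).injective (Units.ext ?_)
    rw [spGL_kronecker_mul (spGL_pureGL i _) (spGL_permGL i π), e, eA, mul_one]
    simp
  rw [h]
  exact (isStd_pureGL _).mul (isStd_permGL _)

theorem isStd_fin_one (A : GL (Fin 1 → Fin m) F) : IsStd A := by
  refine ⟨fun _ => Cfsg.Geo.glReindex (Equiv.funUnique (Fin 1) (Fin m)) A, 1, ?_⟩
  rw [perm_one, mul_one]
  ext x y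
  rw [pure_apply, Fin.prod_univ_one]
  show (A : Matrix (Fin 1 → Fin m) (Fin 1 → Fin m) F) x y =
    (A : Matrix (Fin 1 → Fin m) (Fin 1 → Fin m) F) ((Equiv.funUnique (Fin 1) (Fin m)).symm (x 0))
      ((Equiv.funUnique (Fin 1) (Fin m)).symm (y 0))
  have h : ∀ z : Fin 1 → Fin m, (Equiv.funUnique (Fin 1) (Fin m)).symm (z 0) = z := fun z => by
    funext k; simp [Fin.fin_one_eq_zero k]
  rw [h, h]

/-- A matrix of prescribed determinant. -/
theorem exists_det (hm : 3 ≤ m) {ε : F} (hε : ε ≠ 0) : ∃ d : GL (Fin m) F, (d : Matrix (Fin m) (Fin m) F).det = ε := by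
  haveI : NeZero m := ⟨by omega⟩
  have hd : (Matrix.diagonal (Function.update (fun _ => (1 : F)) (0 : Fin m) ε)).det = ε := by
    rw [Matrix.det_diagonal, Finset.prod_update_of_mem (Finset.mem_univ _)]
    simp
  exact ⟨Matrix.GeneralLinearGroup.mkOfDetNeZero _ (hd.trans_ne hε), hd⟩

/-- A swap of two factors, corrected on a third one, has determinant one. -/
theorem exists_swap_fix (hm : 3 ≤ m) (l : Fin (t + 1)) (j k : Fin t) :
    ∃ d : GL (Fin m) F,
      permGL m F (Equiv.swap (l.succAbove j) (l.succAbove k)) * pureGL (Function.update (fun _ => 1) l d) ∈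
        Cfsg.Geo.specialLinear (Fin (t + 1) → Fin m) F ∧
      (spGL l (permGL m F (Equiv.swap (l.succAbove j) (l.succAbove k)) * pureGL (Function.update (fun _ => 1) l d)) :
          Matrix ((Fin t → Fin m) × Fin m) ((Fin t → Fin m) × Fin m) F) =
        perm (Equiv.swap j k) ⊗ₖ (d : Matrix (Fin m) (Fin m) F) := by
  set P : Matrix (Fin t → Fin m) (Fin t → Fin m) F := perm (Equiv.swap j k)
  have hsq : P.det * P.det = 1 := by
    rw [← Matrix.det_mul, perm_mul, Equiv.swap_mul_self, perm_one, Matrix.det_one]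
  have hP : P.det ≠ 0 := fun h => zero_ne_one (α := F) (by rw [← hsq, h, mul_zero])
  have key : ∀ d : GL (Fin m) F,
      (spGL l (permGL m F (Equiv.swap (l.succAbove j) (l.succAbove k)) * pureGL (Function.update (fun _ => 1) l d)) :
          Matrix ((Fin t → Fin m) × Fin m) ((Fin t → Fin m) × Fin m) F) =
        P ⊗ₖ (d : Matrix (Fin m) (Fin m) F) := by
    intro d
    rw [← extPerm_swap, spGL_kronecker_mul (spGL_permGL l _) (spGL_pureGL l _), one_mul, Function.update_self]
    simp only [Function.update_of_ne (Fin.succAbove_ne l _), Units.val_one]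
    rw [pure_one, mul_one]
  have hin : ∀ d : GL (Fin m) F, (P.det ^ m * (d : Matrix (Fin m) (Fin m) F).det ^ (m ^ t) = 1) →
      permGL m F (Equiv.swap (l.succAbove j) (l.succAbove k)) * pureGL (Function.update (fun _ => 1) l d) ∈
        Cfsg.Geo.specialLinear (Fin (t + 1) → Fin m) F := by
    intro d hd
    refine MonoidHom.mem_ker.2 (Units.ext ?_)
    show (Units.val (permGL m F (Equiv.swap (l.succAbove j) (l.succAbove k)) *
      pureGL (Function.update (fun _ => 1) l d))).det = 1
    rw [← det_spGL l, key, Matrix.det_kronecker]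
    simpa using hd
  rcases Nat.even_or_odd m with ⟨r, hr⟩ | hodd
  · refine ⟨1, hin 1 ?_, key 1⟩
    rw [Units.val_one, Matrix.det_one, one_pow, mul_one,
      show P.det ^ m = (P.det * P.det) ^ r by rw [← pow_two, ← pow_mul]; congr 1; omega, hsq, one_pow]
  · obtain ⟨d, hd⟩ := exists_det hm hP
    refine ⟨d, hin d ?_, key d⟩
    obtain ⟨r, hr⟩ := hodd
    obtain ⟨s, hs⟩ : Odd (m ^ t) := Odd.pow ⟨r, hr⟩
    rw [hd, hs, show P.det ^ m = (P.det * P.det) ^ r * P.det by rw [← pow_two, ← pow_mul, ← pow_succ]; congr 1,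
      show P.det ^ (2 * s + 1) = (P.det * P.det) ^ s * P.det by rw [← pow_two, ← pow_mul, ← pow_succ], hsq, one_pow,
      one_pow, one_mul, hsq]

theorem det_pureGL_update (i : Fin (t + 1)) (u : GL (Fin m) F) (hu : (u : Matrix (Fin m) (Fin m) F).det = 1) :
    pureGL (Function.update (fun _ => 1) i u) ∈ Cfsg.Geo.specialLinear (Fin (t + 1) → Fin m) F := by
  refine MonoidHom.mem_ker.2 (Units.ext ?_)
  show (Units.val (pureGL (Function.update (fun _ => 1) i u))).det = 1
  rw [← det_spGL i, spGL_pureGL, Matrix.det_kronecker, Function.update_self, hu, one_pow, mul_one]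
  simp only [Function.update_of_ne (Fin.succAbove_ne i _), Units.val_one]
  rw [pure_one, Matrix.det_one, one_pow]

theorem spGL_pureGL_update (i : Fin (t + 1)) (u : GL (Fin m) F) :
    (spGL i (pureGL (Function.update (fun _ => 1) i u)) :
        Matrix ((Fin t → Fin m) × Fin m) ((Fin t → Fin m) × Fin m) F) =
      (1 : Matrix (Fin t → Fin m) (Fin t → Fin m) F) ⊗ₖ (u : Matrix (Fin m) (Fin m) F) := by
  rw [spGL_pureGL, Function.update_self]
  simp only [Function.update_of_ne (Fin.succAbove_ne i _), Units.val_one]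
  rw [pure_one]

end CfsgLib.Geo.TensorWreath
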