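/-
The centraliser of a root in the standard group, split at the factor of the root.
-/
import Cfsg.Agent.Lib.Geo.TensorWreath.Split
import Cfsg.Agent.Lib.Geo.TensorWreath.Pure

set_option autoImplicit false

namespace CfsgLib.Geo.TensorWreath

open Matrix CfsgLib.Geo.SpinTensor
open scoped Kronecker

variable {F : Type*} [Field F] {t m : ℕ}

theorem exists_extPerm (i : Fin (t + 1)) {π : Equiv.Perm (Fin (t + 1))} (h : π i = i) :
    ∃ π' : Equiv.Perm (Fin t), π = extPerm i π' := by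
  have hne : ∀ x, x ≠ i → π x ≠ i := fun x hx e => hx (π.injective (e.trans h.symm))
  choose f hf using fun j : Fin t => Fin.exists_succAbove_eq (hne _ (Fin.succAbove_ne i j))
  have hinj : Function.Injective f := fun a b e =>
    Fin.succAbove_right_injective (π.injective (by rw [← hf a, ← hf b, e]))
  refine ⟨Equiv.ofBijective f (Finite.injective_iff_bijective.1 hinj), Equiv.ext fun x => ?_⟩
  rcases Fin.eq_self_or_eq_succAbove i x with rfl | ⟨j, rfl⟩
  · rw [extPerm_self, h]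
  · rw [extPerm_succAbove]
    exact (hf j).symm

/-- A standard element commuting with a root is a Kronecker product at its factor. -/
theorem split_of_fix_root (hm : 3 ≤ m) {u : GL (Fin (t + 1) → Fin m) F} (hu : IsStd u) {i : Fin (t + 1)}
    {v φ : Fin m → F} (h : φ ⬝ᵥ v = 0) (hv : v ≠ 0) (hφ : φ ≠ 0)
    (hfix : u * rootGL i v φ h * u⁻¹ = rootGL i v φ h) :
    ∃ (A : Matrix (Fin t → Fin m) (Fin t → Fin m) F) (B : Matrix (Fin m) (Fin m) F),
      (spGL i u : Matrix ((Fin t → Fin m) × Fin m) ((Fin t → Fin m) × Fin m) F) = A ⊗ₖ B ∧ B *ᵥ v = v ∧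
        φ ᵥ* B = φ := by
  obtain ⟨gs, π, e⟩ := hu
  rw [conj_rootGL e h] at hfix
  obtain ⟨hi, hvec⟩ := rootMat_eq hm h hv hφ (congrArg Units.val hfix).symm
  obtain ⟨π', rfl⟩ := exists_extPerm i hi.symm
  rw [← hi] at hvec
  set g := gs i
  obtain ⟨d, hd⟩ := TensorLinear.exists_dual hφ
  rw [dotProduct_comm] at hd
  obtain ⟨c, hc⟩ : ∃ c : F, c • ((g : Matrix (Fin m) (Fin m) F) *ᵥ v) = v := by
    refine ⟨(φ ᵥ* ((g⁻¹ : GL (Fin m) F) : Matrix (Fin m) (Fin m) F)) ⬝ᵥ d, funext fun a => ?_⟩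
    have := congrArg (fun M : Matrix (Fin m) (Fin m) F => (M *ᵥ d) a) hvec
    simp only [Matrix.vecMulVec_mulVec, Pi.smul_apply, op_smul_eq_smul, smul_eq_mul, hd] at this
    rw [Pi.smul_apply, smul_eq_mul, ← this, one_mul]
  have hc0 : c ≠ 0 := fun h0 => hv (by rw [← hc, h0, zero_smul])
  have eu : u = pureGL gs * permGL m F (extPerm i π') := Units.ext e
  refine ⟨c⁻¹ • (SpinTensor.pure (fun j => (gs (i.succAbove j) : Matrix (Fin m) (Fin m) F)) * perm π'),
    c • (g : Matrix (Fin m) (Fin m) F), ?_, by rw [Matrix.smul_mulVec, hc], ?_⟩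
  · rw [eu, spGL_kronecker_mul (spGL_pureGL i gs) (spGL_permGL i π'), mul_one, Matrix.smul_kronecker,
      Matrix.kronecker_smul, smul_smul, inv_mul_cancel₀ hc0, one_smul]
  · obtain ⟨a, ha⟩ := Function.ne_iff.1 hv
    have hcomm : Matrix.vecMulVec v φ * (g : Matrix (Fin m) (Fin m) F) =
        Matrix.vecMulVec ((g : Matrix (Fin m) (Fin m) F) *ᵥ v) φ := by
      conv_lhs => rw [hvec, Matrix.vecMulVec_mul, Matrix.vecMul_vecMul, Units.inv_mul, Matrix.vecMul_one]
    funext b
    have h1 := congrFun (congrFun hcomm a) b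
    rw [Matrix.vecMulVec_mul, Matrix.vecMulVec_apply, Matrix.vecMulVec_apply] at h1
    have h2 : v a = c * ((g : Matrix (Fin m) (Fin m) F) *ᵥ v) a := (congrFun hc a).symm
    rw [Matrix.vecMul_smul, Pi.smul_apply, smul_eq_mul]
    refine mul_left_cancel₀ ha ?_
    linear_combination c * h1 - φ b * h2

end CfsgLib.Geo.TensorWreath
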