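/-
Rank bounds: a conjugate of a root moves at most one line's worth of dimensions.
-/
import Cfsg.Agent.Lib.Geo.TensorWreath.Split
import Cfsg.Agent.Lib.Geo.TensorWreath.Pure
import Mathlib.LinearAlgebra.Matrix.Rank
import Mathlib.LinearAlgebra.Dimension.Constructions

set_option autoImplicit false

namespace CfsgLib.Geo.TensorWreath

open Matrix Module CfsgLib.Geo.SpinTensor
open scoped Kronecker

variable {F : Type*} [Field F] {t m : ℕ}

theorem submatrix_sub_one {n o : Type} [DecidableEq n] [DecidableEq o] (A : Matrix n n F) (e : o ≃ n) :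
    (A - 1).submatrix e e = A.submatrix e e - 1 := by
  ext a b
  simp [Matrix.one_apply, e.injective.eq_iff]

/-- A root moves at most one line's worth. -/
theorem rank_conj_root {r y : GL (Fin (t + 1) → Fin m) F} (hr : IsRoot r) :
    (((y * r * y⁻¹ : GL (Fin (t + 1) → Fin m) F) : Matrix (Fin (t + 1) → Fin m) (Fin (t + 1) → Fin m) F) - 1).rank ≤
      Fintype.card (Fin t → Fin m) := by
  obtain ⟨k, v, φ, h, -, -, e⟩ := hr
  have e' : ((y * r * y⁻¹ : GL (Fin (t + 1) → Fin m) F) : Matrix (Fin (t + 1) → Fin m) (Fin (t + 1) → Fin m) F) - 1 =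
      (y : Matrix (Fin (t + 1) → Fin m) (Fin (t + 1) → Fin m) F) * (rootMat k v φ - 1) *
        ((y⁻¹ : GL (Fin (t + 1) → Fin m) F) : Matrix (Fin (t + 1) → Fin m) (Fin (t + 1) → Fin m) F) := by
    rw [mul_sub, sub_mul, mul_one, Units.mul_inv, Units.val_mul, Units.val_mul, e]
  rw [e']
  refine ((Matrix.rank_mul_le_left _ _).trans (Matrix.rank_mul_le_right _ _)).trans ?_
  rw [← Matrix.rank_submatrix (rootMat k v φ - 1) (sp k) (sp k), submatrix_sub_one, sub_rootMat,
    add_sub_cancel_left]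
  exact (Matrix.rank_mul_le_left _ _).trans (Matrix.rank_le_card_width _)

section Kron

variable {α β : Type} [Fintype α] [DecidableEq α] [Fintype β] [DecidableEq β]

theorem le_rank_of_injective {n k : Type} [Fintype n] [Fintype k] (T : Matrix n n F) {V : Type*} [AddCommGroup V]
    [Module F V] [FiniteDimensional F V] (L : V →ₗ[F] (n → F)) (hL : Function.Injective (T.mulVecLin.comp L)) :
    finrank F V ≤ T.rank := by
  rw [Matrix.rank]
  refine le_trans ?_ (Submodule.finrank_mono (LinearMap.range_comp_le_range L T.mulVecLin))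
  rw [LinearMap.finrank_range_of_inj hL]

theorem kron_mulVec_pt (A : Matrix α α F) (B : Matrix β β F) (w : α → F) (u : β → F) :
    (A ⊗ₖ B) *ᵥ TensorLinear.pt w u = TensorLinear.pt (A *ᵥ w) (B *ᵥ u) := by
  rw [← TensorLinear.emb_mulVec, Matrix.mulVec_mulVec, TensorLinear.kronecker_mul_emb, ← Matrix.mulVec_mulVec,
    TensorLinear.emb_mulVec]

/-- A Kronecker product of two non-scalar matrices moves more than one line's worth. -/
theorem card_lt_rank_kronecker (h3 : 3 ≤ Fintype.card β) {A : Matrix α α F} {B : Matrix β β F} {u : β → F}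
    (hA : ∀ c : F, A ≠ c • 1) (hAinj : ∀ w, A *ᵥ w = 0 → w = 0) (hu : ∀ c : F, B *ᵥ u ≠ c • u) :
    Fintype.card α < (A ⊗ₖ B - 1).rank := by
  classical
  obtain ⟨φ, hφ0, hφ1⟩ := CfsgLib.Geo.exists_functional u (B *ᵥ u) fun hm => by
    obtain ⟨c, hc⟩ := Submodule.mem_span_singleton.1 hm
    exact hu c hc.symm
  obtain ⟨ψ, hψ0, hψ⟩ := TensorLinear.exists_perp ![u, B *ᵥ u] (show 2 < Fintype.card β by omega)
  have hψu : ψ ⬝ᵥ u = 0 := hψ 0
  have hψv : ψ ⬝ᵥ (B *ᵥ u) = 0 := hψ 1
  obtain ⟨z, hz⟩ := TensorLinear.exists_dual hψ0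
  rw [dotProduct_comm] at hz
  obtain ⟨w₀, hw₀⟩ : ∃ w₀, (ψ ⬝ᵥ (B *ᵥ z)) • (A *ᵥ w₀) - w₀ ≠ 0 := by
    by_contra! hc
    obtain hd | hd := eq_or_ne (ψ ⬝ᵥ (B *ᵥ z)) 0
    · obtain ⟨a⟩ : Nonempty α := by
        rw [← Fintype.card_pos_iff]
        by_contra h
        have : IsEmpty α := Fintype.card_eq_zero_iff.1 (by omega)
        exact hA 0 (Matrix.ext fun i => this.elim i)
      have := congrFun (hc (Pi.single a 1)) a
      simp [hd] at this
    · refine hA (ψ ⬝ᵥ (B *ᵥ z))⁻¹ (Matrix.toLin'.injective (LinearMap.ext fun w => ?_))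
      rw [Matrix.toLin'_apply, Matrix.toLin'_apply, Matrix.smul_mulVec, Matrix.one_mulVec, eq_inv_smul_iff₀ hd,
        ← sub_eq_zero]
      exact hc w
  let L : (α → F) × F →ₗ[F] (α × β → F) :=
    { toFun := fun p => TensorLinear.pt p.1 u + p.2 • TensorLinear.pt w₀ z
      map_add' := fun p q => by funext x; simp [TensorLinear.pt]; ring
      map_smul' := fun c p => by funext x; simp [TensorLinear.pt]; ring }
  have hTL : ∀ p : (α → F) × F, (A ⊗ₖ B - 1) *ᵥ L p =
      TensorLinear.pt (A *ᵥ p.1) (B *ᵥ u) - TensorLinear.pt p.1 u +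
        p.2 • (TensorLinear.pt (A *ᵥ w₀) (B *ᵥ z) - TensorLinear.pt w₀ z) := fun p => by
    show (A ⊗ₖ B - 1) *ᵥ (TensorLinear.pt p.1 u + p.2 • TensorLinear.pt w₀ z) = _
    rw [Matrix.mulVec_add, Matrix.mulVec_smul, Matrix.sub_mulVec, Matrix.sub_mulVec, Matrix.one_mulVec,
      Matrix.one_mulVec, kron_mulVec_pt, kron_mulVec_pt]
  have := le_rank_of_injective (k := α) (A ⊗ₖ B - 1) L ((injective_iff_map_eq_zero _).2 fun p hp => by
    rw [LinearMap.comp_apply, Matrix.mulVecLin_apply, hTL] at hp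
    have h1 := congrArg (TensorLinear.con α ψ *ᵥ ·) hp
    simp only [Matrix.mulVec_add, Matrix.mulVec_sub, Matrix.mulVec_smul, TensorLinear.con_pt, hψu, hψv, hz,
      zero_smul, sub_zero, zero_add, one_smul, Matrix.mulVec_zero] at h1
    have hp2 : p.2 = 0 := (smul_eq_zero.1 h1).resolve_right hw₀
    have h2 := congrArg (TensorLinear.con α φ *ᵥ ·) hp
    simp only [Matrix.mulVec_add, Matrix.mulVec_sub, Matrix.mulVec_smul, TensorLinear.con_pt, hφ0, hφ1, hp2,
      zero_smul, sub_zero, add_zero, one_smul, Matrix.mulVec_zero] at h2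
    exact Prod.ext (hAinj _ h2) hp2)
  rw [Module.finrank_prod, Module.finrank_fintype_fun_eq_card, Module.finrank_self] at this
  omega

/-- A matrix of rank at least two on one factor moves two lines' worth. -/
theorem two_mul_card_le_rank {N : Matrix β β F} {u₁ u₂ : β → F} (h1 : N *ᵥ u₁ ≠ 0)
    (h2 : ∀ c : F, N *ᵥ u₂ ≠ c • (N *ᵥ u₁)) :
    2 * Fintype.card α ≤ ((1 : Matrix α α F) ⊗ₖ N).rank := by
  classical
  obtain ⟨φ₂, ha, hb⟩ := CfsgLib.Geo.exists_functional (N *ᵥ u₁) (N *ᵥ u₂) fun hm => by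
    obtain ⟨c, hc⟩ := Submodule.mem_span_singleton.1 hm
    exact h2 c hc.symm
  obtain ⟨χ, hχ⟩ := TensorLinear.exists_dual h1
  let L : (α → F) × (α → F) →ₗ[F] (α × β → F) :=
    { toFun := fun p => TensorLinear.pt p.1 u₁ + TensorLinear.pt p.2 u₂
      map_add' := fun p q => by funext x; simp [TensorLinear.pt]; ring
      map_smul' := fun c p => by funext x; simp [TensorLinear.pt]; ring }
  have := le_rank_of_injective (k := α) ((1 : Matrix α α F) ⊗ₖ N) L ((injective_iff_map_eq_zero _).2 fun p hp => by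
    rw [LinearMap.comp_apply, Matrix.mulVecLin_apply] at hp
    rw [show L p = TensorLinear.pt p.1 u₁ + TensorLinear.pt p.2 u₂ from rfl, Matrix.mulVec_add, kron_mulVec_pt,
      kron_mulVec_pt, Matrix.one_mulVec, Matrix.one_mulVec] at hp
    have e2 := congrArg (TensorLinear.con α φ₂ *ᵥ ·) hp
    simp only [Matrix.mulVec_add, TensorLinear.con_pt, ha, hb, zero_smul, one_smul, zero_add,
      Matrix.mulVec_zero] at e2
    have e1 := congrArg (TensorLinear.con α χ *ᵥ ·) hp
    simp only [Matrix.mulVec_add, TensorLinear.con_pt, hχ, e2, smul_zero, one_smul, add_zero,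
      Matrix.mulVec_zero] at e1
    exact Prod.ext e1 e2)
  rw [Module.finrank_prod, Module.finrank_fintype_fun_eq_card] at this
  omega

end Kron

theorem mulVec_eq_zero_of_gl {n : Type} [Fintype n] [DecidableEq n] (g : GL n F) {w : n → F}
    (h : (g : Matrix n n F) *ᵥ w = 0) : w = 0 := by
  have := congrArg (((g⁻¹ : GL n F) : Matrix n n F) *ᵥ ·) h
  simpa [Matrix.mulVec_mulVec] using this

/-- A pure tensor which is a scalar has scalar factors. -/
theorem scalar_of_pure_eq (hm : 3 ≤ m) {gs : Fin t → GL (Fin m) F} {c : F}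
    (e : SpinTensor.pure (fun i => (gs i : Matrix (Fin m) (Fin m) F)) = c • 1) (l : Fin t) :
    ∃ d : F, (gs l : Matrix (Fin m) (Fin m) F) = d • 1 := by
  classical
  haveI : NeZero m := ⟨by omega⟩
  have hc : c ≠ 0 := fun h => by
    have h1 := pure_inv gs
    rw [e, h, zero_smul, zero_mul] at h1
    have := congrFun (congrFun h1 (fun _ => 0)) (fun _ => 0)
    simp at this
  let u : GL (Fin m) F := Units.mk ((c⁻¹ : F) • 1) (c • 1) (by simp [smul_smul, hc]) (by simp [smul_smul, hc])
  have e2 : SpinTensor.pure (fun i => ((Function.update gs l (u * gs l) i : GL (Fin m) F) :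
      Matrix (Fin m) (Fin m) F)) * perm 1 = 1 := by
    rw [perm_one, mul_one, show (fun i => ((Function.update gs l (u * gs l) i : GL (Fin m) F) :
      Matrix (Fin m) (Fin m) F)) = fun i => (Function.update (fun _ => (1 : Matrix (Fin m) (Fin m) F)) l
        (c⁻¹ • 1)) i * (gs i : Matrix (Fin m) (Fin m) F) from funext fun i => by
      by_cases hi : i = l
      · subst hi; simp [u]
      · simp [Function.update_of_ne hi], ← pure_mul, e, mul_smul_comm, mul_one,
      show SpinTensor.pure (Function.update (fun _ => (1 : Matrix (Fin m) (Fin m) F)) l (c⁻¹ • 1)) =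
        emb l (c⁻¹ • (1 : Matrix (Fin m) (Fin m) F)) from rfl, map_smul, emb_one, smul_smul, mul_inv_cancel₀ hc,
      one_smul]
  obtain ⟨d, hd⟩ := (std_eq_one hm e2).2 l
  refine ⟨c * d, ?_⟩
  simp [u] at hd
  rw [← smul_smul, ← hd, smul_inv_smul₀ hc]

/-- A pure tensor of small displacement has one non-scalar factor. -/
theorem single_factor (hm : 3 ≤ m) {gs : Fin (t + 1) → GL (Fin m) F}
    (hrank : (SpinTensor.pure (fun i => (gs i : Matrix (Fin m) (Fin m) F)) - 1).rank ≤ Fintype.card (Fin t → Fin m)) :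
    ∃ (i : Fin (t + 1)) (B : Matrix (Fin m) (Fin m) F),
      SpinTensor.pure (fun i => (gs i : Matrix (Fin m) (Fin m) F)) = emb i B := by
  classical
  by_cases hall : ∀ l, ∃ c : F, (gs l : Matrix (Fin m) (Fin m) F) = c • 1
  · choose c hc using hall
    exact ⟨0, _, pure_collapse 0 _ c fun l _ => hc l⟩
  push Not at hall
  obtain ⟨i, hi⟩ := hall
  by_cases hA : ∃ d : F, SpinTensor.pure (fun j => (gs (i.succAbove j) : Matrix (Fin m) (Fin m) F)) = d • 1
  · obtain ⟨d, hd⟩ := hA
    have hl : ∀ l, ∃ c : F, l ≠ i → (gs l : Matrix (Fin m) (Fin m) F) = c • 1 := fun l => by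
      by_cases hl : l = i
      · exact ⟨0, fun h => absurd hl h⟩
      obtain ⟨j, rfl⟩ := Fin.exists_succAbove_eq hl
      obtain ⟨c, hc⟩ := scalar_of_pure_eq hm hd j
      exact ⟨c, fun _ => hc⟩
    choose c hc using hl
    exact ⟨i, _, pure_collapse i _ c hc⟩
  push Not at hA
  exfalso
  obtain ⟨u, -, hu⟩ := exists_not_eigen hi
  have h := card_lt_rank_kronecker (F := F) (α := Fin t → Fin m) (by rwa [Fintype.card_fin]) hA
    (fun w hw => mulVec_eq_zero_of_gl (pureGL fun j => gs (i.succAbove j)) hw) hu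
  rw [← Matrix.rank_submatrix _ (sp i) (sp i), submatrix_sub_one, sub_pure] at hrank
  exact absurd hrank (not_le.2 h)

/-- A one-factor element of small displacement squaring to one is a root. -/
theorem isRoot_of_single (hm : 3 ≤ m) {x : GL (Fin (t + 1) → Fin m) F} {i : Fin (t + 1)}
    {B : Matrix (Fin m) (Fin m) F} (ex : (x : Matrix (Fin (t + 1) → Fin m) (Fin (t + 1) → Fin m) F) = emb i B)
    (hrank : ((x : Matrix (Fin (t + 1) → Fin m) (Fin (t + 1) → Fin m) F) - 1).rank ≤ Fintype.card (Fin t → Fin m))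
    (hsq : ((x : Matrix (Fin (t + 1) → Fin m) (Fin (t + 1) → Fin m) F) - 1) *
      ((x : Matrix (Fin (t + 1) → Fin m) (Fin (t + 1) → Fin m) F) - 1) = 0)
    (hx : x ≠ 1) : IsRoot x := by
  classical
  haveI : NeZero m := ⟨by omega⟩
  set N := B - 1
  have hxN : (x : Matrix (Fin (t + 1) → Fin m) (Fin (t + 1) → Fin m) F) - 1 = emb i N := by
    rw [map_sub, emb_one, ex]
  have hN2 : N * N = 0 := emb_injective hm i (by rw [map_zero, ← emb_mul_emb, ← hxN, hsq])
  have hN : N ≠ 0 := fun h => hx (Units.ext (by rw [← sub_eq_zero, Units.val_one, hxN, h, map_zero]))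
  obtain ⟨j, hj⟩ : ∃ j, N *ᵥ Pi.single j (1 : F) ≠ 0 := by
    by_contra! h
    refine hN (Matrix.ext fun a b => ?_)
    have := congrFun (h b) a
    rwa [Matrix.mulVec_single_one] at this
  set v := N *ᵥ Pi.single j (1 : F)
  have hcol : ∀ k, ∃ c : F, N *ᵥ Pi.single k (1 : F) = c • v := by
    intro k
    by_contra! h
    have h2 := two_mul_card_le_rank (α := Fin t → Fin m) (F := F) hj h
    rw [hxN, ← Matrix.rank_submatrix _ (sp i) (sp i), sub_emb] at hrank
    have : 0 < Fintype.card (Fin t → Fin m) := Fintype.card_pos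
    omega
  choose φ hφ using hcol
  have hNv : N = Matrix.vecMulVec v φ := Matrix.ext fun a b => by
    have := congrFun (hφ b) a
    rw [Matrix.mulVec_single_one] at this
    rw [Matrix.vecMulVec_apply, mul_comm]
    exact this
  have hφ0 : φ ≠ 0 := fun h => hN (by rw [hNv, h, Matrix.vecMulVec_zero])
  refine ⟨i, v, φ, ?_, hj, hφ0, ?_⟩
  · by_contra h
    rw [hNv, Matrix.vecMulVec_mul_vecMulVec] at hN2
    obtain ⟨a, ha⟩ := Function.ne_iff.1 hj
    obtain ⟨b, hb⟩ := Function.ne_iff.1 hφ0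
    have := congrFun (congrFun hN2 a) b
    simp [Matrix.vecMulVec_apply] at this
    rcases this with h' | h' | h'
    · exact ha h'
    · exact h h'
    · exact hb h'
  · rw [rootMat, ← hNv, ← hxN, add_sub_cancel]

end CfsgLib.Geo.TensorWreath
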