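/-
A standard element conjugate to a root is a root, or a swap of two factors of degree three in characteristic two.
-/
import Cfsg.Agent.Lib.Geo.TensorWreath.Rank
import Cfsg.Agent.Lib.Geo.TensorWreath.Perm

set_option autoImplicit false

namespace CfsgLib.Geo.TensorWreath

open Matrix CfsgLib.Geo.SpinTensor

variable {F : Type*} [Field F] {t m : ℕ}

theorem pure_perm_apply (gs : Fin t → Matrix (Fin m) (Fin m) F) (π : Equiv.Perm (Fin t)) (a b : Fin t → Fin m) :
    (SpinTensor.pure gs * perm π : Matrix (Fin t → Fin m) (Fin t → Fin m) F) a b = ∏ l, gs l (a l) (b (π⁻¹ l)) := by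
  have h := mul_perm_apply π (SpinTensor.pure gs) (b ∘ ⇑π⁻¹) a
  rw [show (b ∘ ⇑π⁻¹) ∘ ⇑π = b from funext fun x => by simp] at h
  exact h

theorem card_le_rank {n ι : Type} [Fintype n] [Fintype ι] [DecidableEq ι] (T : Matrix n n F) (f g : ι → n)
    (d : ι → F) (hd : ∀ i, d i ≠ 0) (h : T.submatrix f g = Matrix.diagonal d) : Fintype.card ι ≤ T.rank := by
  refine le_trans ?_ (T.rank_submatrix_le f g)
  rw [h, Matrix.rank_of_isUnit _ ((Matrix.isUnit_iff_isUnit_det _).2 ?_)]
  rw [Matrix.det_diagonal]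
  exact (Finset.prod_ne_zero_iff.2 fun i _ => hd i).isUnit

/-- Vectors with prescribed two coordinates. -/
theorem sub_sq_eq {x : GL (Fin t → Fin m) F}
    (hsq : ((x : Matrix (Fin t → Fin m) (Fin t → Fin m) F) - 1) *
      ((x : Matrix (Fin t → Fin m) (Fin t → Fin m) F) - 1) = 0) :
    (x : Matrix (Fin t → Fin m) (Fin t → Fin m) F) * x =
      (2 : F) • (x : Matrix (Fin t → Fin m) (Fin t → Fin m) F) - 1 := by
  rw [sub_mul, mul_sub, mul_one, one_mul] at hsq
  rw [two_smul]
  linear_combination (norm := abel) hsq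

theorem perm_eq_one_of_sq (hm : 3 ≤ m) (h2 : (2 : F) ≠ 0) {x : GL (Fin t → Fin m) F}
    (hsq : ((x : Matrix (Fin t → Fin m) (Fin t → Fin m) F) - 1) *
      ((x : Matrix (Fin t → Fin m) (Fin t → Fin m) F) - 1) = 0) {gs : Fin t → GL (Fin m) F} {π : Equiv.Perm (Fin t)}
    (e : x = pureGL gs * permGL m F π) : π = 1 := by
  classical
  haveI : NeZero m := ⟨by omega⟩
  by_contra hπ
  obtain ⟨j, hj⟩ : ∃ j, π j ≠ j := by
    by_contra! h
    exact hπ (Equiv.ext h)
  have hjp : π⁻¹ j ≠ j := fun h => hj (by conv_lhs => rw [← h]; simp)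
  set k := π j
  set e0 : Fin m → F := Pi.single 0 1
  have he0 : e0 ≠ 0 := Function.ne_iff.2 ⟨0, by simp [e0]⟩
  obtain ⟨f, hfk, hfj⟩ := exists_avoid hm ((gs k : Matrix (Fin m) (Fin m) F) *ᵥ e0)
    ((((gs j)⁻¹ : GL (Fin m) F) : Matrix (Fin m) (Fin m) F) *ᵥ e0)
  have hf : f ≠ 0 := ne_zero_of_not_prop hfk
  set ξ : Fin t → Fin m → F := Function.update (fun _ => f) j e0
  have hξ : ∀ l, ξ l ≠ 0 := fun l => by
    by_cases hl : l = j
    · subst hl; simp only [ξ, Function.update_self]; exact he0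
    · simp only [ξ, Function.update_of_ne hl]; exact hf
  have himg : ∀ η, (x : Matrix (Fin t → Fin m) (Fin t → Fin m) F) *ᵥ pvec η =
      pvec fun l => (gs l : Matrix (Fin m) (Fin m) F) *ᵥ η (π⁻¹ l) :=
    isStd_mulVec (congrArg Units.val e)
  have h := congrArg (· *ᵥ pvec ξ) (sub_sq_eq hsq)
  simp only [← Matrix.mulVec_mulVec, Matrix.sub_mulVec, Matrix.smul_mulVec, Matrix.one_mulVec, himg] at h
  refine two_diff (Ne.symm hj) (ξ₀ := ξ) (ξ₁ := fun l => (gs l : Matrix (Fin m) (Fin m) F) *ᵥ ξ (π⁻¹ l))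
    (ξ₂ := fun l => (gs l : Matrix (Fin m) (Fin m) F) *ᵥ ((gs (π⁻¹ l) : Matrix (Fin m) (Fin m) F) *ᵥ ξ (π⁻¹ (π⁻¹ l))))
    h2 (neg_ne_zero.2 one_ne_zero) hξ (fun l => gl_mulVec_ne_zero _ (hξ _)) ?_ ?_ ?_
  · intro c hc
    simp only [ξ, Function.update_self, Function.update_of_ne hjp] at hc
    by_cases hc0 : c = 0
    · exact he0 (by rw [hc, hc0, zero_smul])
    · refine hfj c⁻¹ ?_
      rw [hc, Matrix.mulVec_smul, Matrix.mulVec_mulVec, Units.inv_mul, Matrix.one_mulVec, inv_smul_smul₀ hc0]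
  · intro c hc
    simp only [ξ, Function.update_of_ne hj, show π⁻¹ k = j from π.symm_apply_apply j, Function.update_self, k] at hc
    by_cases hc0 : c = 0
    · exact gl_mulVec_ne_zero (gs (π j)) he0 (by rw [hc, hc0, zero_smul])
    · exact hfk c⁻¹ (by simp only [k]; rw [hc, inv_smul_smul₀ hc0])
  · rw [h, neg_one_smul, sub_eq_add_neg]

theorem sq_eq_one [CharP F 2] {x : GL (Fin t → Fin m) F}
    (hsq : ((x : Matrix (Fin t → Fin m) (Fin t → Fin m) F) - 1) *
      ((x : Matrix (Fin t → Fin m) (Fin t → Fin m) F) - 1) = 0) : x * x = 1 := by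
  refine Units.ext ?_
  rw [Units.val_mul, sub_sq_eq hsq, CharTwo.two_eq_zero, zero_smul, zero_sub]
  ext a b
  simp [CharTwo.neg_eq]

/-- The pairs with first below second. -/
def pairFn (hm : 3 ≤ m) (i : Fin m) : Fin m × Fin m :=
  if h : i.val + 1 < m then (⟨0, by omega⟩, ⟨i.val + 1, h⟩) else (⟨1, by omega⟩, ⟨2, by omega⟩)

theorem pairFn_lt (hm : 3 ≤ m) (i : Fin m) : (pairFn hm i).1 < (pairFn hm i).2 := by
  unfold pairFn
  split_ifs <;> simp [Fin.lt_def]

theorem pairFn_injective (hm : 3 ≤ m) : Function.Injective (pairFn hm) := by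
  intro a b h
  unfold pairFn at h
  split_ifs at h with ha hb hb <;> simp [Fin.ext_iff] at h ⊢ <;> omega

theorem pairFn_ne (hm : 4 ≤ m) (i : Fin m) :
    pairFn (by omega) i ≠ ((⟨1, by omega⟩ : Fin m), (⟨3, by omega⟩ : Fin m)) := by
  unfold pairFn
  split_ifs <;> simp [Fin.ext_iff]

variable [CharP F 2]

/-- An involution of small displacement moving two factors is a swap of factors of degree three. -/
theorem swap_of_small (hm : 3 ≤ m) {gs : Fin (t + 1) → GL (Fin m) F} {π : Equiv.Perm (Fin (t + 1))}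
    {j : Fin (t + 1)} (hj : π j ≠ j) (hπ : π * π = 1) {c : F} (hc : c ≠ 0)
    (hgj : (gs j : Matrix (Fin m) (Fin m) F) = c • 1) (hgk : gs (π j) = 1)
    (hrank : (((pureGL gs * permGL m F π : GL (Fin (t + 1) → Fin m) F) :
      Matrix (Fin (t + 1) → Fin m) (Fin (t + 1) → Fin m) F) - 1).rank ≤ Fintype.card (Fin t → Fin m)) :
    m = 3 ∧ π = Equiv.swap j (π j) ∧ pureGL gs * permGL m F π = permGL m F π := by
  classical
  haveI : NeZero m := ⟨by omega⟩
  set x : Matrix (Fin (t + 1) → Fin m) (Fin (t + 1) → Fin m) F :=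
    ((pureGL gs * permGL m F π : GL (Fin (t + 1) → Fin m) F) : Matrix (Fin (t + 1) → Fin m) (Fin (t + 1) → Fin m) F)
  set k := π j
  have hππ : ∀ l, π (π l) = l := fun l => by
    rw [← Equiv.Perm.mul_apply, hπ, Equiv.Perm.one_apply]
  have hinv : π⁻¹ = π := inv_eq_of_mul_eq_one_right hπ
  have hzero : ∀ a b, x a b ≠ 0 → a j = b k ∧ a k = b j := by
    intro a b hab
    have e : x a b = ∏ l, (gs l : Matrix (Fin m) (Fin m) F) (a l) (b (π⁻¹ l)) := pure_perm_apply _ π a b
    rw [e, Finset.prod_ne_zero_iff] at hab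
    have h1 := hab j (Finset.mem_univ _)
    have h2 := hab k (Finset.mem_univ _)
    rw [hgj, hinv, Matrix.smul_apply, Matrix.one_apply] at h1
    rw [hgk, hinv, hππ j, Units.val_one, Matrix.one_apply] at h2
    exact ⟨by by_contra h; simp [k, h] at h1, by by_contra h; simp [h] at h2⟩
  have hoff : ∀ a b, a j < a k → b j ≤ b k → x a b = 0 := fun a b ha hb => by
    by_contra h
    obtain ⟨h1, h2⟩ := hzero a b h
    exact absurd hb (not_le.2 (by rw [← h1, ← h2]; exact ha))
  have hoff' : ∀ a b, a j ≤ a k → b j < b k → x a b = 0 := fun a b ha hb => by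
    by_contra h
    obtain ⟨h1, h2⟩ := hzero a b h
    exact absurd ha (not_le.2 (by rw [h1, h2]; exact hb))
  obtain ⟨k', hk'⟩ := Fin.exists_succAbove_eq (show k ≠ j from hj)
  set kap : (Fin t → Fin m) → (Fin (t + 1) → Fin m) :=
    fun z => sp j (Function.update z k' (pairFn hm (z k')).2, (pairFn hm (z k')).1)
  have hkj : ∀ z, kap z j = (pairFn hm (z k')).1 := fun z => sp_self j _
  have hkk : ∀ z, kap z k = (pairFn hm (z k')).2 := fun z => by
    rw [← hk']
    exact (sp_succAbove j _ k').trans (Function.update_self ..)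
  have hkap : Function.Injective kap := by
    intro z z' h
    have hp : z k' = z' k' := pairFn_injective hm (Prod.ext (by rw [← hkj, ← hkj, h]) (by rw [← hkk, ← hkk, h]))
    funext l
    by_cases hl : l = k'
    · rw [hl, hp]
    · have h1 := congrArg Prod.fst ((sp j).injective h)
      have h2 := congrFun h1 l
      simpa [Function.update_of_ne hl] using h2
  have hlt : ∀ z, kap z j < kap z k := fun z => by rw [hkj, hkk]; exact pairFn_lt hm _
  set T := x - 1
  have hTS : ∀ a b, a j < a k → b j < b k → T a b = if a = b then -1 else 0 := fun a b ha hb => by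
    rw [show T a b = x a b - (1 : Matrix _ _ F) a b from rfl, hoff a b ha hb.le, Matrix.one_apply]
    split_ifs <;> simp
  have hM : ¬ Fintype.card ((Fin t → Fin m) ⊕ Unit) ≤ T.rank := fun h => by
    rw [Fintype.card_sum, Fintype.card_unit] at h
    omega
  have hm3 : m = 3 := by
    by_contra hm4
    refine hM (card_le_rank T
      (Sum.elim kap fun _ => sp j (Function.update (fun _ => ⟨0, by omega⟩) k' ⟨3, by omega⟩, ⟨1, by omega⟩))
      (Sum.elim kap fun _ => sp j (Function.update (fun _ => ⟨0, by omega⟩) k' ⟨3, by omega⟩, ⟨1, by omega⟩))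
      (fun _ => -1) (fun _ => neg_ne_zero.2 one_ne_zero) ?_)
    set ex : Fin (t + 1) → Fin m :=
      sp j (Function.update (fun _ => ⟨0, by omega⟩) k' ⟨3, by omega⟩, ⟨1, by omega⟩)
    have hexj : ex j = ⟨1, by omega⟩ := sp_self j _
    have hexk : ex k = ⟨3, by omega⟩ := by
      rw [← hk']
      simp [ex, sp_succAbove]
    have hex : ex j < ex k := by rw [hexj, hexk]; simp [Fin.lt_def]
    have hinj : Function.Injective (Sum.elim kap fun _ : Unit => ex) := by
      refine Function.Injective.sumElim hkap (fun _ _ _ => rfl) fun z _ h => ?_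
      exact pairFn_ne (by omega) (z k') (Prod.ext (by rw [← hkj, h, hexj]) (by rw [← hkk, h, hexk]))
    have hS : ∀ s, Sum.elim kap (fun _ : Unit => ex) s j < Sum.elim kap (fun _ : Unit => ex) s k := by
      rintro (z | z)
      · exact hlt z
      · exact hex
    ext r s
    rw [Matrix.submatrix_apply, hTS _ _ (hS r) (hS s), Matrix.diagonal_apply]
    exact if_congr hinj.eq_iff rfl rfl
  have hD : ∀ a b, a j = a k → b j = b k → T a b = 0 := by
    intro a b ha hb
    by_contra hab
    refine hM (card_le_rank T (Sum.elim kap fun _ => a) (Sum.elim kap fun _ => b)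
      (Sum.elim (fun _ => -1) fun _ => T a b) ?_ ?_)
    · rintro (z | z)
      · exact neg_ne_zero.2 one_ne_zero
      · exact hab
    · ext r s
      rw [Matrix.submatrix_apply, Matrix.diagonal_apply]
      rcases r with r | r <;> rcases s with s | s
      · simp only [Sum.elim_inl, Sum.inl.injEq]
        rw [hTS _ _ (hlt r) (hlt s)]
        exact if_congr hkap.eq_iff rfl rfl
      · simp only [Sum.elim_inl, Sum.elim_inr, reduceCtorEq, if_false]
        show x (kap r) b - (1 : Matrix _ _ F) (kap r) b = 0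
        rw [hoff _ _ (hlt r) hb.le, Matrix.one_apply_ne fun h => (hlt r).ne (by rw [h, hb]), sub_zero]
      · simp only [Sum.elim_inl, Sum.elim_inr, reduceCtorEq, if_false]
        show x a (kap s) - (1 : Matrix _ _ F) a (kap s) = 0
        rw [hoff' _ _ ha.le (hlt s), Matrix.one_apply_ne fun h => (hlt s).ne (by rw [← h, ha]), sub_zero]
      · simp
  -- the diagonal is fixed
  set e0 : Fin m → F := Pi.single 0 1
  have he0 : e0 ≠ 0 := Function.ne_iff.2 ⟨0, by simp [e0]⟩
  have hfix : ∀ ξ : Fin (t + 1) → Fin m → F, ξ j = e0 → ξ k = e0 → x *ᵥ pvec ξ = pvec ξ := by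
    intro ξ hξj hξk
    rw [← sub_eq_zero]
    have himg := isStd_mulVec (g := pureGL gs * permGL m F π) rfl ξ
    have hsupp : ∀ (η : Fin (t + 1) → Fin m → F), η j = e0 → ∀ r : F, ∀ a, η k = r • e0 → pvec η a ≠ 0 → a j = a k := by
      intro η hηj r a hηk ha
      rw [pvec, Finset.prod_ne_zero_iff] at ha
      have h1 := ha j (Finset.mem_univ _)
      have h2 := ha k (Finset.mem_univ _)
      rw [hηj] at h1
      rw [hηk] at h2
      simp only [e0, Pi.single_apply, Pi.smul_apply, smul_eq_mul, ne_eq, mul_ite, mul_one, mul_zero, ite_eq_right_iff,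
        not_forall] at h1 h2
      rw [h1.1, h2.1]
    funext a
    rw [Pi.sub_apply, Pi.zero_apply]
    by_cases ha : a j = a k
    · have : x *ᵥ pvec ξ - pvec ξ = T *ᵥ pvec ξ := by rw [Matrix.sub_mulVec, Matrix.one_mulVec]
      rw [← Pi.sub_apply, this]
      refine Finset.sum_eq_zero fun b _ => ?_
      show T a b * pvec ξ b = 0
      by_cases hb : pvec ξ b = 0
      · rw [hb, mul_zero]
      · rw [hD a b ha (hsupp ξ hξj 1 b (by rw [one_smul, hξk]) hb), zero_mul]
    · have h1 : pvec ξ a = 0 := by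
        by_contra h; exact ha (hsupp ξ hξj 1 a (by rw [one_smul, hξk]) h)
      rw [h1, sub_zero]
      by_contra h
      rw [show x *ᵥ pvec ξ = _ from himg] at h
      rw [pvec, ← ne_eq, Finset.prod_ne_zero_iff] at h
      have h2 := h j (Finset.mem_univ _)
      have h3 := h k (Finset.mem_univ _)
      rw [hgj, hinv, Matrix.smul_mulVec, Matrix.one_mulVec, show ξ (π j) = e0 from hξk] at h2
      rw [hgk, hinv, hππ j, Units.val_one, Matrix.one_mulVec, hξj] at h3
      simp only [e0, Pi.single_apply, Pi.smul_apply, smul_eq_mul, ne_eq, mul_ite, mul_one, mul_zero, ite_eq_right_iff,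
        not_forall] at h2 h3
      exact ha (by rw [h2.1, h3.1])
  have hprop : ∀ ξ : Fin (t + 1) → Fin m → F, ξ j = e0 → ξ k = e0 → (∀ l, ξ l ≠ 0) → ∀ l,
      ∃ d : F, (gs l : Matrix (Fin m) (Fin m) F) *ᵥ ξ (π⁻¹ l) = d • ξ l := by
    intro ξ hξj hξk hξ
    refine pvec_prop hξ ?_
    rw [← isStd_mulVec (g := pureGL gs * permGL m F π) rfl ξ]
    exact hfix ξ hξj hξk
  have hfixl : ∀ l, l ≠ j → l ≠ k → π l = l := by
    intro l hlj hlk
    by_contra hl
    rw [← hinv] at hl
    obtain ⟨f, hf, -⟩ := exists_avoid hm ((gs l : Matrix (Fin m) (Fin m) F) *ᵥ e0) 0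
    obtain ⟨d, hd⟩ := hprop (Function.update (fun _ => e0) l f) (by simp [Function.update_of_ne hlj.symm])
      (by simp [Function.update_of_ne hlk.symm]) (fun p => by
        by_cases hp : p = l
        · subst hp; simpa using ne_zero_of_not_prop hf
        · simpa [Function.update_of_ne hp] using he0) l
    rw [Function.update_self, Function.update_of_ne hl] at hd
    by_cases hd0 : d = 0
    · exact gl_mulVec_ne_zero (gs l) he0 (by rw [hd, hd0, zero_smul])
    · exact hf d⁻¹ (by rw [hd, inv_smul_smul₀ hd0])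
  have hsw : π = Equiv.swap j k := by
    refine Equiv.ext fun l => ?_
    by_cases hlj : l = j
    · subst hlj; rw [Equiv.swap_apply_left]
    by_cases hlk : l = k
    · subst hlk; rw [Equiv.swap_apply_right]; exact hππ j
    rw [hfixl l hlj hlk, Equiv.swap_apply_of_ne_of_ne hlj hlk]
  have hsc : ∀ l, ∃ d : F, (gs l : Matrix (Fin m) (Fin m) F) = d • 1 := by
    intro l
    by_cases hlj : l = j
    · exact ⟨c, hlj ▸ hgj⟩
    by_cases hlk : l = k
    · exact ⟨1, by rw [hlk, hgk, one_smul, Units.val_one]⟩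
    by_contra! h
    obtain ⟨u, hu, hu'⟩ := exists_not_eigen h
    obtain ⟨d, hd⟩ := hprop (Function.update (fun _ => e0) l u) (by simp [Function.update_of_ne (Ne.symm hlj)])
      (by simp [Function.update_of_ne (Ne.symm hlk)]) (fun p => by
        by_cases hp : p = l
        · subst hp; simpa using hu
        · simpa [Function.update_of_ne hp] using he0) l
    rw [hinv, hfixl l hlj hlk, Function.update_self] at hd
    exact hu' d hd
  choose d hd using hsc
  refine ⟨hm3, hsw, Units.ext ?_⟩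
  have hx : x = (∏ l, d l) • (perm π : Matrix (Fin (t + 1) → Fin m) (Fin (t + 1) → Fin m) F) := by
    show SpinTensor.pure _ * perm π = _
    rw [pure_scalar _ d hd, smul_mul_assoc, one_mul]
  have h1 := congrFun (hfix (fun _ => e0) rfl rfl) (fun _ => 0)
  rw [hx, Matrix.smul_mulVec, perm_mulVec, Pi.smul_apply, smul_eq_mul] at h1
  have hone : pvec (fun _ : Fin (t + 1) => e0) (fun _ => 0) = 1 := by simp [pvec, e0]
  rw [hone, mul_one] at h1
  show x = perm π
  rw [hx, h1, one_smul]

omit [CharP F 2] in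
theorem val_pure_conj (h : Fin t → GL (Fin m) F) (x : GL (Fin t → Fin m) F) :
    ((((pureGL h)⁻¹ * x * pureGL h : GL (Fin t → Fin m) F)) : Matrix (Fin t → Fin m) (Fin t → Fin m) F) - 1 =
      (((pureGL h)⁻¹ : GL (Fin t → Fin m) F) : Matrix (Fin t → Fin m) (Fin t → Fin m) F) *
        ((x : Matrix (Fin t → Fin m) (Fin t → Fin m) F) - 1) *
        (pureGL h : Matrix (Fin t → Fin m) (Fin t → Fin m) F) := by
  rw [mul_sub, mul_one, sub_mul, Units.inv_mul, Units.val_mul, Units.val_mul]

omit [CharP F 2] in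
theorem conj_sub_sq {r z : GL (Fin t → Fin m) F} (hr : IsRoot r) :
    (((z * r * z⁻¹ : GL (Fin t → Fin m) F) : Matrix (Fin t → Fin m) (Fin t → Fin m) F) - 1) *
      (((z * r * z⁻¹ : GL (Fin t → Fin m) F) : Matrix (Fin t → Fin m) (Fin t → Fin m) F) - 1) = 0 := by
  have e : ((z * r * z⁻¹ : GL (Fin t → Fin m) F) : Matrix (Fin t → Fin m) (Fin t → Fin m) F) - 1 =
      (z : Matrix (Fin t → Fin m) (Fin t → Fin m) F) * ((r : Matrix (Fin t → Fin m) (Fin t → Fin m) F) - 1) *
        ((z⁻¹ : GL (Fin t → Fin m) F) : Matrix (Fin t → Fin m) (Fin t → Fin m) F) := by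
    rw [mul_sub, mul_one, sub_mul, Units.mul_inv, Units.val_mul, Units.val_mul]
  rw [e, mul_assoc, ← mul_assoc ((z⁻¹ : GL (Fin t → Fin m) F) : Matrix (Fin t → Fin m) (Fin t → Fin m) F),
    ← mul_assoc ((z⁻¹ : GL (Fin t → Fin m) F) : Matrix (Fin t → Fin m) (Fin t → Fin m) F),
    Units.inv_mul, one_mul, ← mul_assoc, mul_assoc (z : Matrix (Fin t → Fin m) (Fin t → Fin m) F),
    hr.mul_self, mul_zero, zero_mul]

omit [CharP F 2] in
/-- A pure conjugate of a root is a root. -/
theorem isRoot_of_conj_pure (hm : 3 ≤ m) {r z : GL (Fin (t + 1) → Fin m) F} (hr : IsRoot r)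
    (hx : HasPerm (z * r * z⁻¹) 1) : IsRoot (z * r * z⁻¹) := by
  classical
  have hrank := rank_conj_root (y := z) hr
  obtain ⟨gs, e⟩ := hx
  rw [permGL_one, mul_one] at e
  have hrank' := hrank
  rw [e] at hrank'
  obtain ⟨i, B, hB⟩ := single_factor hm (gs := gs) hrank'
  refine isRoot_of_single hm (i := i) (B := B) ((congrArg Units.val e).trans hB) hrank (conj_sub_sq hr) ?_
  intro h1
  obtain ⟨k, v, φ, hp, hv, hφ, er⟩ := hr
  have h2 : r = 1 := by
    have := congrArg (fun g => z⁻¹ * g * z) h1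
    simpa [mul_assoc] using this
  rw [h2, Units.val_one, rootMat] at er
  have h3 : emb k (Matrix.vecMulVec v φ) = emb k (0 : Matrix (Fin m) (Fin m) F) := by
    rw [map_zero]; exact left_eq_add.1 er
  obtain ⟨a, ha⟩ := Function.ne_iff.1 hv
  obtain ⟨b, hb⟩ := Function.ne_iff.1 hφ
  exact mul_ne_zero ha hb (congrFun (congrFun (emb_injective hm k h3) a) b)

/-- The standard conjugates of roots. -/
theorem conj_cases (hm : 3 ≤ m) {r z : GL (Fin (t + 1) → Fin m) F} (hr : IsRoot r)
    (hx : IsStd (z * r * z⁻¹)) :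
    IsRoot (z * r * z⁻¹) ∨ (m = 3 ∧ ∃ (j k : Fin (t + 1)) (h : Fin (t + 1) → GL (Fin m) F), j ≠ k ∧
      z * r * z⁻¹ = pureGL h * permGL m F (Equiv.swap j k) * (pureGL h)⁻¹) := by
  classical
  set x := z * r * z⁻¹
  have hrank := rank_conj_root (y := z) hr
  have hsq := conj_sub_sq (z := z) hr
  obtain ⟨π, gs, e⟩ := hx.hasPerm
  by_cases hπ : π = 1
  · left
    subst hπ
    exact isRoot_of_conj_pure hm hr ⟨gs, e⟩
  right
  have h2 : (2 : F) = 0 := CharTwo.two_eq_zero
  obtain ⟨j, hj⟩ : ∃ j, π j ≠ j := by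
    by_contra! h
    exact hπ (Equiv.ext h)
  have hx2 := sq_eq_one hsq
  have hP : HasPerm (x * x) (π * π) := (show HasPerm x π from ⟨gs, e⟩).mul ⟨gs, e⟩
  have hππ : π * π = 1 := by
    rw [hx2] at hP
    exact hP.unique hm hasPerm_one
  set k := π j
  have hππ' : ∀ l, π (π l) = l := fun l => by
    rw [← Equiv.Perm.mul_apply, hππ, Equiv.Perm.one_apply]
  have hinv : π⁻¹ = π := inv_eq_of_mul_eq_one_right hππ
  have ex2 : pureGL (fun l => gs l * gs (π l)) = 1 := by
    calc pureGL (fun l => gs l * gs (π l))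
        = pureGL gs * pureGL (fun l => gs (π⁻¹ l)) * permGL m F π * permGL m F π := by
          rw [mul_assoc _ (permGL m F π), permGL_mul, hππ, permGL_one, mul_one, pureGL_mul, hinv]; rfl
      _ = x * x := by
          rw [e, mul_assoc (pureGL gs) (pureGL _), ← permGL_mul_pureGL]
          simp only [mul_assoc]
      _ = 1 := hx2
  obtain ⟨c, hc⟩ := (std_eq_one hm (gs := fun l => gs l * gs (π l)) (π := 1) (by
    rw [perm_one, mul_one]
    exact congrArg Units.val ex2)).2 j
  set h : Fin (t + 1) → GL (Fin m) F := Function.update 1 k (gs k)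
  set gs' : Fin (t + 1) → GL (Fin m) F := fun l => (h l)⁻¹ * gs l * h (π l)
  have e' : (pureGL h)⁻¹ * x * pureGL h = pureGL gs' * permGL m F π := by
    rw [e, pureGL_inv]
    simp only [mul_assoc]
    rw [permGL_mul_pureGL, hinv, ← mul_assoc, ← mul_assoc, pureGL_mul, pureGL_mul]
    rfl
  haveI : NeZero m := ⟨by omega⟩
  have hc0 : c ≠ 0 := by
    intro h0
    have := hc
    rw [h0, zero_smul] at this
    exact Units.ne_zero (gs j * gs (π j)) this
  obtain ⟨hm3, hsw, hfin⟩ := swap_of_small hm (gs := gs') hj hππ hc0 (by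
      show ((((h j)⁻¹ * gs j * h (π j) : GL (Fin m) F)) : Matrix (Fin m) (Fin m) F) = _
      rw [show h j = 1 from Function.update_of_ne (Ne.symm hj) _ _, show h (π j) = gs k from Function.update_self ..,
        inv_one, one_mul]
      exact hc) (by
      show (h k)⁻¹ * gs k * h (π k) = 1
      rw [show h k = gs k from Function.update_self .., show π k = j from hππ' j,
        show h j = 1 from Function.update_of_ne (Ne.symm hj) _ _, mul_one, inv_mul_cancel]) (by
      rw [← e', val_pure_conj]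
      exact ((Matrix.rank_mul_le_left _ _).trans (Matrix.rank_mul_le_right _ _)).trans hrank)
  refine ⟨hm3, j, k, h, Ne.symm hj, ?_⟩
  rw [← hsw, ← hfin, ← e']
  group

end CfsgLib.Geo.TensorWreath
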