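/-
An overgroup of the tensor-wreath group without the special linear group: the centralisers of the elements on one
factor, and the elements sending a root to a root, are standard.
-/
import Cfsg.Agent.Lib.Geo.TensorWreath.Split

set_option autoImplicit false

namespace CfsgLib.Geo.TensorWreath

open Matrix Module CfsgLib.Geo.SpinTensor
open scoped Kronecker

variable {F : Type*} [Field F] {t m : ℕ}

/-- What is used about an overgroup which does not contain the special linear group. -/
structure Ctx (X : Subgroup (GL (Fin t → Fin m) F)) : Prop where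
  three : 3 ≤ m
  two : 2 ≤ t
  base : ∀ g, IsStd g → g ∈ Cfsg.Geo.specialLinear (Fin t → Fin m) F → g ∈ X
  root_map : ∀ y ∈ X, ∀ x, IsRoot x → IsRoot (y * x * y⁻¹) → IsStd y
  one : ∀ y ∈ X, ∀ (i : Fin t) (B : Matrix (Fin m) (Fin m) F) (c : F) (e : Fin m → F),
    e ≠ 0 → B *ᵥ e = c • e → (∀ d : F, B ≠ d • 1) →
    Commute (y : Matrix (Fin t → Fin m) (Fin t → Fin m) F) (emb i B) → IsStd y

theorem unitsOfDet {n : Type} [Fintype n] [DecidableEq n] (b : Matrix n n F) (hb : b.det = 1) :
    ∃ u : GL n F, (u : Matrix n n F) = b :=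
  ⟨Matrix.GeneralLinearGroup.mkOfDetNeZero b (by rw [hb]; exact one_ne_zero), rfl⟩

theorem exists_add_single_det (a b : Fin m) (hab : a ≠ b) :
    ∃ u : GL (Fin m) F, (u : Matrix (Fin m) (Fin m) F) = 1 + Matrix.single a b 1 ∧
      ((u⁻¹ : GL (Fin m) F) : Matrix (Fin m) (Fin m) F) = 1 - Matrix.single a b 1 ∧
      (u : Matrix (Fin m) (Fin m) F).det = 1 := by
  have h : Matrix.single a b (1 : F) * Matrix.single a b 1 = 0 := Matrix.single_mul_single_of_ne _ _ _ _ hab.symm _
  refine ⟨⟨1 + Matrix.single a b 1, 1 - Matrix.single a b 1, ?_, ?_⟩, rfl, rfl,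
    Matrix.det_transvection_of_ne a b hab 1⟩
  · rw [mul_sub, mul_one, add_mul, one_mul, h]; abel
  · rw [mul_add, mul_one, sub_mul, one_mul, h]; abel

variable {X : Subgroup (GL (Fin (t + 1) → Fin m) F)}
  (base : ∀ g, IsStd g → g ∈ Cfsg.Geo.specialLinear (Fin (t + 1) → Fin m) F → g ∈ X)

theorem mem_map_spGL (i : Fin (t + 1)) (g : GL (Fin (t + 1) → Fin m) F) :
    spGL i g ∈ X.map (spGL i).toMonoidHom ↔ g ∈ X := by
  constructor
  · rintro ⟨g', hg', e⟩
    rwa [← (spGL i).injective e]
  · exact fun h => ⟨g, h, rfl⟩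

include base in
theorem hbase_split (i : Fin (t + 1)) (b : Matrix (Fin m) (Fin m) F) (hb : b.det = 1) :
    ∃ x ∈ X.map (spGL i).toMonoidHom, ((x : GL ((Fin t → Fin m) × Fin m) F) :
      Matrix ((Fin t → Fin m) × Fin m) ((Fin t → Fin m) × Fin m) F) =
        (1 : Matrix (Fin t → Fin m) (Fin t → Fin m) F) ⊗ₖ b := by
  obtain ⟨u, hu⟩ := unitsOfDet b hb
  refine ⟨spGL i (pureGL (Function.update (fun _ => 1) i u)),
    (mem_map_spGL i _).2 (base _ (isStd_pureGL _) (det_pureGL_update i u (by rw [hu, hb]))), ?_⟩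
  rw [spGL_pureGL_update, hu]

include base in
/-- Without the special linear group every coefficient is a scalar. -/
theorem notGood_of (hm : 3 ≤ m) (ht : 1 ≤ t)
    (hns : ¬ Cfsg.Geo.specialLinear (Fin (t + 1) → Fin m) F ≤ X) (i : Fin (t + 1)) :
    Lines.NotGood (X.map (spGL i).toMonoidHom) := by
  intro v φ θ hR h1 hv hφ
  by_contra! hθ
  have hb := hbase_split base i
  have h3 : 3 ≤ Fintype.card (Fin m) := by rwa [Fintype.card_fin]
  have hadd : ∀ a b, TensorLinear.InTheta (X.map (spGL i).toMonoidHom) a →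
      TensorLinear.InTheta (X.map (spGL i).toMonoidHom) b →
      TensorLinear.InTheta (X.map (spGL i).toMonoidHom) (a + b) := fun _ _ ha hb' => ha.add hb'
  have hconj : ∀ (j : Fin t) (a b : Fin m), a ≠ b → ∀ θ, TensorLinear.InTheta (X.map (spGL i).toMonoidHom) θ →
      TensorLinear.InTheta (X.map (spGL i).toMonoidHom)
        ((1 + emb j (Matrix.single a b 1)) * θ * (1 - emb j (Matrix.single a b 1))) := by
    intro j a b hab θ' hθ'
    obtain ⟨u, hu, hu', hd⟩ := exists_add_single_det (F := F) a b hab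
    set g : GL (Fin (t + 1) → Fin m) F := pureGL (Function.update (fun _ => 1) (i.succAbove j) u)
    refine Lines.inTheta_conj hb h3 (b := 1) (b' := 1) hθ' ?_ (mul_one _)
      ((mem_map_spGL i g).2 (base g (isStd_pureGL _) (det_pureGL_update _ u hd))) ?_
    · rw [← emb_one (F := F) (J := Fin m) j, ← map_add, ← map_sub, emb_mul_emb, ← hu, ← hu', Units.mul_inv]
    · rw [spGL_val]
      have e : (g : Matrix (Fin (t + 1) → Fin m) (Fin (t + 1) → Fin m) F) =
          emb (i.succAbove j) (1 + Matrix.single a b (1 : F)) := by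
        show SpinTensor.pure _ = SpinTensor.pure _
        congr 1
        funext k
        by_cases hk : k = i.succAbove j
        · subst hk; simp [hu]
        · simp [Function.update_of_ne hk]
      rw [e, sub_emb_succAbove, map_add, emb_one]
  have hperm : ∀ (j k : Fin t) θ, TensorLinear.InTheta (X.map (spGL i).toMonoidHom) θ →
      TensorLinear.InTheta (X.map (spGL i).toMonoidHom)
        (perm (Equiv.swap j k) * θ * perm (Equiv.swap j k)⁻¹) := by
    intro j k θ' hθ'
    obtain ⟨d, hd, hsp⟩ := exists_swap_fix (F := F) hm i j k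
    exact Lines.inTheta_conj hb h3 (b := (d : Matrix (Fin m) (Fin m) F))
      (b' := ((d⁻¹ : GL (Fin m) F) : Matrix (Fin m) (Fin m) F)) hθ'
      (by rw [perm_mul, mul_inv_cancel, perm_one]) (Units.mul_inv d)
      ((mem_map_spGL i _).2 (base _ ((isStd_permGL _).mul (isStd_pureGL _)) hd)) hsp
  have hall := mem_of_nonscalar (S := TensorLinear.InTheta (X.map (spGL i).toMonoidHom)) hm hadd
    (fun _ _ ha hb' => ha.mul h3 hb' fun hR' e hv' hφ' => Lines.inTheta_of_one hb h3 hR' e hv' hφ')
    (fun c _ ha => Lines.inTheta_smul hb h3 ha c) hconj hperm (Lines.inTheta_of_one hb h3 hR h1 hv hφ) hθ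
  have hα : 2 ≤ Fintype.card (Fin t → Fin m) := by
    rw [Fintype.card_fun, Fintype.card_fin, Fintype.card_fin]
    calc 2 ≤ m ^ 1 := by rw [pow_one]; omega
      _ ≤ m ^ t := Nat.pow_le_pow_right (by omega) ht
  refine hns fun g hg => ?_
  have := Lines.specialLinear_le_of_all hα h3 hall (show spGL i g ∈ _ by
    refine MonoidHom.mem_ker.2 (Units.ext ?_)
    show (spGL i g : Matrix ((Fin t → Fin m) × Fin m) ((Fin t → Fin m) × Fin m) F).det = 1
    rw [det_spGL]
    exact congrArg Units.val (MonoidHom.mem_ker.1 hg))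
  exact (mem_map_spGL i g).1 this

/-- The first factors of the Kronecker products in the group. -/
def firstFactors (X : Subgroup (GL (Fin (t + 1) → Fin m) F)) (i : Fin (t + 1)) :
    Subgroup (GL (Fin t → Fin m) F) where
  carrier := {A | ∃ (B : GL (Fin m) F) (g : GL (Fin (t + 1) → Fin m) F), g ∈ X ∧
    (spGL i g : Matrix ((Fin t → Fin m) × Fin m) ((Fin t → Fin m) × Fin m) F) =
      (A : Matrix (Fin t → Fin m) (Fin t → Fin m) F) ⊗ₖ (B : Matrix (Fin m) (Fin m) F)}
  one_mem' := ⟨1, 1, X.one_mem, by simp⟩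
  mul_mem' := by
    rintro A A' ⟨B, g, hg, e⟩ ⟨B', g', hg', e'⟩
    exact ⟨B * B', g * g', X.mul_mem hg hg', spGL_kronecker_mul e e'⟩
  inv_mem' := by
    rintro A ⟨B, g, hg, e⟩
    refine ⟨B⁻¹, g⁻¹, X.inv_mem hg, ?_⟩
    rw [map_inv]
    refine Units.inv_eq_of_mul_eq_one_right ?_
    rw [e, ← Matrix.mul_kronecker_mul, Units.mul_inv, Units.mul_inv, Matrix.one_kronecker_one]

include base in
/-- An element of the group which is a Kronecker product at one factor is standard. -/
theorem isStd_of_mem_kronecker (hm : 3 ≤ m) (ht : 1 ≤ t)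
    (hns : ¬ Cfsg.Geo.specialLinear (Fin (t + 1) → Fin m) F ≤ X)
    (IH : ∀ Y : Subgroup (GL (Fin t → Fin m) F),
      (∀ g, IsStd g → g ∈ Cfsg.Geo.specialLinear (Fin t → Fin m) F → g ∈ Y) →
      (∃ y ∈ Y, ¬ IsStd y) → Cfsg.Geo.specialLinear (Fin t → Fin m) F ≤ Y)
    {i : Fin (t + 1)} {y : GL (Fin (t + 1) → Fin m) F} (hy : y ∈ X) {A : GL (Fin t → Fin m) F} {B : GL (Fin m) F}
    (e : (spGL i y : Matrix ((Fin t → Fin m) × Fin m) ((Fin t → Fin m) × Fin m) F) =
      (A : Matrix (Fin t → Fin m) (Fin t → Fin m) F) ⊗ₖ (B : Matrix (Fin m) (Fin m) F)) : IsStd y := by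
  classical
  refine isStd_of_kronecker e ?_
  by_contra hA
  obtain ⟨t, rfl⟩ : ∃ s, t = s + 2 := by
    refine ⟨t - 2, ?_⟩
    rcases Nat.lt_or_ge t 2 with h | h
    · obtain rfl : t = 1 := by omega
      exact absurd (isStd_fin_one A) hA
    · omega
  have hle := IH (firstFactors X i) (fun g hg hg1 => by
    obtain ⟨gs, π, eg⟩ := hg
    refine ⟨1, pureGL (i.insertNth 1 gs) * permGL m F (extPerm i π), base _
      ((isStd_pureGL _).mul (isStd_permGL _)) ?_, ?_⟩
    · refine MonoidHom.mem_ker.2 (Units.ext ?_)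
      show (Units.val (pureGL (i.insertNth 1 gs) * permGL m F (extPerm i π))).det = 1
      rw [← det_spGL i, spGL_kronecker_mul (spGL_pureGL i _) (spGL_permGL i π), Matrix.det_kronecker]
      simp only [Fin.insertNth_apply_succAbove, Fin.insertNth_apply_same, Units.val_one, mul_one, Matrix.det_one,
        one_pow]
      rw [← eg]
      have := congrArg Units.val (MonoidHom.mem_ker.1 hg1)
      rw [show (g : Matrix (Fin (t + 2) → Fin m) (Fin (t + 2) → Fin m) F).det = 1 from this, one_pow]
    · rw [spGL_kronecker_mul (spGL_pureGL i _) (spGL_permGL i π), eg]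
      simp) ⟨A, ⟨B, y, hy, e⟩, hA⟩
  haveI : NeZero m := ⟨by omega⟩
  obtain ⟨o, ho, -⟩ := exists_third hm (0 : Fin m) 0
  set p : Fin (t + 2) → Fin m := fun _ => 0
  set q : Fin (t + 2) → Fin m := fun _ => o
  have hpq : p ≠ q := fun h => ho (congrFun h 0).symm
  obtain ⟨T, hT⟩ := unitsOfDet (1 + Matrix.single p q (1 : F)) (Matrix.det_transvection_of_ne p q hpq 1)
  obtain ⟨b, y₀, hy₀, e₀⟩ := hle (show T ∈ Cfsg.Geo.specialLinear (Fin (t + 2) → Fin m) F by
    refine MonoidHom.mem_ker.2 (Units.ext ?_)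
    show (T : Matrix (Fin (t + 2) → Fin m) (Fin (t + 2) → Fin m) F).det = 1
    rw [hT]
    exact Matrix.det_transvection_of_ne p q hpq 1)
  rw [hT] at e₀
  set Y₀ := (y₀ : Matrix (Fin (t + 2 + 1) → Fin m) (Fin (t + 2 + 1) → Fin m) F)
  have hY : ∀ P Q, Y₀ (sp i P) (sp i Q) =
      (1 + Matrix.single p q (1 : F)) P.1 Q.1 * (b : Matrix (Fin m) (Fin m) F) P.2 Q.2 := fun P Q => by
    have := congrFun (congrFun e₀ P) Q
    rwa [spGL_val, Matrix.submatrix_apply, Matrix.kroneckerMap_apply] at this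
  set j : Fin (t + 2) := 0
  set J := i.succAbove j
  set e0 : Fin m → F := Pi.single 0 1
  have he0 : e0 ≠ 0 := Function.ne_iff.2 ⟨0, by simp [e0]⟩
  have hJ := notGood_of base hm (by omega) hns J
  have himg : TensorLinear.img (spGL J y₀) e0 = TensorLinear.line _ e0 := by
    refine Submodule.eq_of_le_of_finrank_eq ?_ ?_
    · rintro _ ⟨z, hz, rfl⟩
      obtain ⟨w, rfl⟩ := TensorLinear.mem_line.1 hz
      refine TensorLinear.mem_line.2 ⟨fun a => ((spGL J y₀ : Matrix ((Fin (t + 2) → Fin m) × Fin m) ((Fin (t + 2) → Fin m) × Fin m) F) *ᵥ TensorLinear.pt w e0) (a, 0), ?_⟩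
      rw [Matrix.mulVecLin_apply]
      funext ⟨a, c⟩
      by_cases hc : c = 0
      · subst hc; simp [TensorLinear.pt, e0]
      · simp only [TensorLinear.pt, e0, Pi.single_eq_of_ne hc, mul_zero]
        symm
        simp only [Matrix.mulVec, dotProduct]
        refine Finset.sum_eq_zero fun Q _ => ?_
        by_cases hQ : Q.2 = 0
        swap
        · exact mul_eq_zero_of_right _ (by simp [TensorLinear.pt, Pi.single_eq_of_ne hQ])
        refine mul_eq_zero_of_left ?_ _
        rw [spGL_val, Matrix.submatrix_apply]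
        obtain ⟨P', hP'⟩ := (sp i).surjective (sp J (a, c))
        obtain ⟨Q', hQ'⟩ := (sp i).surjective (sp J Q)
        rw [← hP', ← hQ', show (y₀ : Matrix (Fin (t + 2 + 1) → Fin m) (Fin (t + 2 + 1) → Fin m) F) (sp i P') (sp i Q') = Y₀ (sp i P') (sp i Q') from rfl, hY]
        refine mul_eq_zero_of_left ?_ _
        have h1 : P'.1 j = c := by
          rw [← sp_succAbove i P' j, hP']; exact sp_self J _
        have h2 : Q'.1 j = 0 := by
          rw [← sp_succAbove i Q' j, hQ']; exact (sp_self J Q).trans hQ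
        rw [Matrix.add_apply, Matrix.one_apply, Matrix.single_apply, if_neg (fun h => hc (by rw [← h1, h, h2])),
          if_neg (fun h => hc (by rw [← h1, ← h.1]))]
        exact add_zero 0
    · rw [TensorLinear.finrank_img _ he0, TensorLinear.finrank_line he0]
  have hconj : Lines.Conj (X.map (spGL J).toMonoidHom) (spGL J y₀) := by
    intro x β' hβ ex
    obtain ⟨x', hx', ex'⟩ := hbase_split base J β' hβ
    rw [show x = x' from Units.ext (ex.trans ex'.symm)]
    exact Subgroup.mul_mem _ (Subgroup.mul_mem _ ((mem_map_spGL J _).2 hy₀) hx')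
      (Subgroup.inv_mem _ ((mem_map_spGL J _).2 hy₀))
  obtain ⟨A', B', e'⟩ := Lines.kronecker_of_line (hbase_split base J) Fintype.card_pos (by rwa [Fintype.card_fin]) hJ
    hconj he0 himg
  have hY' : ∀ U V, Y₀ U V = (A' : Matrix _ _ F) ((sp J).symm U).1 ((sp J).symm V).1 *
      (B' : Matrix (Fin m) (Fin m) F) (U J) (V J) := fun U V => by
    have := congrFun (congrFun e' ((sp J).symm U)) ((sp J).symm V)
    rw [spGL_val, Matrix.submatrix_apply, Matrix.kroneckerMap_apply, Equiv.apply_symm_apply,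
      Equiv.apply_symm_apply] at this
    simp only [Y₀]
    rw [this, ← sp_self J ((sp J).symm U), ← sp_self J ((sp J).symm V), Equiv.apply_symm_apply,
      Equiv.apply_symm_apply]
  obtain ⟨a, a', hb⟩ : ∃ a a', (b : Matrix (Fin m) (Fin m) F) a a' ≠ 0 := by
    by_contra! h
    have h2 := congrFun (congrFun (Units.mul_inv b) 0) 0
    rw [Matrix.mul_apply, Finset.sum_eq_zero fun k _ => by rw [h, zero_mul]] at h2
    simp at h2
  set u := Function.update p j o
  have hup : u ≠ p := fun h => ho (by simpa [u, p] using congrFun h j)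
  have huq : u ≠ q := fun h => by
    have := congrFun h 1
    rw [show u 1 = p 1 from Function.update_of_ne (by simp [j]) _ _] at this
    exact ho this.symm
  have hPP := hY (p, a) (p, a')
  have hPQ := hY (p, a) (q, a')
  have hPU := hY (p, a) (u, a')
  simp [Matrix.one_apply, Matrix.single_apply, hpq, hpq.symm, hup.symm, huq.symm] at hPP hPQ hPU
  have hoff : ((sp J).symm (sp i (u, a'))).1 = ((sp J).symm (sp i (p, a'))).1 := by
    funext k
    rw [← sp_succAbove J ((sp J).symm (sp i (u, a'))) k, ← sp_succAbove J ((sp J).symm (sp i (p, a'))) k,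
      Equiv.apply_symm_apply, Equiv.apply_symm_apply]
    rcases Fin.eq_self_or_eq_succAbove i (J.succAbove k) with h | ⟨l, h⟩
    · rw [h, sp_self, sp_self]
    · rw [h, sp_succAbove, sp_succAbove]
      show Function.update p j o l = p l
      refine Function.update_of_ne (fun hlj => Fin.succAbove_ne J k ?_) _ _
      rw [h, hlj]
  have hUJ : sp i (u, a') J = o := by rw [sp_succAbove]; simp [u]
  have hPJ : ∀ z, sp i (p, z) J = 0 := fun z => sp_succAbove i _ j
  have hQJ : sp i (q, a') J = o := sp_succAbove i _ j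
  rw [hY', hoff, hPJ, hUJ] at hPU
  rw [hY', hPJ, hQJ] at hPQ
  rw [hY', hPJ, hPJ] at hPP
  rcases mul_eq_zero.1 hPU with h | h
  · rw [h, zero_mul] at hPP; exact hb hPP.symm
  · rw [h, mul_zero] at hPQ; exact hb hPQ.symm

include base in
theorem ctx_of (hm : 3 ≤ m) (ht : 1 ≤ t) (hns : ¬ Cfsg.Geo.specialLinear (Fin (t + 1) → Fin m) F ≤ X)
    (IH : ∀ Y : Subgroup (GL (Fin t → Fin m) F),
      (∀ g, IsStd g → g ∈ Cfsg.Geo.specialLinear (Fin t → Fin m) F → g ∈ Y) →
      (∃ y ∈ Y, ¬ IsStd y) → Cfsg.Geo.specialLinear (Fin t → Fin m) F ≤ Y) : Ctx X := by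
  classical
  have h3 : 3 ≤ Fintype.card (Fin m) := by rwa [Fintype.card_fin]
  haveI : NeZero m := ⟨by omega⟩
  refine ⟨hm, by omega, base, ?_, ?_⟩
  · intro y hy x ⟨k, v, φ, h, hv, hφ, ex⟩ ⟨i, w, ψ, h', hw, hψ, eyx⟩
    set h₁ : GL (Fin (t + 1) → Fin m) F := permGL m F (Equiv.swap i k)
    set y₁ := y * h₁
    have hh₁ : (h₁ : Matrix (Fin (t + 1) → Fin m) (Fin (t + 1) → Fin m) F) =
        SpinTensor.pure (fun _ => ((1 : GL (Fin m) F) : Matrix (Fin m) (Fin m) F)) * perm (Equiv.swap i k) := by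
      simp only [Units.val_one]; rw [pure_one, one_mul]; rfl
    have hroot : h₁ * rootGL i v φ h * h₁⁻¹ = x := by
      rw [conj_rootGL hh₁ h]
      refine Units.ext ?_
      rw [ex, rootGL_val, Equiv.swap_apply_left]
      simp
    have hmain : (y₁ : Matrix (Fin (t + 1) → Fin m) (Fin (t + 1) → Fin m) F) * rootMat i v φ =
        rootMat i w ψ * (y₁ : Matrix (Fin (t + 1) → Fin m) (Fin (t + 1) → Fin m) F) := by
      have e1 : y₁ * rootGL i v φ h = rootGL i w ψ h' * y₁ := by
        rw [show rootGL i w ψ h' = y * x * y⁻¹ from Units.ext eyx.symm, ← hroot]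
        simp only [y₁]
        group
      exact congrArg Units.val e1
    have hconj : Lines.Conj (X.map (spGL i).toMonoidHom) (spGL i y₁) := by
      intro x' β hβ ex'
      obtain ⟨u, hu⟩ := unitsOfDet β hβ
      set g : GL (Fin (t + 1) → Fin m) F := pureGL (Function.update (fun _ => 1) i u)
      rw [show x' = spGL i g from Units.ext (by rw [ex', spGL_pureGL_update, hu]), ← map_inv, ← map_mul, ← map_mul,
        mem_map_spGL]
      have hg := det_pureGL_update i u (by rw [hu, hβ])
      have h2 : h₁ * g * h₁⁻¹ ∈ X := base _ (((isStd_permGL _).mul (isStd_pureGL _)).mul (isStd_permGL _).inv) (by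
        rw [Cfsg.Geo.specialLinear, MonoidHom.mem_ker, map_mul, map_mul, MonoidHom.mem_ker.1 hg, mul_one, map_inv,
          mul_inv_cancel])
      have := X.mul_mem (X.mul_mem hy h2) (X.inv_mem hy)
      convert this using 1
      simp only [y₁]
      group
    have himg : TensorLinear.img (spGL i y₁) v = TensorLinear.line _ w := by
      refine Submodule.eq_of_le_of_finrank_eq ?_ (by
        rw [TensorLinear.finrank_img _ hv, TensorLinear.finrank_line hw])
      rintro _ ⟨z, hz, rfl⟩
      obtain ⟨s, rfl⟩ := TensorLinear.mem_line.1 hz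
      obtain ⟨e₁, he₁⟩ := TensorLinear.exists_dual hφ
      have h4 := congrArg (fun M : Matrix _ _ F => M.submatrix (sp i) (sp i)) hmain
      rw [← Matrix.submatrix_mul_equiv _ _ _ (sp i), ← Matrix.submatrix_mul_equiv _ _ _ (sp i), sub_rootMat,
        sub_rootMat, ← spGL_val, mul_add, mul_one, add_mul, one_mul] at h4
      have h5 := add_left_cancel h4
      have h6 := congrArg (· *ᵥ TensorLinear.pt s e₁) h5
      simp only [← Matrix.mulVec_mulVec, TensorLinear.con_pt] at h6
      rw [dotProduct_comm φ e₁, he₁, one_smul, TensorLinear.emb_mulVec, TensorLinear.emb_mulVec] at h6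
      exact TensorLinear.mem_line.2 ⟨_, h6.symm⟩
    obtain ⟨A, B, e⟩ := Lines.kronecker_of_line (hbase_split base i) Fintype.card_pos h3
      (notGood_of base hm ht hns i) hconj hv himg
    suffices IsStd y₁ from IsStd.of_mul_right (isStd_permGL _) this
    rcases Nat.lt_or_ge t 2 with ht2 | ht2
    · obtain rfl : t = 1 := by omega
      exact isStd_of_kronecker e (isStd_fin_one A)
    -- a third factor corrects the determinant
    obtain ⟨l, hl⟩ : ∃ l : Fin (t + 1), l ∉ ({i, k} : Finset (Fin (t + 1))) := by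
      obtain ⟨l, -, hl⟩ := Finset.exists_mem_notMem_of_card_lt_card (s := ({i, k} : Finset (Fin (t + 1))))
        (t := Finset.univ) (lt_of_le_of_lt Finset.card_le_two (by rw [Finset.card_univ, Fintype.card_fin]; omega))
      exact ⟨l, hl⟩
    simp only [Finset.mem_insert, Finset.mem_singleton, not_or] at hl
    obtain ⟨i', hi'⟩ := Fin.exists_succAbove_eq (Ne.symm hl.1)
    obtain ⟨k', hk'⟩ := Fin.exists_succAbove_eq (Ne.symm hl.2)
    obtain ⟨d, hd, -⟩ := exists_swap_fix (F := F) hm l i' k'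
    rw [hi', hk'] at hd
    set g : GL (Fin (t + 1) → Fin m) F := pureGL (Function.update (fun _ => 1) l d)
    have hy₂ : y₁ * g ∈ X := by
      rw [show y₁ * g = y * (h₁ * g) from mul_assoc _ _ _]
      exact X.mul_mem hy (base _ ((isStd_permGL _).mul (isStd_pureGL _)) hd)
    obtain ⟨l', hl'⟩ := Fin.exists_succAbove_eq hl.1
    have eg : (spGL i g : Matrix ((Fin t → Fin m) × Fin m) ((Fin t → Fin m) × Fin m) F) =
        (pureGL (fun j => Function.update (fun _ => (1 : GL (Fin m) F)) l d (i.succAbove j)) :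
          Matrix (Fin t → Fin m) (Fin t → Fin m) F) ⊗ₖ ((1 : GL (Fin m) F) : Matrix (Fin m) (Fin m) F) := by
      rw [spGL_pureGL, Function.update_of_ne (Ne.symm hl.1)]
      rfl
    have := isStd_of_mem_kronecker base hm ht hns IH hy₂ (A := A * pureGL _) (B := B * 1)
      (spGL_kronecker_mul e eg)
    exact IsStd.of_mul_right (isStd_pureGL _) this
  · intro y hy i B c e he hBe hB hcomm
    obtain ⟨r, hr⟩ : ∃ r, (fun j => (B - c • 1) r j) ≠ 0 := by
      by_contra! h
      exact hB c (sub_eq_zero.1 (Matrix.ext fun r j => congrFun (h r) j))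
    have hconj : Lines.Conj (X.map (spGL i).toMonoidHom) (spGL i y) := by
      intro x β hβ ex
      obtain ⟨x', hx', ex'⟩ := hbase_split base i β hβ
      rw [show x = x' from Units.ext (ex.trans ex'.symm)]
      exact Subgroup.mul_mem _ (Subgroup.mul_mem _ ((mem_map_spGL i _).2 hy) hx')
        (Subgroup.inv_mem _ ((mem_map_spGL i _).2 hy))
    set ψ : Fin m → F := fun j => (B - c • 1) r j
    have hnar : ∀ z ∈ TensorLinear.img (spGL i y) e, TensorLinear.con _ ψ *ᵥ z = 0 := by
      rintro _ ⟨z, hz, rfl⟩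
      obtain ⟨s, rfl⟩ := TensorLinear.mem_line.1 hz
      rw [Matrix.mulVecLin_apply]
      set Z := (spGL i y : Matrix ((Fin t → Fin m) × Fin m) ((Fin t → Fin m) × Fin m) F)
      set E : Matrix ((Fin t → Fin m) × Fin m) ((Fin t → Fin m) × Fin m) F :=
        (1 : Matrix (Fin t → Fin m) (Fin t → Fin m) F) ⊗ₖ B
      have hZE : Z * E = E * Z := by
        simp only [Z, E, spGL_val, ← sub_emb i B, Matrix.submatrix_mul_equiv]
        rw [hcomm.eq]
      have hEz : E *ᵥ TensorLinear.pt s e = c • TensorLinear.pt s e := by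
        rw [← TensorLinear.emb_mulVec, Matrix.mulVec_mulVec, TensorLinear.kronecker_mul_emb, Matrix.mul_one, hBe,
          TensorLinear.emb_mulVec, TensorLinear.emb_mulVec]
        funext p; simp [TensorLinear.pt]; ring
      have hEZ : E *ᵥ (Z *ᵥ TensorLinear.pt s e) = c • (Z *ᵥ TensorLinear.pt s e) := by
        rw [Matrix.mulVec_mulVec, ← hZE, ← Matrix.mulVec_mulVec, hEz, Matrix.mulVec_smul]
      funext a
      rw [TensorLinear.con_mulVec]
      have h7 := congrFun hEZ (a, r)
      set u := Z *ᵥ TensorLinear.pt s e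
      have h8 : (E *ᵥ u) (a, r) = ∑ j, B r j * u (a, j) := by
        simp [E, Matrix.mulVec, dotProduct, Fintype.sum_prod_type, Matrix.one_apply]
      rw [h8, Pi.smul_apply, smul_eq_mul] at h7
      simp [ψ, sub_mul, Finset.sum_sub_distrib, Matrix.one_apply, h7]
    obtain ⟨w, hw⟩ := Lines.line_of_narrow (hbase_split base i) h3 (notGood_of base hm ht hns i) hconj he hr hnar
    obtain ⟨A, B', eA⟩ := Lines.kronecker_of_line (hbase_split base i) Fintype.card_pos h3
      (notGood_of base hm ht hns i) hconj he hw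
    exact isStd_of_mem_kronecker base hm ht hns IH hy eA

end CfsgLib.Geo.TensorWreath
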