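/-
The levels of the triangular group of degree three.
-/
import Cfsg.Agent.Lib.Geo.TensorWreath.Pure

set_option autoImplicit false

namespace CfsgLib.Geo.TensorWreath

open Matrix

variable {F : Type*} [Field F]

/-- The levels. -/
def Lev : ℕ → Matrix (Fin 3) (Fin 3) F → Prop
  | 0, g => g 1 0 = 0 ∧ g 2 0 = 0 ∧ g 2 1 = 0 ∧ g 0 0 = g 2 2
  | 1, g => g 1 0 = 0 ∧ g 2 0 = 0 ∧ g 2 1 = 0 ∧ g 0 0 = 1 ∧ g 1 1 = 1 ∧ g 2 2 = 1
  | 2, g => g 1 0 = 0 ∧ g 2 0 = 0 ∧ g 2 1 = 0 ∧ g 0 0 = 1 ∧ g 1 1 = 1 ∧ g 2 2 = 1 ∧ g 0 1 = 0 ∧ g 1 2 = 0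
  | _, g => g = 1

theorem lev_zero_of_commute {g : Matrix (Fin 3) (Fin 3) F}
    (h : g * Matrix.single 0 2 1 = Matrix.single 0 2 1 * g) : Lev 0 g := by
  have e := fun a b => congrFun (congrFun h a) b
  have e1 := e 1 2
  have e2 := e 2 2
  have e3 := e 0 2
  have e4 := e 0 1
  simp [Matrix.mul_apply, Fin.sum_univ_three, Matrix.single_apply] at e1 e2 e3 e4
  exact ⟨e1, e2, by first | exact e4 | exact e4.symm, e3⟩

theorem lev_commutator {n : ℕ} (hn : n < 3) {a b : GL (Fin 3) F} (ha : Lev n (a : Matrix (Fin 3) (Fin 3) F))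
    (hb : Lev n (b : Matrix (Fin 3) (Fin 3) F)) :
    Lev (n + 1) ((a * b * a⁻¹ * b⁻¹ : GL (Fin 3) F) : Matrix (Fin 3) (Fin 3) F) := by
  have hab : ((a * b * a⁻¹ * b⁻¹ : GL (Fin 3) F) : Matrix (Fin 3) (Fin 3) F) *
      ((b : Matrix (Fin 3) (Fin 3) F) * a) = (a : Matrix (Fin 3) (Fin 3) F) * b := by
    rw [← Units.val_mul, ← Units.val_mul, ← Units.val_mul]
    congr 1
    group
  set K := ((a * b * a⁻¹ * b⁻¹ : GL (Fin 3) F) : Matrix (Fin 3) (Fin 3) F)
  have e := fun p q => congrFun (congrFun hab p) q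
  have hdet : ∀ g : GL (Fin 3) F, (g : Matrix (Fin 3) (Fin 3) F) 1 0 = 0 → (g : Matrix (Fin 3) (Fin 3) F) 2 0 = 0 →
      (g : Matrix (Fin 3) (Fin 3) F) 2 1 = 0 → (g : Matrix (Fin 3) (Fin 3) F) 0 0 ≠ 0 ∧
      (g : Matrix (Fin 3) (Fin 3) F) 1 1 ≠ 0 ∧ (g : Matrix (Fin 3) (Fin 3) F) 2 2 ≠ 0 := by
    intro g h1 h2 h3
    have hu : (g : Matrix (Fin 3) (Fin 3) F).det ≠ 0 :=
      ((Matrix.isUnit_iff_isUnit_det _).1 g.isUnit).ne_zero
    rw [Matrix.det_fin_three, h1, h2, h3] at hu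
    refine ⟨fun h => hu ?_, fun h => hu ?_, fun h => hu ?_⟩ <;> simp [h]
  have e00 := e 0 0; have e01 := e 0 1; have e02 := e 0 2
  have e10 := e 1 0; have e11 := e 1 1; have e12 := e 1 2
  have e20 := e 2 0; have e21 := e 2 1; have e22 := e 2 2
  simp only [Matrix.mul_apply, Fin.sum_univ_three] at e00 e01 e02 e10 e11 e12 e20 e21 e22
  interval_cases n
  · obtain ⟨a1, a2, a3, a4⟩ := ha
    obtain ⟨b1, b2, b3, b4⟩ := hb
    obtain ⟨u0, u1, u2⟩ := hdet a a1 a2 a3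
    obtain ⟨w0, w1, w2⟩ := hdet b b1 b2 b3
    simp only [a1, a2, a3, b1, b2, b3, mul_zero, zero_mul, add_zero, zero_add] at e00 e01 e02 e10 e11 e12 e20 e21 e22
    have k0 := mul_ne_zero w0 u0
    have k1 := mul_ne_zero w1 u1
    have k2 := mul_ne_zero w2 u2
    have K10 : K 1 0 = 0 := (mul_eq_zero.1 e10).resolve_right k0
    have K20 : K 2 0 = 0 := (mul_eq_zero.1 e20).resolve_right k0
    have K00 : K 0 0 = 1 := mul_right_cancel₀ k0 (by rw [e00, one_mul, mul_comm])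
    simp only [K10, K20, zero_mul, zero_add] at e11 e12 e21 e22
    have K21 : K 2 1 = 0 := (mul_eq_zero.1 e21).resolve_right k1
    have K11 : K 1 1 = 1 := mul_right_cancel₀ k1 (by rw [e11, one_mul, mul_comm])
    simp only [K21, zero_mul, zero_add] at e22
    have K22 : K 2 2 = 1 := mul_right_cancel₀ k2 (by rw [e22, one_mul, mul_comm])
    exact ⟨K10, K20, K21, K00, K11, K22⟩
  · obtain ⟨a1, a2, a3, a4, a5, a6⟩ := ha
    obtain ⟨b1, b2, b3, b4, b5, b6⟩ := hb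
    simp only [a1, a2, a3, a4, a5, a6, b1, b2, b3, b4, b5, b6, mul_zero, zero_mul, add_zero, zero_add, one_mul,
      mul_one] at e00 e01 e02 e10 e11 e12 e20 e21 e22
    simp only [e10, e20, zero_mul, zero_add] at e11 e12 e21 e22
    simp only [e21, zero_mul, zero_add] at e22
    simp only [e00, e11, e22, one_mul] at e01 e12
    refine ⟨e10, e20, e21, e00, e11, e22, ?_, ?_⟩
    · linear_combination e01
    · linear_combination e12
  · obtain ⟨a1, a2, a3, a4, a5, a6, a7, a8⟩ := ha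
    obtain ⟨b1, b2, b3, b4, b5, b6, b7, b8⟩ := hb
    simp only [a1, a2, a3, a4, a5, a6, a7, a8, b1, b2, b3, b4, b5, b6, b7, b8, mul_zero, zero_mul, add_zero,
      zero_add, one_mul, mul_one] at e00 e01 e02 e10 e11 e12 e20 e21 e22
    simp only [e00, e01, e10, e11, e20, e21, zero_mul, zero_add, one_mul] at e02 e12 e22
    show K = 1
    ext p q
    fin_cases p <;> fin_cases q <;>
      first
      | simpa using e00 | simpa using e01 | simpa using e10 | simpa using e11 | simpa using e12 | simpa using e20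
      | simpa using e21 | simpa using e22
      | (simp; linear_combination e02)

end CfsgLib.Geo.TensorWreath
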