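/-
Roots are weakly closed.
-/
import Cfsg.Agent.Lib.Geo.TensorWreath.Ctx
import Cfsg.Agent.Lib.Geo.TensorWreath.Conj
import Cfsg.Agent.Lib.Geo.TensorWreath.Levels
import Mathlib.LinearAlgebra.Matrix.Charpoly.Coeff

set_option autoImplicit false

namespace CfsgLib.Geo.TensorWreath

open Matrix CfsgLib.Geo.SpinTensor

variable {F : Type*} [Field F]

theorem emb_eq_pure {t m : ℕ} (i : Fin t) (X : Matrix (Fin m) (Fin m) F) :
    emb i X = SpinTensor.pure (Function.update (fun _ => 1) i X) := rfl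

/-- A transvection of degree three. -/
def tv {p q : Fin 3} (h : p ≠ q) : GL (Fin 3) F :=
  ⟨1 + Matrix.single p q 1, 1 - Matrix.single p q 1, by
    rw [mul_sub, mul_one, add_mul, one_mul, Matrix.single_mul_single_of_ne _ _ _ _ h.symm _]; abel, by
    rw [mul_add, mul_one, sub_mul, one_mul, Matrix.single_mul_single_of_ne _ _ _ _ h.symm _]; abel⟩

theorem det_tv {p q : Fin 3} (h : p ≠ q) : (tv (F := F) h : Matrix (Fin 3) (Fin 3) F).det = 1 :=
  Matrix.det_transvection_of_ne p q h 1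

theorem tv_commutator {p r q : Fin 3} (hpr : p ≠ r) (hrq : r ≠ q) (hpq : p ≠ q) :
    tv (F := F) hpr * tv hrq * (tv hpr)⁻¹ * (tv hrq)⁻¹ = tv hpq := by
  refine Units.ext ?_
  show (1 + Matrix.single p r (1 : F)) * (1 + Matrix.single r q 1) * (1 - Matrix.single p r 1) *
    (1 - Matrix.single r q 1) = 1 + Matrix.single p q 1
  simp [add_mul, mul_add, sub_mul, mul_sub, Matrix.single_mul_single_same, hpr.symm, hrq.symm,
    hpq.symm, hpr, hrq, hpq]
  abel

theorem cube_eq_zero {N : Matrix (Fin 3) (Fin 3) F} (h : N ^ 4 = 0) : N ^ 3 = 0 := by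
  have h1 : N.charpoly = Polynomial.X ^ 3 := by
    simpa [sub_eq_zero] using (Matrix.isNilpotent_charpoly_sub_pow_of_isNilpotent ⟨4, h⟩).eq_zero
  have h2 := N.aeval_self_charpoly
  rwa [h1, map_pow, Polynomial.aeval_X] at h2

section swap3

variable [CharP F 2] {X : Subgroup (GL (Fin (1 + 1) → Fin 3) F)}

/-- The diagonal embedding. -/
def diagHom (m t : ℕ) (F : Type*) [Field F] : GL (Fin m) F →* GL (Fin t → Fin m) F where
  toFun u := pureGL fun _ => u
  map_one' := pureGL_one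
  map_mul' u v := (pureGL_mul (fun _ => u) fun _ => v).symm

omit [CharP F 2] in
theorem det_diagHom {m : ℕ} (u : GL (Fin m) F) (hu : (u : Matrix (Fin m) (Fin m) F).det = 1) :
    diagHom m (1 + 1) F u ∈ Cfsg.Geo.specialLinear (Fin (1 + 1) → Fin m) F := by
  have h := fun i : Fin (1 + 1) => det_pureGL_update (F := F) i u hu
  have e : diagHom m (1 + 1) F u = pureGL (Function.update (fun _ => 1) (0 : Fin (1 + 1)) u) *
      pureGL (Function.update (fun _ => 1) (1 : Fin (1 + 1)) u) := by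
    rw [pureGL_mul]
    refine congrArg pureGL (funext fun i => ?_)
    fin_cases i <;> simp
  rw [e]
  exact Subgroup.mul_mem _ (h 0) (h 1)

/-- The diagonal element used against a swap of two factors of degree three. -/
theorem diag_cube_ne_zero :
    ((diagHom 3 (1 + 1) F (tv (p := 0) (q := 1) (by decide) * tv (p := 1) (q := 2) (by decide)) :
        Matrix (Fin (1 + 1) → Fin 3) (Fin (1 + 1) → Fin 3) F) - 1) ^ 4 = 0 ∧
    ((diagHom 3 (1 + 1) F (tv (p := 0) (q := 1) (by decide) * tv (p := 1) (q := 2) (by decide)) :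
        Matrix (Fin (1 + 1) → Fin 3) (Fin (1 + 1) → Fin 3) F) - 1) ^ 3 ≠ 0 := by
  classical
  set u := tv (F := F) (p := (0 : Fin 3)) (q := 1) (by decide) * tv (p := 1) (q := 2) (by decide)
  set N : Matrix (Fin 3) (Fin 3) F := !![0, 1, 1; 0, 0, 1; 0, 0, 0]
  have hu : (u : Matrix (Fin 3) (Fin 3) F) = 1 + N := by
    show (1 + Matrix.single 0 1 (1 : F)) * (1 + Matrix.single 1 2 1) = _
    ext a b
    fin_cases a <;> fin_cases b <;> simp [N, Matrix.mul_apply, Fin.sum_univ_three, Matrix.single_apply]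
  set A : Matrix (Fin (1 + 1) → Fin 3) (Fin (1 + 1) → Fin 3) F := emb 0 N
  set B : Matrix (Fin (1 + 1) → Fin 3) (Fin (1 + 1) → Fin 3) F := emb 1 N
  have hD : (diagHom 3 (1 + 1) F u : Matrix (Fin (1 + 1) → Fin 3) (Fin (1 + 1) → Fin 3) F) = (1 + A) * (1 + B) := by
    have e0 : (1 + A) = emb 0 (1 + N) := by rw [map_add, emb_one]
    have e1 : (1 + B) = emb 1 (1 + N) := by rw [map_add, emb_one]
    rw [e0, e1, ← hu]
    rw [emb_eq_pure, emb_eq_pure, pure_mul]
    show SpinTensor.pure (fun _ : Fin (1 + 1) => (u : Matrix (Fin 3) (Fin 3) F)) = _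
    congr 1
    funext i
    fin_cases i <;> simp
  have hN3 : N * N * N = 0 := by
    ext a b
    fin_cases a <;> fin_cases b <;> simp [N, Matrix.mul_apply, Fin.sum_univ_three]
  have hA : A ^ 3 = 0 := by rw [pow_three', emb_mul_emb, emb_mul_emb, hN3, map_zero]
  have hB : B ^ 3 = 0 := by rw [pow_three', emb_mul_emb, emb_mul_emb, hN3, map_zero]
  have hAB : Commute A B := by
    show SpinTensor.pure _ * SpinTensor.pure _ = SpinTensor.pure _ * SpinTensor.pure _
    rw [pure_mul, pure_mul]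
    congr 1
    funext i
    fin_cases i <;> simp
  set R := (1 + A) * (1 + B) - 1
  have hR : R = A + B + A * B := by simp only [R, add_mul, mul_add, one_mul, mul_one]; abel
  have hR2 : R ^ 2 = A ^ 2 + B ^ 2 + A ^ 2 * B ^ 2 := by
    have h2 : ∀ Y : Matrix (Fin (1 + 1) → Fin 3) (Fin (1 + 1) → Fin 3) F, Y + Y = 0 := fun Y => by
      ext a b; exact CharTwo.add_self_eq_zero _
    rw [hR, pow_two]
    have h' : B * A = A * B := hAB.symm.eq
    have : (A + B + A * B) * (A + B + A * B) = A * A + B * B + A * A * (B * B) + (A * B + A * B) +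
        (A * A * B + A * A * B) + (A * B * B + A * B * B) := by
      simp only [add_mul, mul_add, mul_assoc, h', hAB.symm.left_comm]
      abel
    rw [this, h2, h2, h2, ← pow_two, ← pow_two]
    abel
  have hR3 : R ^ 3 = A ^ 2 * B + A * B ^ 2 := by
    rw [pow_succ, hR2, hR]
    have hA' : A ^ 2 * A = 0 := by rw [← pow_succ]; exact hA
    have hB' : B ^ 2 * B = 0 := by rw [← pow_succ]; exact hB
    have hc : B ^ 2 * A = A * B ^ 2 := (hAB.symm.pow_left 2).eq
    have h2 : ∀ Y : Matrix (Fin (1 + 1) → Fin 3) (Fin (1 + 1) → Fin 3) F, Y + Y = 0 := fun Y => by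
      ext a b; exact CharTwo.add_self_eq_zero _
    simp only [add_mul, mul_add, mul_assoc, hB', hc, ← mul_assoc (A ^ 2) A, hA', zero_mul, mul_zero,
      ← mul_assoc (B ^ 2) A B, add_zero, zero_add]
    abel
  have hR4 : R ^ 4 = 0 := by
    rw [pow_succ, hR3, hR]
    have hA' : A ^ 2 * A = 0 := by rw [← pow_succ]; exact hA
    have hB' : B ^ 2 * B = 0 := by rw [← pow_succ]; exact hB
    have h2 : ∀ Y : Matrix (Fin (1 + 1) → Fin 3) (Fin (1 + 1) → Fin 3) F, Y + Y = 0 := fun Y => by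
      ext a b; exact CharTwo.add_self_eq_zero _
    have hc : B ^ 2 * A = A * B ^ 2 := (hAB.symm.pow_left 2).eq
    have hc' : B * A = A * B := hAB.symm.eq
    simp only [add_mul, mul_add, mul_assoc, hB', hc, hc', ← mul_assoc (A ^ 2) A, hA', zero_mul, mul_zero,
      add_zero, zero_add, ← mul_assoc (B ^ 2) A B, ← mul_assoc B A]
    simp only [← mul_assoc, ← pow_two, mul_assoc (A ^ 2), mul_assoc A B B, h2]
  refine ⟨by rw [hD]; exact hR4, fun h => ?_⟩
  rw [hD, show (1 + A) * (1 + B) - 1 = R from rfl, hR3, pow_two, pow_two, emb_mul_emb, emb_mul_emb] at h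
  have h' := congrFun (congrFun h ![(0 : Fin 3), 1]) ![(2 : Fin 3), 2]
  simp [A, B, N, Matrix.mul_apply, emb_apply, Fin.forall_fin_two, Fintype.sum_prod_type, Fin.sum_univ_three,
    ← (piFinTwoEquiv fun _ : Fin (1 + 1) => Fin 3).symm.sum_comp] at h'

omit [CharP F 2] in
theorem exists_frame {v φ : Fin 3 → F} (h : φ ⬝ᵥ v = 0) (hv : v ≠ 0) (hφ : φ ≠ 0) :
    ∃ G : GL (Fin 3) F, Matrix.vecMulVec v φ * (G : Matrix (Fin 3) (Fin 3) F) =
      (G : Matrix (Fin 3) (Fin 3) F) * Matrix.single 0 2 1 := by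
  obtain ⟨χ, hχ⟩ := exists_dual_one hv
  obtain ⟨w, hw0, hw⟩ := TensorLinear.exists_perp ![φ, χ] (show 2 < Fintype.card (Fin 3) by simp)
  obtain ⟨z, hz⟩ := TensorLinear.exists_dual hφ
  rw [dotProduct_comm] at hz
  have hφw : φ ⬝ᵥ w = 0 := by rw [dotProduct_comm]; exact hw 0
  have hχw : χ ⬝ᵥ w = 0 := by rw [dotProduct_comm]; exact hw 1
  set M : Matrix (Fin 3) (Fin 3) F := Matrix.of fun a b => ![v, w, z] b a
  have hMx : ∀ c : Fin 3 → F, M *ᵥ c = c 0 • v + c 1 • w + c 2 • z := fun c => by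
    funext a
    simp [M, Matrix.mulVec, dotProduct, Fin.sum_univ_three]
    ring
  have hdet : M.det ≠ 0 := by
    intro hd
    obtain ⟨c, hc0, hc⟩ := Matrix.exists_mulVec_eq_zero_iff.2 hd
    rw [hMx] at hc
    have h1 := congrArg (φ ⬝ᵥ ·) hc
    simp [dotProduct_add, dotProduct_smul, h, hφw, hz] at h1
    have h2 := congrArg (χ ⬝ᵥ ·) hc
    simp [dotProduct_add, dotProduct_smul, hχ, hχw, h1] at h2
    rw [h1, h2, zero_smul, zero_smul, zero_add, add_zero] at hc
    have h3 := (smul_eq_zero.1 hc).resolve_right hw0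
    exact hc0 (funext fun a => by fin_cases a <;> assumption)
  refine ⟨Matrix.GeneralLinearGroup.mkOfDetNeZero M hdet, ?_⟩
  show Matrix.vecMulVec v φ * M = M * _
  ext a b
  rw [Matrix.vecMulVec_mul, Matrix.vecMulVec_apply]
  have hb : (φ ᵥ* M) b = φ ⬝ᵥ ![v, w, z] b := rfl
  rw [hb]
  fin_cases b <;> simp [M, Matrix.mul_apply, Fin.sum_univ_three, h, hφw, hz, Matrix.single_apply]

/-- No conjugate of a root by the group is a swap of two factors of degree three. -/
theorem not_swap_two (C : Ctx X) {r y : GL (Fin (1 + 1) → Fin 3) F} (hr : IsRoot r) (hy : y ∈ X)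
    {j k : Fin (1 + 1)} (h : Fin (1 + 1) → GL (Fin 3) F) {π : Equiv.Perm (Fin (1 + 1))} (_hjk : j ≠ k)
    (hx : y * r * y⁻¹ = pureGL h * permGL 3 F π * (pureGL h)⁻¹) : False := by
  classical
  set Ψ : GL (Fin 3) F →* GL (Fin (1 + 1) → Fin 3) F :=
    (MulAut.conj (y⁻¹ * pureGL h)).toMonoidHom.comp (diagHom 3 (1 + 1) F)
  have hΨ : ∀ u, Ψ u = y⁻¹ * (pureGL h * diagHom 3 (1 + 1) F u * (pureGL h)⁻¹) * y := fun u => by
    show y⁻¹ * pureGL h * _ * (y⁻¹ * pureGL h)⁻¹ = _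
    group
  obtain ⟨i, v, φ, hφv, hv, hφ, er⟩ := hr
  have er' : r = rootGL i v φ hφv := Units.ext er
  obtain ⟨G, hG⟩ := exists_frame hφv hv hφ
  have hstd : ∀ u : GL (Fin 3) F, (u : Matrix (Fin 3) (Fin 3) F).det = 1 → ∃ gs : Fin (1 + 1) → GL (Fin 3) F,
      Ψ u = pureGL gs ∧ Lev 0 ((G⁻¹ * gs i * G : GL (Fin 3) F) : Matrix (Fin 3) (Fin 3) F) := by
    intro u hu
    have hmem : Ψ u ∈ X := by
      rw [hΨ]
      refine X.mul_mem (X.mul_mem (X.inv_mem hy) (C.base _ ?_ ?_)) hy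
      · exact ((isStd_pureGL _).mul (isStd_pureGL _)).mul (isStd_pureGL _).inv
      · exact Subgroup.Normal.conj_mem (MonoidHom.normal_ker _) _ (det_diagHom u hu) _
    have hfix : Ψ u * r * (Ψ u)⁻¹ = r := by
      have hc : diagHom 3 (1 + 1) F u * permGL 3 F π * (diagHom 3 (1 + 1) F u)⁻¹ = permGL 3 F π := by
        rw [mul_inv_eq_iff_eq_mul]
        exact (permGL_mul_pureGL π fun _ => u).symm
      have hr' : r = y⁻¹ * (pureGL h * permGL 3 F π * (pureGL h)⁻¹) * y := by rw [← hx]; group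
      calc Ψ u * r * (Ψ u)⁻¹ = y⁻¹ * pureGL h * (diagHom 3 (1 + 1) F u * permGL 3 F π *
            (diagHom 3 (1 + 1) F u)⁻¹) * (pureGL h)⁻¹ * y := by rw [hΨ, hr']; group
        _ = r := by rw [hc, hr']; group
    obtain ⟨gs, ρ, e⟩ := C.root_map _ hmem r ⟨i, v, φ, hφv, hv, hφ, er⟩ (by
      rw [hfix]; exact ⟨i, v, φ, hφv, hv, hφ, er⟩)
    rw [er', conj_rootGL e hφv] at hfix
    obtain ⟨hi, hvec⟩ := rootMat_eq (le_refl 3) hφv hv hφ (congrArg Units.val hfix).symm
    have hρ : ρ = 1 := by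
      refine Equiv.ext fun l => ?_
      by_cases hl : l = i
      · rw [hl, ← hi, Equiv.Perm.one_apply]
      · by_contra hne
        have h1 : ρ l ≠ i := fun e' => hl (ρ.injective (e'.trans hi))
        rw [Equiv.Perm.one_apply] at hne
        omega
    refine ⟨gs, Units.ext (by rw [e, hρ, perm_one, mul_one]; rfl), ?_⟩
    rw [← hi, ← Matrix.vecMulVec_mul, ← Matrix.mul_vecMulVec] at hvec
    refine lev_zero_of_commute ?_
    have hcomm : (gs i : Matrix (Fin 3) (Fin 3) F) * Matrix.vecMulVec v φ =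
        Matrix.vecMulVec v φ * (gs i : Matrix (Fin 3) (Fin 3) F) := by
      conv_rhs => rw [hvec, mul_assoc, Units.inv_mul, mul_one]
    have hG' : Matrix.single 0 2 1 = ((G⁻¹ : GL (Fin 3) F) : Matrix (Fin 3) (Fin 3) F) *
        (Matrix.vecMulVec v φ * (G : Matrix (Fin 3) (Fin 3) F)) := by
      rw [hG, ← mul_assoc, Units.inv_mul, one_mul]
    rw [Units.val_mul, Units.val_mul, hG']
    simp only [mul_assoc]
    rw [← mul_assoc (G : Matrix (Fin 3) (Fin 3) F) _ (_ * _), Units.mul_inv, one_mul,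
      ← mul_assoc (G : Matrix (Fin 3) (Fin 3) F) _ (_ * _), Units.mul_inv, one_mul,
      ← mul_assoc (gs i : Matrix (Fin 3) (Fin 3) F), hcomm, mul_assoc]
  have hlev : ∀ n, n ≤ 3 → ∀ (p q : Fin 3) (hpq : p ≠ q), ∃ gs : Fin (1 + 1) → GL (Fin 3) F,
      Ψ (tv hpq) = pureGL gs ∧ Lev n ((G⁻¹ * gs i * G : GL (Fin 3) F) : Matrix (Fin 3) (Fin 3) F) := by
    intro n
    induction n with
    | zero => exact fun _ p q hpq => hstd _ (det_tv hpq)
    | succ n ih =>
      intro hn p q hpq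
      obtain ⟨o, ho1, ho2⟩ := exists_third (le_refl 3) p q
      obtain ⟨as, ea, la⟩ := ih (by omega) p o ho1.symm
      obtain ⟨bs, eb, lb⟩ := ih (by omega) o q ho2
      refine ⟨as * bs * as⁻¹ * bs⁻¹, ?_, ?_⟩
      · rw [← tv_commutator ho1.symm ho2 hpq, map_mul, map_mul, map_mul, map_inv, map_inv, ea, eb, pureGL_inv,
          pureGL_inv, pureGL_mul, pureGL_mul, pureGL_mul]
      · rw [show G⁻¹ * (as * bs * as⁻¹ * bs⁻¹) i * G = (G⁻¹ * as i * G) * (G⁻¹ * bs i * G) * (G⁻¹ * as i * G)⁻¹ *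
          (G⁻¹ * bs i * G)⁻¹ by simp only [Pi.mul_apply, Pi.inv_apply]; group]
        exact lev_commutator (by omega) la lb
  obtain ⟨as, ea, la⟩ := hlev 3 le_rfl 0 1 (by decide)
  obtain ⟨bs, eb, lb⟩ := hlev 3 le_rfl 1 2 (by decide)
  have hi1 : ∀ gs : Fin (1 + 1) → GL (Fin 3) F, Lev 3 ((G⁻¹ * gs i * G : GL (Fin 3) F) : Matrix (Fin 3) (Fin 3) F) →
      gs i = 1 := by
    intro gs hgs
    have h1 : G⁻¹ * gs i * G = 1 := Units.ext hgs
    rw [show gs i = G * (G⁻¹ * gs i * G) * G⁻¹ by group, h1]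
    group
  set u0 := tv (F := F) (p := (0 : Fin 3)) (q := 1) (by decide) * tv (p := 1) (q := 2) (by decide)
  have eu : Ψ u0 = pureGL (as * bs) := by rw [map_mul, ea, eb, pureGL_mul]
  obtain ⟨i', hi'⟩ : ∃ i' : Fin (1 + 1), i' ≠ i := exists_ne i
  have hemb : (Ψ u0 : Matrix (Fin (1 + 1) → Fin 3) (Fin (1 + 1) → Fin 3) F) =
      emb i' ((as * bs) i' : Matrix (Fin 3) (Fin 3) F) := by
    rw [eu, emb_eq_pure]
    show SpinTensor.pure (fun l => (((as * bs) l : GL (Fin 3) F) : Matrix (Fin 3) (Fin 3) F)) = _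
    congr 1
    funext l
    by_cases hl : l = i'
    · subst hl; simp
    · obtain rfl : l = i := by omega
      rw [Function.update_of_ne hl, Pi.mul_apply, hi1 as la, hi1 bs lb, mul_one, Units.val_one]
  set Bm := ((as * bs) i' : Matrix (Fin 3) (Fin 3) F) - 1
  set Z := y⁻¹ * pureGL h
  have hconj : emb i' Bm = (Z : Matrix (Fin (1 + 1) → Fin 3) (Fin (1 + 1) → Fin 3) F) *
      ((diagHom 3 (1 + 1) F u0 : Matrix (Fin (1 + 1) → Fin 3) (Fin (1 + 1) → Fin 3) F) - 1) *
      ((Z⁻¹ : GL (Fin (1 + 1) → Fin 3) F) : Matrix (Fin (1 + 1) → Fin 3) (Fin (1 + 1) → Fin 3) F) := by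
    rw [map_sub, emb_one, ← hemb, mul_sub, mul_one, sub_mul, Units.mul_inv, ← Units.val_mul, ← Units.val_mul]
    rfl
  have hpow : ∀ n, emb i' (Bm ^ n) = (Z : Matrix (Fin (1 + 1) → Fin 3) (Fin (1 + 1) → Fin 3) F) *
      ((diagHom 3 (1 + 1) F u0 : Matrix (Fin (1 + 1) → Fin 3) (Fin (1 + 1) → Fin 3) F) - 1) ^ n *
      ((Z⁻¹ : GL (Fin (1 + 1) → Fin 3) F) : Matrix (Fin (1 + 1) → Fin 3) (Fin (1 + 1) → Fin 3) F) := by
    intro n
    rw [← Units.conj_pow, ← hconj]
    induction n with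
    | zero => simp [emb_one]
    | succ n ih => rw [pow_succ, pow_succ, ← ih, emb_mul_emb]
  obtain ⟨h4, h3⟩ := diag_cube_ne_zero (F := F)
  have hB4 : Bm ^ 4 = 0 := emb_injective le_rfl i' (by rw [hpow, h4, mul_zero, zero_mul, map_zero])
  have h5 := hpow 3
  rw [cube_eq_zero hB4, map_zero] at h5
  refine h3 ?_
  have h6 := congrArg (fun M => ((Z⁻¹ : GL (Fin (1 + 1) → Fin 3) F) : Matrix _ _ F) * M * (Z : Matrix _ _ F)) h5
  simp only [mul_zero, zero_mul, mul_assoc, Units.inv_mul, mul_one] at h6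
  rw [← mul_assoc, Units.inv_mul, one_mul] at h6
  exact h6.symm

end swap3

variable {t m : ℕ} {X : Subgroup (GL (Fin (t + 1) → Fin m) F)}

/-- A standard conjugate of a root by the group is a root. -/
theorem isRoot_of_conj (C : Ctx X) {r y : GL (Fin (t + 1) → Fin m) F} (hr : IsRoot r) (hy : y ∈ X)
    (hx : IsStd (y * r * y⁻¹)) : IsRoot (y * r * y⁻¹) := by
  classical
  obtain ⟨π, hπ⟩ := hx.hasPerm
  rcases eq_or_ne (2 : F) 0 with h2 | h2
  swap
  · obtain ⟨gs, e⟩ := hπ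
    obtain rfl := perm_eq_one_of_sq C.three h2 (conj_sub_sq hr) e
    exact isRoot_of_conj_pure C.three hr ⟨gs, e⟩
  haveI : CharP F 2 := CharTwo.of_one_ne_zero_of_two_eq_zero one_ne_zero h2
  rcases conj_cases C.three hr hx with h | ⟨rfl, j, k, h, hjk, e⟩
  · exact h
  by_contra hno
  rcases Nat.lt_or_ge t 2 with ht | ht
  · obtain rfl : t = 1 := by have := C.two; omega
    exact not_swap_two C hr hy h hjk e
  obtain ⟨l, -, hl⟩ := Finset.exists_mem_notMem_of_card_lt_card (s := ({j, k} : Finset (Fin (t + 1))))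
    (t := Finset.univ) (lt_of_le_of_lt Finset.card_le_two (by rw [Finset.card_univ, Fintype.card_fin]; omega))
  simp only [Finset.mem_insert, Finset.mem_singleton, not_or] at hl
  have key : ∀ φ : Fin 3 → F, φ ≠ 0 → ∀ hφ : φ ⬝ᵥ Pi.single 0 1 = 0,
      ∃ a b : Fin (t + 1), a ≠ b ∧
        HasPerm (y⁻¹ * (pureGL h * rootGL l (Pi.single 0 1) φ hφ * (pureGL h)⁻¹) * y) (Equiv.swap a b) := by
    intro φ hφ0 hφ
    set E := rootGL l (Pi.single 0 1) φ hφ
    have hE : IsRoot E := isRoot_rootGL hφ (Function.ne_iff.2 ⟨0, by simp⟩) hφ0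
    set e' := pureGL h * E * (pureGL h)⁻¹
    have hE' : IsRoot e' := hE.conj (isStd_pureGL h)
    set f := y⁻¹ * e' * y
    have hfX : f ∈ X := X.mul_mem (X.mul_mem (X.inv_mem hy) (C.base _ hE'.isStd hE'.mem_sl)) hy
    have hcomm : E * permGL 3 F (Equiv.swap j k) * E⁻¹ = permGL 3 F (Equiv.swap j k) := by
      rw [mul_inv_eq_iff_eq_mul]
      have hc := conj_emb (g := permGL 3 F (Equiv.swap j k)) (gs := fun _ => 1) (π := Equiv.swap j k)
        (by simp only [Units.val_one]; rw [pure_one, one_mul]; rfl) l (Matrix.vecMulVec (Pi.single 0 1) φ)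
      rw [Equiv.swap_apply_of_ne_of_ne hl.1 hl.2] at hc
      simp only [inv_one, Units.val_one, one_mul, mul_one] at hc
      refine Units.ext ?_
      rw [Units.val_mul, Units.val_mul, rootGL_val, rootMat, mul_add, mul_one, add_mul, one_mul, hc]
    have hfix : f * r * f⁻¹ = r := by
      have hr' : r = y⁻¹ * (pureGL h * permGL 3 F (Equiv.swap j k) * (pureGL h)⁻¹) * y := by rw [← e]; group
      calc f * r * f⁻¹ = y⁻¹ * pureGL h * (E * permGL 3 F (Equiv.swap j k) * E⁻¹) * (pureGL h)⁻¹ * y := by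
            simp only [f, e']; rw [hr']; group
        _ = r := by rw [hcomm, hr']; group
    have hfs : IsStd f := C.root_map f hfX r hr (by rw [hfix]; exact hr)
    have hf' : f = y⁻¹ * e' * y⁻¹⁻¹ := by rw [inv_inv]
    rw [hf'] at hfs
    rcases conj_cases C.three hE' hfs with hfr | ⟨-, a, b, g, hab, eg⟩
    · rw [← hf'] at hfr
      have hys := C.root_map y hy f hfr (by
        rw [show y * f * y⁻¹ = e' by simp only [f]; group]; exact hE')
      exact absurd (hr.conj hys) hno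
    · refine ⟨a, b, hab, ?_⟩
      show HasPerm f _
      rw [hf', eg]
      have := ((hasPerm_pureGL g).mul (hasPerm_permGL (F := F) (m := 3) (Equiv.swap a b))).mul (hasPerm_pureGL g).inv
      rwa [one_mul, inv_one, mul_one] at this
  have d1 : (Pi.single 1 1 : Fin 3 → F) ⬝ᵥ Pi.single 0 1 = 0 := by simp
  have d2 : (Pi.single 2 1 : Fin 3 → F) ⬝ᵥ Pi.single 0 1 = 0 := by simp
  have d3 : (Pi.single 1 1 + Pi.single 2 1 : Fin 3 → F) ⬝ᵥ Pi.single 0 1 = 0 := by simp [add_dotProduct]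
  obtain ⟨a1, b1, h1, p1⟩ := key _ (Function.ne_iff.2 ⟨1, by simp⟩) d1
  obtain ⟨a2, b2, h2', p2⟩ := key _ (Function.ne_iff.2 ⟨2, by simp⟩) d2
  obtain ⟨a3, b3, h3, p3⟩ := key _ (Function.ne_iff.2 ⟨1, by simp⟩) d3
  have hmul : rootGL l (Pi.single 0 1) (Pi.single 1 1) d1 * rootGL l (Pi.single 0 1) (Pi.single 2 1) d2 =
      rootGL l (Pi.single 0 1) (Pi.single 1 1 + Pi.single 2 1 : Fin 3 → F) d3 := by
    refine Units.ext ?_
    rw [Units.val_mul, rootGL_val, rootGL_val, rootGL_val, rootMat, rootMat, rootMat, Matrix.vecMulVec_add,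
      map_add, mul_add, mul_one, add_mul, one_mul, emb_mul_emb, Matrix.vecMulVec_mul_vecMulVec, d1]
    simp only [zero_smul, Matrix.vecMulVec_zero, map_zero, add_zero]
    abel
  have p12 := p1.mul p2
  rw [show ∀ E₁ E₂ : GL (Fin (t + 1) → Fin 3) F, y⁻¹ * (pureGL h * E₁ * (pureGL h)⁻¹) * y *
      (y⁻¹ * (pureGL h * E₂ * (pureGL h)⁻¹) * y) = y⁻¹ * (pureGL h * (E₁ * E₂) * (pureGL h)⁻¹) * y from
    fun E₁ E₂ => by group, hmul] at p12
  have := congrArg Equiv.Perm.sign (p12.unique le_rfl p3)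
  rw [map_mul, Equiv.Perm.sign_swap h1, Equiv.Perm.sign_swap h2', Equiv.Perm.sign_swap h3] at this
  exact absurd this (by decide)

/-- An element of the group sending a root to a standard element is standard. -/
theorem isStd_of_conj_root (C : Ctx X) {r y : GL (Fin (t + 1) → Fin m) F} (hr : IsRoot r) (hy : y ∈ X)
    (hx : IsStd (y * r * y⁻¹)) : IsStd y :=
  C.root_map y hy r hr (isRoot_of_conj C hr hy hx)

end CfsgLib.Geo.TensorWreath
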