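/-
Overgroups in odd characteristic.
-/
import Cfsg.Agent.Lib.Geo.TensorWreath.Weak
import Cfsg.Agent.Lib.Geo.TensorWreath.Split2
import Cfsg.Agent.Lib.Geo.TensorWreath.Quadratic
import Cfsg.Agent.Lib.Geo.TensorWreath.OddOrder
import Mathlib.GroupTheory.Nilpotent

set_option autoImplicit false

namespace CfsgLib.Geo.TensorWreath

open Matrix CfsgLib.Geo.SpinTensor
open scoped Kronecker

variable {F : Type*} [Field F] [Fintype F] {t m : ℕ} {X : Subgroup (GL (Fin (t + 1) → Fin m) F)}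

/-- A `p`-group of the overgroup containing a root is standard. -/
theorem std_of_pGroup (C : Ctx X) {p : ℕ} [Fact p.Prime] {P : Subgroup (GL (Fin (t + 1) → Fin m) F)}
    (hP : IsPGroup p P) (hPX : P ≤ X) {r : GL (Fin (t + 1) → Fin m) F} (hr : IsRoot r) (hrP : r ∈ P) :
    ∀ z ∈ P, IsStd z := by
  classical
  haveI := hP.isNilpotent
  set Q := (Cfsg.Geo.tensorWreathStandard m (t + 1) F).subgroupOf P
  by_contra! h
  obtain ⟨z, hzP, hz⟩ := h
  have hQ : Q < ⊤ := lt_top_iff_ne_top.2 fun h => hz (mem_std_iff.1 (by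
    have : (⟨z, hzP⟩ : P) ∈ Q := h ▸ Subgroup.mem_top _
    exact Subgroup.mem_subgroupOf.1 this))
  obtain ⟨w, hw, hwQ⟩ := SetLike.exists_of_lt (normalizerCondition_of_isNilpotent (G := P) Q hQ)
  refine hwQ (Subgroup.mem_subgroupOf.2 (mem_std_iff.2 (isStd_of_conj_root C hr (hPX w.2) ?_)))
  exact mem_std_iff.1 (Subgroup.mem_subgroupOf.1
    ((Subgroup.mem_normalizer_iff.1 hw ⟨r, hrP⟩).1 (Subgroup.mem_subgroupOf.2 (mem_std_iff.2 hr.isStd))))

theorem even_card_of_eigen {n : Type} [Fintype n] [DecidableEq n] {r s : GL n F}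
    {a b : Matrix n n F} (ha : a * a = 0) (hb : b * b = 0) (hr : (r : Matrix n n F) = 1 + a)
    (hs : (s : Matrix n n F) = 1 + b) (hK : ¬ IsNilpotent (a * b + b * a)) :
    2 ∣ Nat.card (Subgroup.closure {r, s} : Subgroup (GL n F)) := by
  classical
  obtain ⟨c, v, hc, hv, hKv⟩ := exists_eigen hK
  set f := algebraMap F (AlgebraicClosure F)
  set a' := a.map f
  set b' := b.map f
  have hmap : ∀ x y : Matrix n n F, (x * y).map f = x.map f * y.map f := fun x y => map_mul f.mapMatrix x y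
  have ha' : a' * a' = 0 := by rw [← hmap, ha]; exact map_zero f.mapMatrix
  have hb' : b' * b' = 0 := by rw [← hmap, hb]; exact map_zero f.mapMatrix
  have hK' : (a' * b' + b' * a') *ᵥ v = c • v := by
    rw [← hKv]; congr 1; rw [← hmap, ← hmap]; exact (map_add f.mapMatrix _ _).symm
  obtain ⟨v, hv, hav, hKv⟩ : ∃ v : n → AlgebraicClosure F, v ≠ 0 ∧ a' *ᵥ v = 0 ∧
      (a' * b' + b' * a') *ᵥ v = c • v := by
    by_cases h : a' *ᵥ v = 0
    · exact ⟨v, hv, h, hK'⟩
    refine ⟨a' *ᵥ v, h, by rw [Matrix.mulVec_mulVec, ha', Matrix.zero_mulVec], ?_⟩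
    rw [Matrix.mulVec_mulVec, ← Matrix.mulVec_smul, ← hK', Matrix.mulVec_mulVec]
    congr 1
    rw [add_mul, mul_add, mul_assoc b', ha', mul_zero, add_zero, ← mul_assoc a' a', ha', zero_mul, zero_add,
      mul_assoc]
  set w := b' *ᵥ v
  have haw : a' *ᵥ w = c • v := by
    rw [← hKv, Matrix.add_mulVec, ← Matrix.mulVec_mulVec, ← Matrix.mulVec_mulVec, hav, Matrix.mulVec_zero, add_zero]
  have hbw : b' *ᵥ w = 0 := by rw [Matrix.mulVec_mulVec, hb', Matrix.zero_mulVec]
  have hnp : ∀ d : AlgebraicClosure F, w ≠ d • v := fun d e => hv (by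
    have := congrArg (a' *ᵥ ·) e
    simp only [haw, Matrix.mulVec_smul, hav, smul_zero] at this
    exact (smul_eq_zero.1 this).resolve_left hc)
  obtain ⟨χ₁, hv1, hw1⟩ := CfsgLib.Geo.exists_functional v w fun hm' => by
    obtain ⟨d, hd⟩ := Submodule.mem_span_singleton.1 hm'
    exact hnp d hd.symm
  have hnp' : ∀ d : AlgebraicClosure F, v ≠ d • w := fun d e => hv (by
    have h1 : a' *ᵥ v = d • (c • v) := by rw [← haw, ← Matrix.mulVec_smul, ← e]
    rw [hav] at h1
    rcases smul_eq_zero.1 h1.symm with h | h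
    · rw [e, h, zero_smul]
    · exact (smul_eq_zero.1 h).resolve_left hc)
  obtain ⟨χ₀, hw0, hv0⟩ := CfsgLib.Geo.exists_functional w v fun hm' => by
    obtain ⟨d, hd⟩ := Submodule.mem_span_singleton.1 hm'
    exact hnp' d hd.symm
  set V : Matrix n (Fin 2) (AlgebraicClosure F) := Matrix.of fun x j => ![v, w] j x
  set W : Matrix (Fin 2) n (AlgebraicClosure F) := Matrix.of fun j x => ![χ₀, χ₁] j x
  have hWV : W * V = 1 := by
    ext i j
    show ![χ₀, χ₁] i ⬝ᵥ ![v, w] j = _
    fin_cases i <;> fin_cases j <;> simp [hv0, hw0, hv1, hw1]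
  have hcol : ∀ (M : Matrix n n (AlgebraicClosure F)) (x : n) (j : Fin 2), (M * V) x j = (M *ᵥ ![v, w] j) x :=
    fun _ _ _ => rfl
  set R₂ : Matrix (Fin 2) (Fin 2) (AlgebraicClosure F) := !![1, c; 0, 1]
  set S₂ : Matrix (Fin 2) (Fin 2) (AlgebraicClosure F) := !![1, 0; 1, 1]
  have hVR : ∀ (M : Matrix (Fin 2) (Fin 2) (AlgebraicClosure F)) (x : n) (j : Fin 2),
      (V * M) x j = v x * M 0 j + w x * M 1 j := fun M x j => by
    simp [V, Matrix.mul_apply, Fin.sum_univ_two]
  have hrV : (1 + a') * V = V * R₂ := by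
    ext x j
    rw [hcol, hVR, Matrix.add_mulVec, Matrix.one_mulVec]
    fin_cases j <;> simp [R₂, hav, haw] <;> ring
  have hrV' : (1 - a') * V = V * (!![1, -c; 0, 1] : Matrix (Fin 2) (Fin 2) (AlgebraicClosure F)) := by
    ext x j
    rw [hcol, hVR, Matrix.sub_mulVec, Matrix.one_mulVec]
    fin_cases j <;> simp [hav, haw] <;> ring
  have hsV : (1 + b') * V = V * S₂ := by
    ext x j
    rw [hcol, hVR, Matrix.add_mulVec, Matrix.one_mulVec]
    fin_cases j <;> simp [S₂, hbw, w] <;> ring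
  have hsV' : (1 - b') * V = V * (!![1, 0; -1, 1] : Matrix (Fin 2) (Fin 2) (AlgebraicClosure F)) := by
    ext x j
    rw [hcol, hVR, Matrix.sub_mulVec, Matrix.one_mulVec]
    fin_cases j <;> simp [hbw, w] <;> ring
  set G0 := (Subgroup.closure {r, s} : Subgroup (GL n F))
  let μ : GL n F →* Matrix n n (AlgebraicClosure F) := f.mapMatrix.toMonoidHom.comp (Units.coeHom _)
  have hμr : μ r = 1 + a' := by
    show (r : Matrix n n F).map f = _
    rw [hr]; exact (map_add f.mapMatrix 1 a).trans (by rw [map_one]; rfl)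
  have hμs : μ s = 1 + b' := by
    show (s : Matrix n n F).map f = _
    rw [hs]; exact (map_add f.mapMatrix 1 b).trans (by rw [map_one]; rfl)
  have hμr' : μ r⁻¹ = 1 - a' :=
    left_inv_eq_right_inv (a := μ r) (by rw [← map_mul, inv_mul_cancel, map_one]) (by
      rw [hμr, mul_sub, mul_one, add_mul, one_mul, ha']; abel)
  have hμs' : μ s⁻¹ = 1 - b' :=
    left_inv_eq_right_inv (a := μ s) (by rw [← map_mul, inv_mul_cancel, map_one]) (by
      rw [hμs, mul_sub, mul_one, add_mul, one_mul, hb']; abel)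
  have hrep : ∀ g ∈ G0, (∃ M : Matrix (Fin 2) (Fin 2) (AlgebraicClosure F), μ g * V = V * M) ∧
      ∃ M : Matrix (Fin 2) (Fin 2) (AlgebraicClosure F), μ g⁻¹ * V = V * M := by
    intro g hg
    induction hg using Subgroup.closure_induction with
    | mem g hg =>
      rcases hg with rfl | rfl
      · exact ⟨⟨_, by rw [hμr]; exact hrV⟩, _, by rw [hμr']; exact hrV'⟩
      · exact ⟨⟨_, by rw [hμs]; exact hsV⟩, _, by rw [hμs']; exact hsV'⟩
    | one => exact ⟨⟨1, by rw [map_one, Matrix.one_mul, Matrix.mul_one]⟩, 1,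
      by rw [inv_one, map_one, Matrix.one_mul, Matrix.mul_one]⟩
    | inv g _ ih => exact ⟨ih.2, by rw [inv_inv]; exact ih.1⟩
    | mul g h _ _ ih ih' =>
      obtain ⟨⟨A, hA⟩, A', hA'⟩ := ih
      obtain ⟨⟨B, hB⟩, B', hB'⟩ := ih'
      refine ⟨⟨A * B, ?_⟩, B' * A', ?_⟩
      · rw [map_mul, Matrix.mul_assoc, hB, ← Matrix.mul_assoc, hA, Matrix.mul_assoc]
      · rw [_root_.mul_inv_rev, map_mul, Matrix.mul_assoc, hA', ← Matrix.mul_assoc, hB', Matrix.mul_assoc]
  let ψ₀ : G0 →* Matrix (Fin 2) (Fin 2) (AlgebraicClosure F) :=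
    { toFun := fun g => W * μ g * V
      map_one' := by rw [Subgroup.coe_one, map_one, Matrix.mul_one, hWV]
      map_mul' := fun g h => by
        obtain ⟨B, hB⟩ := (hrep h h.2).1
        rw [Subgroup.coe_mul, map_mul, Matrix.mul_assoc W (μ h) V, hB, ← Matrix.mul_assoc W V B, hWV,
          Matrix.one_mul, Matrix.mul_assoc W (μ g * μ h), Matrix.mul_assoc (μ g), hB]
        simp only [Matrix.mul_assoc] }
  set ψ := ψ₀.toHomUnits
  set p := ringChar F
  haveI : Fact p.Prime := ⟨CharP.char_is_prime F p⟩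
  haveI : CharP (AlgebraicClosure F) p := charP_of_injective_algebraMap f.injective p
  haveI : Finite G0 := inferInstance
  have hrmem : r ∈ G0 := Subgroup.subset_closure (Set.mem_insert _ _)
  have hsmem : s ∈ G0 := Subgroup.subset_closure (Set.mem_insert_of_mem _ rfl)
  have hclos : ψ.range = Subgroup.closure {ψ ⟨r, hrmem⟩, ψ ⟨s, hsmem⟩} := by
    rw [MonoidHom.range_eq_map, ← Subgroup.closure_closure_coe_preimage (k := ({r, s} : Set (GL n F))),
      MonoidHom.map_closure]
    congr 1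
    ext x
    constructor
    · rintro ⟨⟨g, hg⟩, hg', rfl⟩
      rcases hg' with hg' | hg'
      · left; congr 1; exact Subtype.ext hg'
      · right; rw [Set.mem_singleton_iff]; congr 1; exact Subtype.ext hg'
    · rintro (rfl | rfl)
      · exact ⟨⟨r, hrmem⟩, Or.inl rfl, rfl⟩
      · exact ⟨⟨s, hsmem⟩, Or.inr rfl, rfl⟩
  have hcard : Nat.card ψ.range ∣ Nat.card G0 := Subgroup.card_range_dvd ψ
  by_contra hodd
  have hodd' : Odd (Nat.card ψ.range) := by
    rw [← Nat.not_even_iff_odd, even_iff_two_dvd]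
    exact fun h => hodd (h.trans hcard)
  haveI : Finite ψ.range := Finite.of_surjective _ ψ.rangeRestrict_surjective
  exact even_of_transvections p ψ.range hc (R := ψ ⟨r, hrmem⟩) (S := ψ ⟨s, hsmem⟩)
    (show W * μ r * V = R₂ by rw [hμr, Matrix.mul_assoc, hrV, ← Matrix.mul_assoc, hWV, Matrix.one_mul])
    (show W * μ s * V = S₂ by rw [hμs, Matrix.mul_assoc, hsV, ← Matrix.mul_assoc, hWV, Matrix.one_mul]) hclos hodd'

/-- In odd characteristic every element of the overgroup is standard. -/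
theorem isStd_of_odd (C : Ctx X) (h2 : (2 : F) ≠ 0) {g : GL (Fin (t + 1) → Fin m) F} (hg : g ∈ X) : IsStd g := by
  classical
  by_contra hgs
  haveI : NeZero m := ⟨by have := C.three; omega⟩
  have hm := C.three
  set v : Fin m → F := Pi.single ⟨0, by omega⟩ 1
  set φ : Fin m → F := Pi.single ⟨1, by omega⟩ 1
  have hv : v ≠ 0 := Function.ne_iff.2 ⟨⟨0, by omega⟩, by simp [v]⟩
  have hφ : φ ≠ 0 := Function.ne_iff.2 ⟨⟨1, by omega⟩, by simp [φ]⟩
  have hφv : φ ⬝ᵥ v = 0 := by simp [φ, v, Fin.ext_iff]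
  set i : Fin (t + 1) := 0
  set r := rootGL i v φ hφv
  have hr : IsRoot r := isRoot_rootGL hφv hv hφ
  have hrX : r ∈ X := C.base r hr.isStd hr.mem_sl
  set s := g * r * g⁻¹
  have hsX : s ∈ X := X.mul_mem (X.mul_mem hg hrX) (X.inv_mem hg)
  have hs : ¬ IsStd s := fun h => hgs (isStd_of_conj_root C hr hg h)
  set a := (r : Matrix (Fin (t + 1) → Fin m) (Fin (t + 1) → Fin m) F) - 1
  set b := (s : Matrix (Fin (t + 1) → Fin m) (Fin (t + 1) → Fin m) F) - 1
  have ha : a * a = 0 := hr.mul_self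
  have hb : b * b = 0 := conj_sub_sq hr
  have har : (r : Matrix (Fin (t + 1) → Fin m) (Fin (t + 1) → Fin m) F) = 1 + a := by simp [a]
  have hbs : (s : Matrix (Fin (t + 1) → Fin m) (Fin (t + 1) → Fin m) F) = 1 + b := by simp [b]
  have hGX : Subgroup.closure {r, s} ≤ X := (Subgroup.closure_le X).2 (by
    rintro x (rfl | rfl) <;> assumption)
  set p := ringChar F
  haveI : Fact p.Prime := ⟨CharP.char_is_prime F p⟩
  have hK : ¬ IsNilpotent (a * b + b * a) := fun h => hs (std_of_pGroup C (isPGroup_of_nilpotent ha hb har hbs p h) hGX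
    hr (Subgroup.subset_closure (Set.mem_insert _ _)) s (Subgroup.subset_closure (Set.mem_insert_of_mem _ rfl)))
  haveI : Fact (Nat.Prime 2) := ⟨Nat.prime_two⟩
  obtain ⟨u₀, hu₀⟩ := exists_prime_orderOf_dvd_card' 2 (even_card_of_eigen ha hb har hbs hK)
  set u : GL (Fin (t + 1) → Fin m) F := (u₀ : GL (Fin (t + 1) → Fin m) F)
  have huo : orderOf u = 2 := by rw [← hu₀]; exact Subgroup.orderOf_coe u₀
  have huu : u * u = 1 := by rw [← pow_two, ← huo, pow_orderOf_eq_one]
  have hu1 : u ≠ 1 := fun h => by rw [h, orderOf_one] at huo; omega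
  obtain ⟨P, hP0, hP⟩ := involution_eq ha hb har hbs h2 u₀.2 huu
  have hua : Commute (u : Matrix (Fin (t + 1) → Fin m) (Fin (t + 1) → Fin m) F) a := by
    rw [hP]; exact (commute_inK_left ha P).symm
  have hub : Commute (u : Matrix (Fin (t + 1) → Fin m) (Fin (t + 1) → Fin m) F) b := by
    rw [hP]; exact (commute_inK_right hb P).symm
  have huX : u ∈ X := hGX u₀.2
  have hfix : u * r * u⁻¹ = r := by
    rw [mul_inv_eq_iff_eq_mul]
    refine Units.ext ?_
    rw [Units.val_mul, Units.val_mul, har, mul_add, mul_one, add_mul, one_mul, hua.eq]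
  obtain ⟨A, B, hAB, hBv, hφB⟩ :=
    split_of_fix_root hm (C.root_map u huX r hr (by rw [hfix]; exact hr)) hφv hv hφ hfix
  obtain ⟨Q, hQ⟩ : Polynomial.X ∣ P - 1 := by
    rw [Polynomial.X_dvd_iff, Polynomial.coeff_zero_eq_eval_zero, Polynomial.eval_sub, Polynomial.eval_one, hP0,
      sub_self]
  have hQu : (u : Matrix (Fin (t + 1) → Fin m) (Fin (t + 1) → Fin m) F) - 1 = (a * b + b * a) * inK a b Q := by
    rw [hP, ← map_one (inK a b), ← map_sub, hQ, map_mul, inK_X]
  -- the vectors negated by `u` and killed by `a` are on the line of the root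
  have hD : ∀ (w : (Fin t → Fin m) → F) (x : Fin m → F), φ ⬝ᵥ x = 0 →
      (A ⊗ₖ B) *ᵥ TensorLinear.pt w x = -TensorLinear.pt w x → w ≠ 0 → ∃ d : F, x = d • v := by
    intro w x hφx hux hw
    by_contra! hxv
    obtain ⟨χ, hχv, hχx⟩ := exists_kill_first hxv
    set W : (Fin (t + 1) → Fin m) → F := TensorLinear.pt w x ∘ (sp i).symm
    have hsub : ∀ M : Matrix (Fin (t + 1) → Fin m) (Fin (t + 1) → Fin m) F, ∀ z,
        (M *ᵥ z) ∘ (sp i) = M.submatrix (sp i) (sp i) *ᵥ (z ∘ sp i) := fun M z => by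
      rw [Matrix.submatrix_mulVec_equiv]
      simp [Function.comp_assoc]
    have hWs : W ∘ sp i = TensorLinear.pt w x := by funext q; simp [W]
    have haS : a.submatrix (sp i) (sp i) =
        (TensorLinear.emb (Fin t → Fin m) v : Matrix ((Fin t → Fin m) × Fin m) (Fin t → Fin m) F) *
          (TensorLinear.con (Fin t → Fin m) φ : Matrix (Fin t → Fin m) ((Fin t → Fin m) × Fin m) F) := by
      rw [show a.submatrix (sp i) (sp i) = (rootMat i v φ).submatrix (sp i) (sp i) - 1 from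
        submatrix_sub_one _ (sp i), sub_rootMat, add_sub_cancel_left]
    have hinj : ∀ z z' : (Fin (t + 1) → Fin m) → F, z ∘ sp i = z' ∘ sp i → z = z' :=
      fun z z' h => (sp i).surjective.injective_comp_right h
    have haW : a *ᵥ W = 0 := hinj _ _ (by
      rw [hsub, hWs, haS, ← Matrix.mulVec_mulVec, TensorLinear.con_pt, hφx, zero_smul, Matrix.mulVec_zero]
      rfl)
    have huW : (u : Matrix (Fin (t + 1) → Fin m) (Fin (t + 1) → Fin m) F) *ᵥ W = -W := hinj _ _ (by
      rw [hsub, hWs, ← spGL_val, hAB, hux, ← hWs]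
      rfl)
    have hz : a *ᵥ (b *ᵥ (inK a b Q *ᵥ W)) = (-2 : F) • W := by
      have h1 := congrArg (· *ᵥ W) hQu
      simp only [Matrix.sub_mulVec, Matrix.one_mulVec, ← Matrix.mulVec_mulVec, Matrix.add_mulVec, huW] at h1
      rw [Matrix.mulVec_mulVec W a (inK a b Q), commute_inK_left ha, ← Matrix.mulVec_mulVec, haW, Matrix.mulVec_zero,
        Matrix.mulVec_zero, add_zero] at h1
      rw [← h1]
      module
    have h3 := congrArg (fun z => TensorLinear.con (Fin t → Fin m) χ *ᵥ (z ∘ sp i)) hz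
    rw [hsub, haS, show ((-2 : F) • W) ∘ sp i = (-2 : F) • (W ∘ sp i) from rfl, hWs, Matrix.mulVec_smul,
      TensorLinear.con_pt, hχx, one_smul, ← Matrix.mulVec_mulVec, TensorLinear.emb_mulVec, TensorLinear.con_pt,
      hχv, zero_smul] at h3
    exact hw ((smul_eq_zero.1 h3.symm).resolve_left (neg_ne_zero.2 h2))
  obtain ⟨χ, hχ⟩ := exists_dual_one hv
  have hsq : (A * A) ⊗ₖ (B * B) = (1 : Matrix ((Fin t → Fin m) × Fin m) ((Fin t → Fin m) × Fin m) F) := by
    rw [Matrix.mul_kronecker_mul, ← hAB, ← Units.val_mul, ← map_mul, huu, map_one, Units.val_one]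
  have hA2 : A * A = 1 := by
    refine Matrix.toLin'.injective (LinearMap.ext fun w => ?_)
    rw [Matrix.toLin'_apply, Matrix.toLin'_apply, Matrix.one_mulVec]
    have h4 := congrArg (fun M => TensorLinear.con (Fin t → Fin m) χ *ᵥ (M *ᵥ TensorLinear.pt w v)) hsq
    simp only [kron_mulVec_pt, Matrix.one_mulVec, ← Matrix.mulVec_mulVec, hBv, TensorLinear.con_pt, hχ,
      one_smul] at h4
    rw [← Matrix.mulVec_mulVec]
    exact h4
  have hB2 : B * B = 1 := by
    have h4 := hsq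
    rw [hA2] at h4
    ext p q
    have := congrFun (congrFun h4 ((fun _ => 0), p)) ((fun _ => 0), q)
    simpa [Matrix.one_apply] using this
  have hBne : B ≠ 1 := by
    intro hB1
    obtain ⟨w, hw⟩ : ∃ w : (Fin t → Fin m) → F, A *ᵥ w - w ≠ 0 := by
      by_contra! h
      refine hu1 ((spGL i).injective (Units.ext ?_))
      rw [map_one, hAB, hB1, Units.val_one, show A = 1 from Matrix.toLin'.injective (LinearMap.ext fun w => by
        rw [Matrix.toLin'_apply, Matrix.toLin'_apply, Matrix.one_mulVec]; exact sub_eq_zero.1 (h w)),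
        Matrix.one_kronecker_one]
    obtain ⟨x, hx0, hx⟩ := TensorLinear.exists_perp ![φ, χ]
      (show 2 < Fintype.card (Fin m) by rw [Fintype.card_fin]; omega)
    have hφx : φ ⬝ᵥ x = 0 := by rw [dotProduct_comm]; exact hx 0
    have hχx : χ ⬝ᵥ x = 0 := by rw [dotProduct_comm]; exact hx 1
    obtain ⟨d, hd⟩ := hD (A *ᵥ w - w) x hφx (by
      rw [kron_mulVec_pt, hB1, Matrix.one_mulVec, Matrix.mulVec_sub, Matrix.mulVec_mulVec, hA2, Matrix.one_mulVec]
      funext q
      simp [TensorLinear.pt]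
      ring) hw
    rw [hd, dotProduct_smul, hχ, smul_eq_mul, mul_one] at hχx
    exact hx0 (by rw [hd, hχx, zero_smul])
  have hA : A = -1 := by
    by_contra hA
    obtain ⟨w, hw⟩ : ∃ w : (Fin t → Fin m) → F, A *ᵥ w + w ≠ 0 := by
      by_contra! h
      refine hA (Matrix.toLin'.injective (LinearMap.ext fun w => ?_))
      rw [Matrix.toLin'_apply, Matrix.toLin'_apply, Matrix.neg_mulVec, Matrix.one_mulVec]
      exact eq_neg_of_add_eq_zero_left (h w)
    obtain ⟨z, hz⟩ : ∃ z : Fin m → F, B *ᵥ z - z ≠ 0 := by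
      by_contra! h
      exact hBne (Matrix.toLin'.injective (LinearMap.ext fun z => by
        rw [Matrix.toLin'_apply, Matrix.toLin'_apply, Matrix.one_mulVec]; exact sub_eq_zero.1 (h z)))
    have hBz : B *ᵥ (B *ᵥ z - z) = -(B *ᵥ z - z) := by
      rw [Matrix.mulVec_sub, Matrix.mulVec_mulVec, hB2, Matrix.one_mulVec]; abel
    obtain ⟨d, hd⟩ := hD (A *ᵥ w + w) (B *ᵥ z - z) (by
      rw [dotProduct_sub, Matrix.dotProduct_mulVec, hφB, sub_self]) (by
      rw [kron_mulVec_pt, hBz, Matrix.mulVec_add, Matrix.mulVec_mulVec, hA2, Matrix.one_mulVec]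
      funext q
      simp [TensorLinear.pt]
      ring) hw
    have h5 := hBz
    rw [hd, Matrix.mulVec_smul, hBv] at h5
    have h6 : (2 : F) • (d • v) = 0 := by rw [two_smul]; nth_rewrite 1 [h5]; exact neg_add_cancel _
    exact hz (hd.trans ((smul_eq_zero.1 h6).resolve_left h2))
  have hu : (u : Matrix (Fin (t + 1) → Fin m) (Fin (t + 1) → Fin m) F) = emb i (-B) := by
    refine (Matrix.reindex (sp i).symm (sp i).symm).injective ?_
    rw [Matrix.reindex_apply, Matrix.reindex_apply, Equiv.symm_symm, ← spGL_val, hAB, sub_emb, hA]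
    ext p q
    simp [Matrix.kroneckerMap_apply]
  refine hs (C.one s hsX i (-B) (-1) v hv (by rw [Matrix.neg_mulVec, hBv, neg_one_smul]) (fun d hd => ?_) ?_)
  · have h6 : B = (-d) • (1 : Matrix (Fin m) (Fin m) F) := by rw [neg_smul, ← hd, neg_neg]
    have h7 := hBv
    rw [h6, Matrix.smul_mulVec, Matrix.one_mulVec] at h7
    obtain ⟨a', ha'⟩ := Function.ne_iff.1 hv
    have h8 := congrFun h7 a'
    rw [Pi.smul_apply, smul_eq_mul] at h8
    exact hBne (by rw [h6, mul_left_eq_self₀.1 h8 |>.resolve_right ha', one_smul])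
  · rw [← hu, hbs]
    exact ((Commute.one_right _).add_right hub).symm

end CfsgLib.Geo.TensorWreath
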