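/-
Overgroups in characteristic two.
-/
import Cfsg.Agent.Lib.Geo.TensorWreath.Odd
import Cfsg.Agent.Lib.Geo.TensorWreath.Fac
import Cfsg.Agent.Lib.Geo.TensorWreath.Dihedral
import Mathlib.FieldTheory.Finite.Basic

set_option autoImplicit false

namespace CfsgLib.Geo.TensorWreath

open Matrix CfsgLib.Geo.SpinTensor

variable {F : Type*} [Field F] [Fintype F] [CharP F 2] {t m : ℕ} {X : Subgroup (GL (Fin (t + 1) → Fin m) F)}

omit [Fintype F] in
theorem root_sq {r : GL (Fin t → Fin m) F} (hr : IsRoot r) : r * r = 1 := sq_eq_one hr.mul_self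

omit [Fintype F] in
theorem sub_one_sq {B : GL (Fin m) F} (hB : B * B = 1) :
    ((B : Matrix (Fin m) (Fin m) F) - 1) * ((B : Matrix (Fin m) (Fin m) F) - 1) = 0 := by
  rw [sub_mul, mul_sub, mul_one, one_mul, ← Units.val_mul, hB, Units.val_one]
  ext a b
  simp only [Matrix.sub_apply, Matrix.zero_apply]
  rw [show ((1 : Matrix (Fin m) (Fin m) F) a b - (B : Matrix (Fin m) (Fin m) F) a b) -
    ((B : Matrix (Fin m) (Fin m) F) a b - (1 : Matrix (Fin m) (Fin m) F) a b) =
    ((1 : Matrix (Fin m) (Fin m) F) a b - (B : Matrix (Fin m) (Fin m) F) a b) +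
      ((1 : Matrix (Fin m) (Fin m) F) a b - (B : Matrix (Fin m) (Fin m) F) a b) by ring]
  exact CharTwo.add_self_eq_zero _

omit [Fintype F] in
/-- The centraliser of a one-factor involution is standard. -/
theorem std_of_commute_inv (C : Ctx X) {y : GL (Fin (t + 1) → Fin m) F} (hy : y ∈ X) {i : Fin (t + 1)}
    {B : GL (Fin m) F} (hB : B * B = 1) (hB1 : B ≠ 1) (hc : Commute y (fac i B)) : IsStd y := by
  set N := (B : Matrix (Fin m) (Fin m) F) - 1
  have hN2 : N * N = 0 := sub_one_sq hB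
  obtain ⟨c, hc'⟩ : ∃ c, N *ᵥ Pi.single c (1 : F) ≠ 0 := by
    by_contra! h
    refine hB1 (Units.ext (sub_eq_zero.1 (Matrix.ext fun a b => ?_)))
    have := congrFun (h b) a
    rwa [Matrix.mulVec_single_one] at this
  refine C.one y hy i (B : Matrix (Fin m) (Fin m) F) 1 _ hc' ?_ (fun d hd => ?_) ?_
  · rw [one_smul, show (B : Matrix (Fin m) (Fin m) F) = N + 1 by simp [N], Matrix.add_mulVec, Matrix.one_mulVec,
      Matrix.mulVec_mulVec, hN2, Matrix.zero_mulVec, zero_add]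
  · have h1 : N = (d - 1) • (1 : Matrix (Fin m) (Fin m) F) := by simp [N, hd, sub_smul]
    have h3 := hN2
    rw [h1, smul_mul_smul_comm, mul_one] at h3
    have h4 : d = 1 := by
      have h5 := congrFun (congrFun h3 c) c
      simpa [sub_eq_zero] using h5
    exact hc' (by rw [h1, h4, sub_self, zero_smul, Matrix.zero_mulVec])
  · rw [← val_fac]
    exact congrArg Units.val hc.eq

/-- Roots commuting with a set which a non-standard element centralises. -/
theorem root_conj (C : Ctx X) (S : Set (GL (Fin (t + 1) → Fin m) F)) {y : GL (Fin (t + 1) → Fin m) F} (hy : y ∈ X)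
    (hys : ¬ IsStd y) (hyS : ∀ z ∈ S, Commute z y) {r r₀ : GL (Fin (t + 1) → Fin m) F} (hr : IsRoot r)
    (hr₀ : IsRoot r₀) (hrS : ∀ z ∈ S, Commute z r) (hr₀S : ∀ z ∈ S, Commute z r₀) :
    ∃ h ∈ X, IsStd h ∧ (∀ z ∈ S, Commute z h) ∧ (h * r₀ * h⁻¹ = r ∨
      ((∀ l A B, r = fac l A → h * r₀ * h⁻¹ = fac l B → False) ∧
        ∃ s ∈ X, ¬ IsStd s ∧ (∀ z ∈ S, Commute z s) ∧ Commute s (r * (h * r₀ * h⁻¹)))) := by
  have hrX := C.base r hr.isStd hr.mem_sl
  have hr₀X := C.base r₀ hr₀.isStd hr₀.mem_sl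
  set s := y * r₀ * y⁻¹
  have hsX : s ∈ X := X.mul_mem (X.mul_mem hy hr₀X) (X.inv_mem hy)
  have hs : ¬ IsStd s := fun h => hys (isStd_of_conj_root C hr₀ hy h)
  have hs2 : s * s = 1 := by
    rw [show s * s = y * (r₀ * r₀) * y⁻¹ by simp only [s]; group, root_sq hr₀, mul_one, mul_inv_cancel]
  have hsS : ∀ z ∈ S, Commute z s := fun z hz =>
    ((hyS z hz).mul_right (hr₀S z hz)).mul_right (hyS z hz).inv_right
  obtain ⟨z₀, hz₀, hP, hor⟩ := exists_two_power (root_sq hr) hs2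
  haveI : Fact (Nat.Prime 2) := ⟨Nat.prime_two⟩
  have hz₀X : z₀ ∈ X := (Subgroup.zpowers_le.2 (X.mul_mem hrX hsX)) hz₀
  have hzS : ∀ z ∈ S, Commute z z₀ := fun z hz => by
    obtain ⟨k, rfl⟩ := Subgroup.mem_zpowers_iff.1 hz₀
    exact ((hrS z hz).mul_right (hsS z hz)).zpow_right k
  have hPX : Subgroup.closure {r, z₀ * s * z₀⁻¹} ≤ X := (Subgroup.closure_le X).2 (by
    rintro x (rfl | rfl)
    · exact hrX
    · exact X.mul_mem (X.mul_mem hz₀X hsX) (X.inv_mem hz₀X))
  have hstd := std_of_pGroup C hP hPX hr (Subgroup.subset_closure (Set.mem_insert _ _)) _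
    (Subgroup.subset_closure (Set.mem_insert_of_mem _ rfl))
  have e : z₀ * s * z₀⁻¹ = z₀ * y * r₀ * (z₀ * y)⁻¹ := by simp only [s]; group
  rw [e] at hstd hor
  have hhX : z₀ * y ∈ X := X.mul_mem hz₀X hy
  have hh := isStd_of_conj_root C hr₀ hhX hstd
  refine ⟨z₀ * y, hhX, hh, fun z hz => (hzS z hz).mul_right (hyS z hz), ?_⟩
  rcases hor with hor | ⟨u, hu1, hu2, -, hus, n, hu, -⟩
  · exact Or.inl hor
  right
  set r' := z₀ * y * r₀ * (z₀ * y)⁻¹
  have hpos : ∀ l A B, r = fac l A → r' = fac l B → False := by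
    intro l A B hA hB
    rw [hA, hB, ← map_mul, ← map_pow] at hu
    refine hs (std_of_commute_inv C hsX (i := l) (B := (A * B) ^ 2 ^ n) ?_ (fun h1 => hu1 (by rw [hu, h1, map_one]))
      (hu ▸ hus.symm))
    exact fac_injective C.three l (by rw [map_mul, ← hu, hu2, map_one])
  refine ⟨hpos, s, hsX, hs, hsS, ?_⟩
  have hr' : IsRoot r' := isRoot_of_conj C hr₀ hhX hstd
  obtain ⟨i, v, φ, hvφ, -, -, hi⟩ := hr.exists_fac
  obtain ⟨k, w, ψ, hwψ, -, -, hk⟩ := hr'.exists_fac
  have hcomm : Commute r r' := by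
    by_cases hik : i = k
    · subst hik; exact (hpos i _ _ hi hk).elim
    · rw [hi, hk]; exact fac_commute hik _ _
  have hqq : (r * r') * (r * r') = 1 := by
    rw [hcomm.symm.mul_mul_mul_comm, root_sq hr, root_sq hr', one_mul]
  rcases n with _ | n
  · rw [pow_zero, pow_one] at hu
    exact hu ▸ hus.symm
  · exact absurd (by rw [hu, pow_succ', pow_mul, pow_two, hqq, one_pow]) hu1

omit [Fintype F] [CharP F 2] in
/-- Standard elements commuting with a product of two roots on different factors. -/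
theorem perm_roots (hm : 3 ≤ m) {h : GL (Fin t → Fin m) F} {gs : Fin t → GL (Fin m) F} {π : Equiv.Perm (Fin t)}
    (e : h = pureGL gs * permGL m F π) {i j : Fin t} (hij : i ≠ j) {v φ w ψ : Fin m → F} (hv : φ ⬝ᵥ v = 0)
    (hw : ψ ⬝ᵥ w = 0) (hv0 : v ≠ 0) (hφ0 : φ ≠ 0)
    (hc : Commute h (fac i (trv v φ hv) * fac j (trv w ψ hw))) :
    (π i = i ∧ h * fac i (trv v φ hv) * h⁻¹ = fac i (trv v φ hv)) ∨
      (π i = j ∧ h * fac i (trv v φ hv) * h⁻¹ = fac j (trv w ψ hw)) := by
  classical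
  set T := trv v φ hv
  set U := trv w ψ hw
  set g := gs (π i)
  have hprod : fac (π i) (g * T * g⁻¹) * fac (π j) (gs (π j) * U * (gs (π j))⁻¹) = fac i T * fac j U := by
    rw [← conj_fac e, ← conj_fac e]
    calc h * fac i T * h⁻¹ * (h * fac j U * h⁻¹) = h * (fac i T * fac j U) * h⁻¹ := by group
      _ = _ := by rw [hc.eq, mul_inv_cancel_right]
  rw [fac_apply, fac_apply, fac_apply, fac_apply, pureGL_mul, pureGL_mul] at hprod
  obtain ⟨c, hcE⟩ := pureGL_eq hm hprod (π i)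
  have hT1 : g * T * g⁻¹ = trv ((g : Matrix (Fin m) (Fin m) F) *ᵥ v)
      (φ ᵥ* ((g⁻¹ : GL (Fin m) F) : Matrix (Fin m) (Fin m) F)) ((dot_conj g.inv_mul v φ).trans hv) := conj_trv g hv
  have hg1 : (g : Matrix (Fin m) (Fin m) F) *ᵥ v ≠ 0 := gl_mulVec_ne_zero g hv0
  have hg2 : φ ᵥ* ((g⁻¹ : GL (Fin m) F) : Matrix (Fin m) (Fin m) F) ≠ 0 := fun h0 => hφ0 (by
    have := congrArg (· ᵥ* (g : Matrix (Fin m) (Fin m) F)) h0
    simpa [Matrix.vecMul_vecMul] using this)
  rw [Pi.mul_apply, Pi.mul_apply, Function.update_self,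
    Function.update_of_ne (fun h0 => hij (π.injective h0)), Pi.one_apply, mul_one, hT1] at hcE
  rw [show h * fac i T * h⁻¹ = fac (π i) (g * T * g⁻¹) from conj_fac e i T, hT1]
  by_cases hi : π i = i
  · left
    rw [hi, Function.update_self, Function.update_of_ne hij, Pi.one_apply, mul_one] at hcE
    refine ⟨hi, ?_⟩
    rw [hi]
    congr 1
    have h2 := trv_smul hm hcE
    rw [h2.1, one_smul] at hcE
    exact Units.ext hcE
  by_cases hj : π i = j
  · right
    rw [hj, Function.update_self, Function.update_of_ne hij.symm, Pi.one_apply, one_mul] at hcE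
    refine ⟨hj, ?_⟩
    rw [hj]
    congr 1
    have h2 := trv_smul hm hcE
    rw [h2.1, one_smul] at hcE
    exact Units.ext hcE
  exfalso
  rw [Function.update_of_ne hi, Function.update_of_ne hj, Pi.one_apply, mul_one, Units.val_one] at hcE
  exact trv_not_scalar hm _ hg1 hg2 c hcE

/-- The centraliser of a product of two roots on different factors is standard. -/
theorem std_of_commute_two (C : Ctx X) {y : GL (Fin (t + 1) → Fin m) F} (hy : y ∈ X) {r₁ r₂ : GL (Fin (t + 1) → Fin m) F}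
    (h₁ : IsRoot r₁) (h₂ : IsRoot r₂) (hpos : ∀ l A B, r₁ = fac l A → r₂ = fac l B → False)
    (hc : Commute y (r₁ * r₂)) : IsStd y := by
  classical
  by_contra hys
  obtain ⟨i, v, φ, hvφ, hv, hφ, rfl⟩ := h₁.exists_fac
  obtain ⟨j, w, ψ, hwψ, hw, hψ, rfl⟩ := h₂.exists_fac
  have hij : i ≠ j := fun e => by subst e; exact hpos _ _ _ rfl rfl
  set T := trv v φ hvφ
  set U := trv w ψ hwψ
  obtain ⟨d, hd⟩ := TensorLinear.exists_dual hφ
  rw [dotProduct_comm] at hd
  obtain ⟨φ', hφ'0, hφ'⟩ := TensorLinear.exists_perp ![v, d]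
    (show 2 < Fintype.card (Fin m) by rw [Fintype.card_fin]; have := C.three; omega)
  have hv' : φ' ⬝ᵥ v = 0 := hφ' 0
  have hne : φ' ≠ φ := fun e => zero_ne_one ((hφ' 1).symm.trans (e ▸ hd))
  set T' := trv v φ' hv'
  have hTT' : Commute T T' := by
    refine Units.ext ?_
    show (1 + Matrix.vecMulVec v φ) * (1 + Matrix.vecMulVec v φ') = (1 + Matrix.vecMulVec v φ') * (1 + Matrix.vecMulVec v φ)
    simp only [add_mul, mul_add, one_mul, mul_one, Matrix.vecMulVec_mul_vecMulVec, hvφ, hv', zero_smul,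
      Matrix.vecMulVec_zero, add_zero]
    abel
  have hT'T : T' ≠ T := fun e => by
    have h1 := congrArg Units.val e
    have h2 := add_left_cancel (show 1 + Matrix.vecMulVec v φ' = 1 + Matrix.vecMulVec v φ from h1)
    refine hne (funext fun b => ?_)
    obtain ⟨a, ha⟩ := Function.ne_iff.1 hv
    exact mul_left_cancel₀ ha (congrFun (congrFun h2 a) b)
  have hr₀ : IsRoot (fac i T') := isRoot_fac_trv i hv' hv hφ'0
  obtain ⟨h, -, hh, hhS, hor⟩ := root_conj C {fac i T * fac j U} hy hys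
    (by rintro z rfl; exact hc.symm) h₁ hr₀
    (by rintro z rfl; exact ((Commute.refl _).mul_left (fac_commute hij T U).symm))
    (by rintro z rfl; exact ((hTT'.map (fac i)).mul_left (fac_commute hij T' U).symm))
  obtain ⟨π, gs, eh⟩ := hh.hasPerm
  have hcw : Commute h (fac i T * fac j U) := (hhS _ rfl).symm
  rcases perm_roots C.three eh hij hvφ hwψ hv hφ hcw with ⟨hπ, hfix⟩ | ⟨hπ, hmove⟩
  · rcases hor with e | ⟨hp, -⟩
    · rw [← hfix] at e
      exact hT'T (fac_injective C.three i (mul_left_cancel (mul_right_cancel e)))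
    · refine hp i T (gs i * T' * (gs i)⁻¹) rfl ?_
      rw [conj_fac eh, hπ]
  · have hr' : h * fac i T' * h⁻¹ = fac j (gs j * T' * (gs j)⁻¹) := by rw [conj_fac eh, hπ]
    have hU : gs j * T * (gs j)⁻¹ = U := fac_injective C.three j (by rw [← hmove, conj_fac eh, hπ])
    set U' := gs j * T' * (gs j)⁻¹
    rcases hor with e | ⟨-, s, hsX, hs, hsS, hsc⟩
    · rw [hr'] at e
      obtain ⟨c, hc'⟩ := pureGL_eq C.three (show pureGL (Function.update 1 i T) = pureGL (Function.update 1 j U') from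
        e.symm) i
      rw [Function.update_self, Function.update_of_ne hij, Pi.one_apply, Units.val_one] at hc'
      exact trv_not_scalar C.three hvφ hv hφ c hc'
    · rw [hr'] at hsc
      have hUU' : Commute U U' := by rw [← hU]; exact hTT'.map (MulAut.conj (gs j))
      have hne' : U * U' ≠ 1 := fun e => by
        have h1 : U⁻¹ = U' := inv_eq_of_mul_eq_one_right e
        rw [inv_eq_of_mul_eq_one_right (fac_injective C.three j (by rw [map_mul, root_sq h₂, map_one])), ← hU] at h1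
        exact hT'T (mul_left_cancel (mul_right_cancel h1)).symm
      have hsw : Commute s (fac i T * fac j U) := (hsS _ rfl).symm
      have key : fac i T * fac j U * (fac i T * fac j U') = fac j (U * U') := by
        rw [(fac_commute hij T U).eq, mul_assoc, ← mul_assoc (fac i T), root_sq h₁, one_mul, ← map_mul]
      have hroot : IsRoot (h * fac i T' * h⁻¹) := hr₀.conj hh
      rw [hr'] at hroot
      refine hs (std_of_commute_inv C hsX (i := j) ?_ hne' (key ▸ hsw.mul_right hsc))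
      refine fac_injective C.three j ?_
      rw [map_mul, map_mul, map_one, (hUU'.map (fac j)).symm.mul_mul_mul_comm, root_sq hroot, mul_one, root_sq h₂]

/-- In characteristic two every element of the overgroup is standard. -/
theorem isStd_of_even (C : Ctx X) {g₀ : GL (Fin (t + 1) → Fin m) F} (hg₀ : g₀ ∈ X) : IsStd g₀ := by
  classical
  have hm := C.three
  haveI : NeZero m := ⟨by omega⟩
  haveI : Fact (Nat.Prime 2) := ⟨Nat.prime_two⟩
  obtain ⟨e₀, he₀⟩ : ∃ e : Fin 3 → Fin m → F, e = fun a => Pi.single ⟨a, by omega⟩ 1 := ⟨_, rfl⟩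
  have hne : ∀ a, e₀ a ≠ 0 := fun a => Function.ne_iff.2 ⟨⟨a, by omega⟩, by simp [he₀]⟩
  have hdot : ∀ a b, a ≠ b → e₀ a ⬝ᵥ e₀ b = 0 := fun a b hab => by
    simp [he₀, Fin.ext_iff, Fin.val_ne_of_ne hab.symm]
  have hone : ∀ a, e₀ a ⬝ᵥ e₀ a = 1 := fun a => by simp [he₀]
  have h01 := hdot 1 0 (by decide)
  have h12 := hdot 2 1 (by decide)
  have h02 := hdot 2 0 (by decide)
  obtain ⟨i, j, hij⟩ : ∃ i j : Fin (t + 1), i ≠ j :=
    ⟨⟨0, by omega⟩, ⟨1, by have := C.two; omega⟩, by simp [Fin.ext_iff]⟩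
  set T := trv (e₀ 0) (e₀ 1) h01
  set K := trv (e₀ 1) (e₀ 2) h12
  set E := trv (e₀ 0) (e₀ 2) h02
  set r := fac i T
  have hr : IsRoot r := isRoot_fac_trv i h01 (hne _) (hne _)
  have hrj : IsRoot (fac j T) := isRoot_fac_trv j h01 (hne _) (hne _)
  set w := r * fac j T
  have hpos : ∀ l A B, r = fac l A → fac j T = fac l B → False := by
    intro l A B hA hB
    by_cases hli : l = i
    · subst hli
      obtain ⟨c, hc⟩ := pureGL_eq hm (show pureGL (Function.update 1 j T) = pureGL (Function.update 1 l B) from hB) j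
      rw [Function.update_self, Function.update_of_ne hij.symm, Pi.one_apply, Units.val_one] at hc
      exact trv_not_scalar hm h01 (hne _) (hne _) c hc
    · obtain ⟨c, hc⟩ := pureGL_eq hm (show pureGL (Function.update 1 i T) = pureGL (Function.update 1 l A) from hA) i
      rw [Function.update_self, Function.update_of_ne (Ne.symm hli), Pi.one_apply, Units.val_one] at hc
      exact trv_not_scalar hm h01 (hne _) (hne _) c hc
  have hw2 : w * w = 1 := by
    rw [show w * w = r * r * (fac j T * fac j T) from (fac_commute hij T T).symm.mul_mul_mul_comm _ _,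
      root_sq hr, root_sq hrj, one_mul]
  have hwX : w ∈ X := X.mul_mem (C.base _ hr.isStd hr.mem_sl) (C.base _ hrj.isStd hrj.mem_sl)
  by_cases hall : ∀ g ∈ X, IsStd (g * w * g⁻¹)
  · have hk : IsRoot (fac i K) := isRoot_fac_trv i h12 (hne _) (hne _)
    have hkX := C.base _ hk.isStd hk.mem_sl
    have hρ : w * (fac i K * w * (fac i K)⁻¹) = fac i E := by
      have hcj : ∀ A, Commute (fac i A) (fac j T) := fun A => fac_commute hij A T
      rw [show fac i K * w * (fac i K)⁻¹ = fac i (K * T * K⁻¹) * fac j T by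
        show fac i K * (fac i T * fac j T) * (fac i K)⁻¹ = _
        rw [map_mul, map_mul, map_inv, mul_assoc, mul_assoc (fac i T), ← (hcj K).inv_left.eq]
        simp only [mul_assoc]]
      rw [show w * (fac i (K * T * K⁻¹) * fac j T) = fac i T * fac i (K * T * K⁻¹) * (fac j T * fac j T) from
        (hcj (K * T * K⁻¹)).symm.mul_mul_mul_comm _ _, root_sq hrj, mul_one, ← map_mul]
      congr 1
      refine Units.ext ?_
      show (1 + Matrix.vecMulVec (e₀ 0) (e₀ 1)) * ((1 + Matrix.vecMulVec (e₀ 1) (e₀ 2)) *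
        (1 + Matrix.vecMulVec (e₀ 0) (e₀ 1)) * (1 - Matrix.vecMulVec (e₀ 1) (e₀ 2))) =
        1 + Matrix.vecMulVec (e₀ 0) (e₀ 2)
      have h2 : ∀ Y : Matrix (Fin m) (Fin m) F, Y + Y = 0 := fun Y => by ext a b; exact CharTwo.add_self_eq_zero _
      have hneg : ∀ Y : Matrix (Fin m) (Fin m) F, -Y = Y := fun Y => neg_eq_of_add_eq_zero_right (h2 Y)
      simp only [sub_eq_add_neg, hneg, add_mul, mul_add, one_mul, mul_one, Matrix.vecMulVec_mul_vecMulVec, h01, h12,
        h02, hone, zero_smul, one_smul, Matrix.vecMulVec_zero, add_zero, zero_add]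
      calc _ = Matrix.vecMulVec (e₀ 0) (e₀ 2) + (1 + (Matrix.vecMulVec (e₀ 0) (e₀ 1) + Matrix.vecMulVec (e₀ 0) (e₀ 1)) +
            (Matrix.vecMulVec (e₀ 1) (e₀ 2) + Matrix.vecMulVec (e₀ 1) (e₀ 2)) +
            (Matrix.vecMulVec (e₀ 0) (e₀ 2) + Matrix.vecMulVec (e₀ 0) (e₀ 2))) := by abel
        _ = _ := by rw [h2, h2, h2]; abel
    refine isStd_of_conj_root C (isRoot_fac_trv i h02 (hne _) (hne _)) hg₀ ?_
    rw [← hρ, show g₀ * (w * (fac i K * w * (fac i K)⁻¹)) * g₀⁻¹ =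
      (g₀ * w * g₀⁻¹) * (g₀ * fac i K * w * (g₀ * fac i K)⁻¹) by group]
    exact (hall g₀ hg₀).mul (hall _ (X.mul_mem hg₀ hkX))
  exfalso
  push Not at hall
  obtain ⟨g, hg, hx⟩ := hall
  set x := g * w * g⁻¹
  have hxX : x ∈ X := X.mul_mem (X.mul_mem hg hwX) (X.inv_mem hg)
  have hx2 : x * x = 1 := by
    rw [show x * x = g * (w * w) * g⁻¹ by simp only [x]; group, hw2, mul_one, mul_inv_cancel]
  obtain ⟨z, hz, hP, hor⟩ := exists_two_power (root_sq hr) hx2
  have hrX := C.base r hr.isStd hr.mem_sl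
  have hzX : z ∈ X := (Subgroup.zpowers_le.2 (X.mul_mem hrX hxX)) hz
  set y := z * g
  have hyX : y ∈ X := X.mul_mem hzX hg
  have e : z * x * z⁻¹ = y * w * y⁻¹ := by simp only [x, y]; group
  rw [e] at hP hor
  have hPX : Subgroup.closure {r, y * w * y⁻¹} ≤ X := (Subgroup.closure_le X).2 (by
    rintro a (rfl | rfl)
    · exact hrX
    · exact X.mul_mem (X.mul_mem hyX hwX) (X.inv_mem hyX))
  have hPstd := std_of_pGroup C hP hPX hr (Subgroup.subset_closure (Set.mem_insert _ _))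
  have hx'P : y * w * y⁻¹ ∈ Subgroup.closure {r, y * w * y⁻¹} :=
    Subgroup.subset_closure (Set.mem_insert_of_mem _ rfl)
  rcases hor with hor | ⟨u, hu1, hu2, hur, hux, n, hu, hn⟩
  · have h1 : y⁻¹ * r * y⁻¹⁻¹ = w := by rw [← hor]; group
    have hw : IsRoot w := h1 ▸ isRoot_of_conj C hr (X.inv_mem hyX) (h1 ▸ hr.isStd.mul hrj.isStd)
    obtain ⟨l, v', φ', hl, -, -, hwl⟩ := hw.exists_fac
    have hmul : pureGL (Function.update (1 : Fin (t + 1) → GL (Fin m) F) i T * Function.update (1 : Fin (t + 1) → GL (Fin m) F) j T) =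
        pureGL (Function.update 1 l (trv v' φ' hl)) := by
      rw [← pureGL_mul]; exact hwl
    by_cases hli : l = i
    · subst hli
      obtain ⟨c, hc⟩ := pureGL_eq hm hmul j
      rw [Pi.mul_apply, Function.update_self, Function.update_of_ne hij.symm, Function.update_of_ne hij.symm,
        Pi.one_apply, one_mul, Units.val_one] at hc
      exact trv_not_scalar hm h01 (hne _) (hne _) c hc
    · obtain ⟨c, hc⟩ := pureGL_eq hm hmul i
      rw [Pi.mul_apply, Function.update_self, Function.update_of_ne hij, Function.update_of_ne (Ne.symm hli),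
        Pi.one_apply, mul_one, Units.val_one] at hc
      exact trv_not_scalar hm h01 (hne _) (hne _) c hc
  have hu_perm : HasPerm u 1 := by
    have hr1 := hr.hasPerm_one
    rcases n with _ | n
    · have hcomm := hn rfl
      rw [hu, pow_zero, pow_one]
      have h1 : Commute (y⁻¹ * r * y) w := by
        have h2 := hcomm.map (MulAut.conj y⁻¹)
        simp only [MulAut.conj_apply, inv_inv] at h2
        rwa [show y⁻¹ * (y * w * y⁻¹) * y = w by group] at h2
      have h3 : IsStd (y⁻¹ * r * y⁻¹⁻¹) := by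
        rw [inv_inv]
        exact std_of_commute_two C (X.mul_mem (X.mul_mem (X.inv_mem hyX) hrX) hyX) hr hrj hpos h1
      have hys : IsStd y := by simpa using (isStd_of_conj_root C hr (X.inv_mem hyX) h3).inv
      obtain ⟨π, hπ⟩ := hys.hasPerm
      have hw1 : HasPerm w 1 := by
        have := (hasPerm_fac (F := F) i T).mul (hasPerm_fac j T)
        rwa [one_mul] at this
      have := hr1.mul ((hπ.mul hw1).mul hπ.inv)
      rwa [mul_one, mul_inv_cancel, one_mul] at this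
    · obtain ⟨π, hπ⟩ := (hPstd _ hx'P).hasPerm
      have h2 : (y * w * y⁻¹) * (y * w * y⁻¹) = 1 := by
        rw [show (y * w * y⁻¹) * (y * w * y⁻¹) = y * (w * w) * y⁻¹ by group, hw2, mul_one, mul_inv_cancel]
      have hπ2 : π * π = 1 := by
        have h3 := hπ.mul hπ
        rw [h2] at h3
        exact h3.unique hm hasPerm_one
      have h4 := (hr1.mul hπ).pow (2 ^ (n + 1))
      rw [one_mul, show π ^ 2 ^ (n + 1) = 1 by rw [pow_succ', pow_mul, pow_two, hπ2, one_pow]] at h4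
      rw [hu]
      exact h4
  obtain ⟨gs, hgs⟩ := hu_perm
  rw [permGL_one, mul_one] at hgs
  have hsq : ∀ l, ∃ d : F, d ≠ 0 ∧ ((gs l * gs l : GL (Fin m) F) : Matrix (Fin m) (Fin m) F) = (d * d) • 1 := by
    intro l
    have h1 : pureGL (gs * gs) = pureGL (1 : Fin (t + 1) → GL (Fin m) F) := by
      rw [← pureGL_mul, ← hgs, hu2, pureGL_one]
    obtain ⟨c, hc⟩ := pureGL_eq hm h1 l
    rw [Pi.one_apply, Units.val_one, Pi.mul_apply] at hc
    have hc0 : c ≠ 0 := fun h => Units.ne_zero (gs l * gs l) (by rw [hc, h, zero_smul])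
    obtain ⟨d, hd⟩ := FiniteField.isSquare_of_char_two (ringChar.eq F 2) c
    exact ⟨d, fun h => hc0 (by rw [hd, h, mul_zero]), by rw [hc, hd]⟩
  choose d hd0 hd using hsq
  let bs : Fin (t + 1) → GL (Fin m) F := fun l =>
    Units.mk ((d l)⁻¹ • (gs l : Matrix (Fin m) (Fin m) F)) ((d l)⁻¹ • (gs l : Matrix (Fin m) (Fin m) F))
      (by rw [smul_mul_smul_comm, ← Units.val_mul, hd, smul_smul, ← mul_inv, inv_mul_cancel₀ (mul_ne_zero (hd0 l) (hd0 l)), one_smul])
      (by rw [smul_mul_smul_comm, ← Units.val_mul, hd, smul_smul, ← mul_inv, inv_mul_cancel₀ (mul_ne_zero (hd0 l) (hd0 l)), one_smul])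
  have hbs2 : ∀ l, bs l * bs l = 1 := fun l => Units.ext (bs l).val_inv
  have hbu : u = pureGL bs := by
    have h1 : (u : Matrix (Fin (t + 1) → Fin m) (Fin (t + 1) → Fin m) F) =
        (∏ l, d l) • (pureGL bs : Matrix (Fin (t + 1) → Fin m) (Fin (t + 1) → Fin m) F) := by
      rw [hgs]
      ext a b
      show ∏ l, (gs l : Matrix (Fin m) (Fin m) F) (a l) (b l) =
        (∏ l, d l) * ∏ l, ((d l)⁻¹ • (gs l : Matrix (Fin m) (Fin m) F)) (a l) (b l)
      rw [← Finset.prod_mul_distrib]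
      exact Finset.prod_congr rfl fun l _ => by rw [Matrix.smul_apply, smul_eq_mul, mul_inv_cancel_left₀ (hd0 l)]
    have h2 : pureGL bs * pureGL bs = 1 := by
      rw [pureGL_mul, show bs * bs = 1 from funext hbs2, pureGL_one]
    have h3 := congrArg Units.val hu2
    rw [Units.val_mul, h1, smul_mul_smul_comm, ← Units.val_mul, h2, Units.val_one] at h3
    have h4 := congrFun (congrFun h3 (fun _ => 0)) (fun _ => 0)
    simp at h4
    have h5 : (∏ l, d l) = 1 := by
      have h6 : ((∏ l, d l) - 1) * ((∏ l, d l) - 1) = 0 := by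
        linear_combination h4 + (-(∏ l, d l) + 1) * (CharTwo.two_eq_zero (R := F))
      exact sub_eq_zero.1 (mul_self_eq_zero.1 h6)
    exact Units.ext (by rw [h1, h5, one_smul])
  obtain ⟨l, hl⟩ : ∃ l, bs l ≠ 1 := by
    by_contra! h
    exact hu1 (by rw [hbu, show bs = 1 from funext h, pureGL_one])
  set B := (bs l : Matrix (Fin m) (Fin m) F)
  set N := B - 1
  have hN2 : N * N = 0 := sub_one_sq (hbs2 l)
  obtain ⟨c₀, hc₀⟩ : ∃ c, N *ᵥ Pi.single c (1 : F) ≠ 0 := by
    by_contra! h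
    refine hl (Units.ext (sub_eq_zero.1 (Matrix.ext fun a b => ?_)))
    have := congrFun (h b) a
    rwa [Matrix.mulVec_single_one] at this
  set w₀ : Fin m → F := Pi.single c₀ 1
  set v := N *ᵥ w₀
  obtain ⟨a₀, ha₀⟩ := Function.ne_iff.1 hc₀
  set φ₂ : Fin m → F := fun b => N a₀ b
  have hNv : N *ᵥ v = 0 := by rw [Matrix.mulVec_mulVec, hN2, Matrix.zero_mulVec]
  have hφ₂N : φ₂ ᵥ* N = 0 := funext fun b => congrFun (congrFun hN2 a₀) b
  have hdotN : ∀ φ : Fin m → F, φ ᵥ* N = 0 → φ ⬝ᵥ v = 0 := fun φ h => by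
    rw [Matrix.dotProduct_mulVec, h, zero_dotProduct]
  have hφ₂ : φ₂ ≠ 0 := fun h => ha₀ (show φ₂ ⬝ᵥ w₀ = 0 by rw [h, zero_dotProduct])
  obtain ⟨φ₁, hφ₁, hφ₁N, hφ₁w⟩ : ∃ φ : Fin m → F, φ ≠ 0 ∧ φ ᵥ* N = 0 ∧ φ ⬝ᵥ w₀ = 0 := by
    by_cases hrow : ∃ a b, v a • (fun c => N b c) - v b • (fun c => N a c) ≠ 0
    · obtain ⟨a, b, hab⟩ := hrow
      refine ⟨_, hab, ?_, ?_⟩
      · rw [Matrix.sub_vecMul, Matrix.smul_vecMul, Matrix.smul_vecMul,
          show (fun c => N b c) ᵥ* N = 0 from funext fun e => congrFun (congrFun hN2 b) e,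
          show (fun c => N a c) ᵥ* N = 0 from funext fun e => congrFun (congrFun hN2 a) e, smul_zero, smul_zero,
          sub_zero]
      · rw [sub_dotProduct, smul_dotProduct, smul_dotProduct]
        show v a * v b - v b * v a = 0
        ring
    · push Not at hrow
      obtain ⟨φ, hφ, hperp⟩ := TensorLinear.exists_perp ![v, w₀]
        (show 2 < Fintype.card (Fin m) by rw [Fintype.card_fin]; omega)
      refine ⟨φ, hφ, funext fun e => ?_, hperp 1⟩
      refine (mul_eq_zero.1 (?_ : v a₀ * (φ ᵥ* N) e = 0)).resolve_left ha₀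
      have hN : ∀ b, v a₀ * N b e = v b * N a₀ e := fun b => by
        have := congrFun (hrow a₀ b) e
        simpa [sub_eq_zero] using this
      rw [Matrix.vecMul, dotProduct, Finset.mul_sum,
        Finset.sum_congr rfl fun b _ => by rw [mul_left_comm, hN, ← mul_assoc], ← Finset.sum_mul,
        show ∑ b, φ b * v b = 0 from hperp 0, zero_mul]
  set T₁ := trv v φ₁ (hdotN _ hφ₁N)
  set T₂ := trv v φ₂ (hdotN _ hφ₂N)
  have hBv : B *ᵥ v = v := by
    rw [show B = N + 1 by simp [N], Matrix.add_mulVec, Matrix.one_mulVec, hNv, zero_add]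
  have hcomm : ∀ φ (h : φ ᵥ* N = 0), Commute u (fac l (trv v φ (hdotN φ h))) := by
    intro φ h
    have hφB : φ ᵥ* B = φ := by
      rw [show B = N + 1 by simp [N], Matrix.vecMul_add, Matrix.vecMul_one, h, zero_add]
    have hc : Commute (bs l) (trv v φ (hdotN φ h)) := by
      refine Units.ext ?_
      show B * (1 + Matrix.vecMulVec v φ) = (1 + Matrix.vecMulVec v φ) * B
      rw [mul_add, mul_one, add_mul, one_mul, Matrix.mul_vecMulVec, hBv, Matrix.vecMulVec_mul, hφB]
    rw [hbu]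
    show pureGL bs * fac l _ = fac l _ * pureGL bs
    rw [fac_apply, pureGL_mul, pureGL_mul]
    congr 1
    funext k
    by_cases hk : k = l
    · subst hk; simpa using hc.eq
    · simp [Function.update_of_ne hk]
  obtain ⟨h, -, hh, hhS, hor'⟩ := root_conj C {u} hxX hx (by rintro a rfl; exact hux)
    (isRoot_fac_trv l (hdotN _ hφ₂N) hc₀ hφ₂) (isRoot_fac_trv l (hdotN _ hφ₁N) hc₀ hφ₁)
    (by rintro a rfl; exact hcomm _ hφ₂N) (by rintro a rfl; exact hcomm _ hφ₁N)
  rcases hor' with heq | ⟨hp, s, hsX, hs, -, hsc⟩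
  swap
  · exact hs (std_of_commute_two C hsX (isRoot_fac_trv l (hdotN _ hφ₂N) hc₀ hφ₂)
      ((isRoot_fac_trv l (hdotN _ hφ₁N) hc₀ hφ₁).conj hh) hp hsc)
  obtain ⟨π, hs', eh⟩ := hh.hasPerm
  rw [conj_fac eh] at heq
  have hπl : π l = l := by
    by_contra hπ
    obtain ⟨c, hc⟩ := pureGL_eq hm (show pureGL (Function.update 1 l T₂) =
      pureGL (Function.update 1 (π l) (hs' (π l) * T₁ * (hs' (π l))⁻¹)) from heq.symm) l
    rw [Function.update_self, Function.update_of_ne (Ne.symm hπ), Pi.one_apply, Units.val_one] at hc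
    exact trv_not_scalar hm (hdotN _ hφ₂N) hc₀ hφ₂ c hc
  rw [hπl] at heq
  set G := hs' l
  have hG : G * T₁ * G⁻¹ = T₂ := fac_injective hm l heq
  have hGB : G * bs l = bs l * G := by
    have h1 : h * pureGL bs * h⁻¹ = pureGL bs := by
      rw [← hbu, (hhS u rfl).symm.eq, mul_inv_cancel_right]
    rw [conj_pureGL eh] at h1
    obtain ⟨c, hc⟩ := pureGL_eq hm h1 l
    rw [show π⁻¹ l = l from π.injective (by simp [hπl])] at hc
    have h2 : (((G * bs l * G⁻¹) * (G * bs l * G⁻¹) : GL (Fin m) F) : Matrix (Fin m) (Fin m) F) = (c * c) • 1 := by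
      rw [Units.val_mul, hc, smul_mul_smul_comm, ← Units.val_mul, hbs2, Units.val_one]
    rw [show (G * bs l * G⁻¹) * (G * bs l * G⁻¹) = G * (bs l * bs l) * G⁻¹ by group, hbs2, mul_one, mul_inv_cancel,
      Units.val_one] at h2
    have h3 := congrFun (congrFun h2 0) 0
    simp at h3
    have hc1 : c = 1 := by
      have h6 : (c - 1) * (c - 1) = 0 := by linear_combination -h3 + (-c + 1) * (CharTwo.two_eq_zero (R := F))
      exact sub_eq_zero.1 (mul_self_eq_zero.1 h6)
    rw [hc1, one_smul] at hc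
    exact mul_inv_eq_iff_eq_mul.1 (Units.ext hc)
  rw [conj_trv] at hG
  have hM : Matrix.vecMulVec ((G : Matrix (Fin m) (Fin m) F) *ᵥ v)
      (φ₁ ᵥ* ((G⁻¹ : GL (Fin m) F) : Matrix (Fin m) (Fin m) F)) = Matrix.vecMulVec v φ₂ :=
    add_left_cancel (congrArg Units.val hG)
  have hNG : N * (G : Matrix (Fin m) (Fin m) F) = (G : Matrix (Fin m) (Fin m) F) * N := by
    rw [sub_mul, mul_sub, one_mul, mul_one, ← Units.val_mul, ← Units.val_mul, hGB]
  have h1 := congrArg (fun M : Matrix (Fin m) (Fin m) F => M *ᵥ ((G : Matrix (Fin m) (Fin m) F) *ᵥ w₀)) hM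
  replace h1 : Matrix.vecMulVec ((G : Matrix (Fin m) (Fin m) F) *ᵥ v)
      (φ₁ ᵥ* ((G⁻¹ : GL (Fin m) F) : Matrix (Fin m) (Fin m) F)) *ᵥ ((G : Matrix (Fin m) (Fin m) F) *ᵥ w₀) =
      Matrix.vecMulVec v φ₂ *ᵥ ((G : Matrix (Fin m) (Fin m) F) *ᵥ w₀) := h1
  rw [Matrix.vecMulVec_mulVec, Matrix.vecMulVec_mulVec, ← Matrix.dotProduct_mulVec,
    Matrix.mulVec_mulVec w₀ ((G⁻¹ : GL (Fin m) F) : Matrix (Fin m) (Fin m) F) (G : Matrix (Fin m) (Fin m) F),
    Units.inv_mul, Matrix.one_mulVec, hφ₁w, MulOpposite.op_zero, zero_smul] at h1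
  have h2 : φ₂ ⬝ᵥ ((G : Matrix (Fin m) (Fin m) F) *ᵥ w₀) = ((G : Matrix (Fin m) (Fin m) F) *ᵥ v) a₀ := by
    show (N *ᵥ ((G : Matrix (Fin m) (Fin m) F) *ᵥ w₀)) a₀ = _
    rw [Matrix.mulVec_mulVec, hNG, ← Matrix.mulVec_mulVec]
  rw [h2] at h1
  have h3 := congrFun h1.symm a₀
  simp only [Pi.smul_apply, op_smul_eq_smul, smul_eq_mul, Pi.zero_apply] at h3
  have hga : ((G : Matrix (Fin m) (Fin m) F) *ᵥ v) a₀ = 0 := (mul_eq_zero.1 h3).resolve_right ha₀
  obtain ⟨b, hb⟩ := Function.ne_iff.1 (show φ₁ ᵥ* ((G⁻¹ : GL (Fin m) F) : Matrix (Fin m) (Fin m) F) ≠ 0 from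
    fun h0 => hφ₁ (by simpa [Matrix.vecMul_vecMul] using congrArg (· ᵥ* (G : Matrix (Fin m) (Fin m) F)) h0))
  obtain ⟨a, ha⟩ := Function.ne_iff.1 (gl_mulVec_ne_zero G hc₀)
  have e1 := congrFun (congrFun hM a₀) b
  have e2 := congrFun (congrFun hM a) b
  rw [Matrix.vecMulVec_apply, Matrix.vecMulVec_apply] at e1 e2
  rw [hga, zero_mul] at e1
  have hφb : φ₂ b = 0 := (mul_eq_zero.1 e1.symm).resolve_left ha₀
  rw [hφb, mul_zero] at e2
  exact mul_ne_zero ha hb e2

end CfsgLib.Geo.TensorWreath
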