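/-
The tensor-wreath group of the special linear group is maximal.
-/
import Cfsg.Agent.Lib.Geo.TensorWreath.Even

set_option autoImplicit false

namespace CfsgLib.Geo.TensorWreath

open Matrix CfsgLib.Geo.SpinTensor

variable {F : Type*} [Field F] [Fintype F] {m : ℕ}

/-- An overgroup of the standard elements with a non-standard element contains the special linear group. -/
theorem specialLinear_le {t : ℕ} (hm : 3 ≤ m) (ht : 1 ≤ t) (Y : Subgroup (GL (Fin t → Fin m) F))
    (base : ∀ g, IsStd g → g ∈ Cfsg.Geo.specialLinear (Fin t → Fin m) F → g ∈ Y)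
    (hy : ∃ y ∈ Y, ¬ IsStd y) : Cfsg.Geo.specialLinear (Fin t → Fin m) F ≤ Y := by
  induction t, ht using Nat.le_induction with
  | base =>
    obtain ⟨y, -, hy⟩ := hy
    exact absurd (isStd_fin_one y) hy
  | succ t ht IH =>
    by_contra hns
    obtain ⟨y, hyY, hys⟩ := hy
    have C : Ctx Y := ctx_of base hm ht hns fun Z hZ hz => IH Z hZ hz
    rcases eq_or_ne (2 : F) 0 with h2 | h2
    · haveI : CharP F 2 := CharTwo.of_one_ne_zero_of_two_eq_zero one_ne_zero h2
      exact hys (isStd_of_even C hyY)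
    · exact hys (isStd_of_odd C h2 hyY)

theorem not_isStd_transvection {t : ℕ} (hm : 3 ≤ m) (ht : 2 ≤ t) :
    ∃ x ∈ Cfsg.Geo.specialLinear (Fin t → Fin m) F, ¬ IsStd x := by
  classical
  set p : Fin t → Fin m := fun _ => ⟨0, by omega⟩
  set q : Fin t → Fin m := fun _ => ⟨1, by omega⟩
  have hpq : p ≠ q := fun h => by simpa [p, q] using congrFun h ⟨0, by omega⟩
  let T : GL (Fin t → Fin m) F := Matrix.GeneralLinearGroup.mkOfDetNeZero (1 + Matrix.single p q 1) (by
    rw [show (1 + Matrix.single p q (1 : F)).det = 1 from Matrix.det_transvection_of_ne p q hpq 1]; exact one_ne_zero)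
  refine ⟨T, MonoidHom.mem_ker.2 (Units.ext (Matrix.det_transvection_of_ne p q hpq 1)), ?_⟩
  rintro ⟨gs, π, e⟩
  set ξ : Fin t → Fin m → F := fun _ => Pi.single ⟨1, by omega⟩ 1
  have hξ : ∀ c, pvec ξ c = if c = q then 1 else 0 := fun c => by
    simp only [pvec, ξ, Pi.single_apply]
    split_ifs with h
    · exact Finset.prod_eq_one fun l _ => by rw [h]; simp [q]
    · obtain ⟨l, hl⟩ := Function.ne_iff.1 h
      exact Finset.prod_eq_zero (Finset.mem_univ l) (if_neg (by simpa [q] using hl))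
  have himg := isStd_mulVec e ξ
  set η : Fin t → Fin m → F := fun l => (gs l : Matrix (Fin m) (Fin m) F) *ᵥ ξ (π⁻¹ l)
  have hval : ∀ c, pvec η c = (if c = q then 1 else 0) + if c = p then 1 else 0 := fun c => by
    rw [← himg]
    show ((1 + Matrix.single p q (1 : F)) *ᵥ pvec ξ) c = _
    rw [Matrix.add_mulVec, Matrix.one_mulVec, Pi.add_apply, hξ, Matrix.mulVec, dotProduct,
      Finset.sum_eq_single q (fun b _ hb => by simp [hξ, hb]) (fun h => absurd (Finset.mem_univ _) h), hξ, if_pos rfl,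
      mul_one, Matrix.single_apply]
    simp [eq_comm]
  set l : Fin t := ⟨0, by omega⟩
  have hA := hval p
  have hB := hval q
  have hC := hval (Function.update q l ⟨0, by omega⟩)
  have h1 : Function.update q l (⟨0, by omega⟩ : Fin m) ≠ q := fun h => by
    simpa [q] using congrFun h l
  have h2 : Function.update q l (⟨0, by omega⟩ : Fin m) ≠ p := fun h => by
    have hl : (⟨1, by omega⟩ : Fin t) ≠ l := by simp [l, Fin.ext_iff]
    simpa [p, q, Function.update_of_ne hl] using congrFun h ⟨1, by omega⟩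
  rw [if_neg h1, if_neg h2, add_zero, pvec_apply_update] at hC
  rw [if_pos rfl, if_neg hpq.symm, add_zero, pvec, ← Finset.mul_prod_erase _ _ (Finset.mem_univ l)] at hB
  rw [if_neg hpq, if_pos rfl, zero_add, pvec, ← Finset.mul_prod_erase _ _ (Finset.mem_univ l)] at hA
  rcases mul_eq_zero.1 hC with h | h
  · rw [show p l = (⟨0, by omega⟩ : Fin m) from rfl, h, zero_mul] at hA
    exact zero_ne_one hA
  · rw [h, mul_zero] at hB
    exact zero_ne_one hB

/-- The stabiliser of a tensor power decomposition is maximal in the special linear group. -/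
theorem maximal {n : ℕ} {t : ℕ} (hm : 3 ≤ m) (ht : 2 ≤ t) (e : Fin n ≃ (Fin t → Fin m)) (P : GL (Fin n) F) :
    Cfsg.Geo.IsMaximalIn (Cfsg.Geo.specialLinear (Fin n) F)
      (Cfsg.Geo.tensorWreathSubgroup m t e P ⊓ Cfsg.Geo.specialLinear (Fin n) F) := by
  classical
  let Ψ : GL (Fin t → Fin m) F ≃* GL (Fin n) F := (Cfsg.Geo.glReindex e.symm).trans (MulAut.conj P)
  have hK : Cfsg.Geo.tensorWreathSubgroup m t e P =
      (Cfsg.Geo.tensorWreathStandard m t F).map Ψ.toMonoidHom := by
    rw [Cfsg.Geo.tensorWreathSubgroup, Subgroup.map_map]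
    rfl
  have hmemK : ∀ x, Ψ x ∈ Cfsg.Geo.tensorWreathSubgroup m t e P ↔ IsStd x := by
    intro x
    rw [hK, ← mem_std_iff]
    constructor
    · rintro ⟨y, hy, e'⟩
      rwa [← Ψ.injective e']
    · exact fun hx => ⟨x, hx, rfl⟩
  have hdet : ∀ x : GL (Fin t → Fin m) F,
      Ψ x ∈ Cfsg.Geo.specialLinear (Fin n) F ↔ x ∈ Cfsg.Geo.specialLinear (Fin t → Fin m) F := by
    intro x
    have hr : Matrix.GeneralLinearGroup.det (Cfsg.Geo.glReindex e.symm x) = Matrix.GeneralLinearGroup.det x := by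
      refine Units.ext ?_
      show ((Matrix.reindexAlgEquiv F F e.symm) (x : Matrix (Fin t → Fin m) (Fin t → Fin m) F)).det = _
      rw [Matrix.det_reindexAlgEquiv]
      rfl
    show MulAut.conj P (Cfsg.Geo.glReindex e.symm x) ∈ _ ↔ _
    rw [Cfsg.Geo.specialLinear, Cfsg.Geo.specialLinear, MonoidHom.mem_ker, MonoidHom.mem_ker, MulAut.conj_apply,
      map_mul, map_mul, hr, map_inv, mul_inv_cancel_comm]
  refine ⟨lt_of_le_of_ne inf_le_right fun heq => ?_, fun M hHM hMK => ?_⟩
  · obtain ⟨x, hx, hxs⟩ := not_isStd_transvection (F := F) hm ht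
    have h := (hdet x).2 hx
    rw [← heq] at h
    exact hxs ((hmemK x).1 h.1)
  by_cases hM : M ≤ Cfsg.Geo.tensorWreathSubgroup m t e P
  · exact Or.inl (le_antisymm (le_inf hM hMK) hHM)
  right
  obtain ⟨g, hg, hgT⟩ := SetLike.not_le_iff_exists.1 hM
  refine le_antisymm hMK fun x hx => ?_
  have hle := specialLinear_le hm (by omega) (M.comap Ψ.toMonoidHom)
    (fun y hy hy1 => Subgroup.mem_comap.2 (hHM ⟨(hmemK y).2 hy, (hdet y).2 hy1⟩))
    ⟨Ψ.symm g, by rw [Subgroup.mem_comap, MulEquiv.coe_toMonoidHom, MulEquiv.apply_symm_apply]; exact hg,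
      fun hs => hgT (by
        have := (hmemK (Ψ.symm g)).2 hs
        rwa [MulEquiv.apply_symm_apply] at this)⟩
  have := hle ((hdet (Ψ.symm x)).1 (by rwa [MulEquiv.apply_symm_apply]))
  rwa [Subgroup.mem_comap, MulEquiv.coe_toMonoidHom, MulEquiv.apply_symm_apply] at this

end CfsgLib.Geo.TensorWreath
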